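import Cfsg.Agent.H982.TWModel
import Cfsg.Agent.Lib.LocalCore
import Cfsg.Agent.Lib.GenFitting
import Cfsg.Agent.Lib.NormalAbelian
import Cfsg.Agent.SignalizersComponents.Components
import Cfsg.Agent.Lib.Cores
import Cfsg.Agent.SignalizersComponents.ComponentImage
import Cfsg.Agent.SignalizersComponents.ComponentExists
import Mathlib.FieldTheory.KummerPolynomial
import Mathlib
import Cfsg.Agent.H920.Basic
import Cfsg.Agent.H918.UProper
import Cfsg.Agent.ClassicalGeometry.HermParabolic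
import Cfsg.Agent.ClassicalGeometry.PSUAutMain
import Cfsg.Agent.LieClassical.GUOrder
import Cfsg.Agent.H924.Idem
import Cfsg.Agent.Lib.AutSL2Out
import Cfsg.Agent.SignalizersComponents.SLQuasisimple
import Cfsg.Agent.SignalizersComponents.CompBasic
import Cfsg.Agent.H199.PslGraphField
import Cfsg.Agent.FastGrp
import Cfsg.Agent.Prune
set_option linter.all false

section
prune_inst 0x7f00000000000000000000000000000000000000000000000000000000000000000000000000000000000000000000000000000000000000000000000000000000000000000000000000000000000000003fffffffffefffffffffffffffffaeffbdffffffff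

section
prune_inst 0xfebcfbabf9bddeffff7ff7aeffddfdfdbcffffacdffdfbbfe821dfafdf6b0ac9e5b3adebfb4aff1ff7c31414e87b43fdffcfffea6bdc7ffffd5ff45ffbff9ffdf7bd0851d688340fbc2fff83f07f8e7f000000000010000000000000000010004200000000

-- part: H607/TW/Basic
section
prune_inst 0x420004020000000000085100020202400000532002004015da2050200075361248121404b000e00030aa221000b802000000059001800002000820040000020842a72c21340b104250007c0f807180c00000000000000000000000000041000000000000
set_option linter.all false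
open scoped Cfsg.Agent.FastGrp

/-!
# S3694: abstract lemmas about `Loc` and `Sit` (helper607)
-/

set_option autoImplicit false

namespace Cfsg.Agent.H607.TW

open Subgroup Cfsg Cfsg.Agent.Lib

universe u

variable {G : Type u} [Group G] {N A C A₁ C₁ A₂ C₂ : Subgroup G} {r d : ℕ}

theorem le_normalizer_of_conj {A X : Subgroup G} (h : ∀ g ∈ A, ∀ x ∈ X, g * x * g⁻¹ ∈ X) :
    A ≤ normalizer (X : Set G) := by
  intro g hg
  rw [mem_normalizer_iff]
  intro x
  constructor
  · exact h g hg x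
  · intro hx
    have := h g⁻¹ (A.inv_mem hg) _ hx
    simpa [mul_assoc] using this

theorem conj_mem_of_norm {A X : Subgroup G} (h : A ≤ normalizer (X : Set G)) {g x : G} (hg : g ∈ A) (hx : x ∈ X) :
    g * x * g⁻¹ ∈ X := (mem_normalizer_iff.mp (h hg) x).mp hx

theorem le_normalizer_inf' {A X Y : Subgroup G} (hX : A ≤ normalizer (X : Set G)) (hY : A ≤ normalizer (Y : Set G)) :
    A ≤ normalizer ((X ⊓ Y : Subgroup G) : Set G) :=
  le_normalizer_of_conj fun _ hg _ hx => ⟨conj_mem_of_norm hX hg hx.1, conj_mem_of_norm hY hg hx.2⟩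

theorem le_normalizer_of_normal {A : Subgroup G} (N : Subgroup G) (hN : N.Normal) : A ≤ normalizer (N : Set G) :=
  le_normalizer_of_conj fun g _ x hx => hN.conj_mem x hx g

/-! ### The core `O_r(A)` -/

theorem OO_le (r : ℕ) (A : Subgroup G) : OO r A ≤ A := map_subtype_le _

theorem le_normalizer_OO (r : ℕ) (A : Subgroup G) : A ≤ normalizer (OO r A : Set G) :=
  LocalCore.le_normalizer_map_pCore r A

theorem isPGroup_OO (r : ℕ) (A : Subgroup G) : IsPGroup r ↥(OO r A) := LocalCore.isPGroup_map_pCore r A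

theorem le_OO {K : Subgroup G} (hKA : K ≤ A) (hK : IsPGroup r ↥K) (hn : A ≤ normalizer (K : Set G)) : K ≤ OO r A :=
  LocalCore.le_map_pCore hKA hK hn

theorem conj_mem_OO {g x : G} (hg : g ∈ A) (hx : x ∈ OO r A) : g * x * g⁻¹ ∈ OO r A :=
  conj_mem_of_norm (le_normalizer_OO r A) hg hx

theorem OO_map (r : ℕ) (A : Subgroup G) (e : G ≃* G) : OO r (A.map e.toMonoidHom) = (OO r A).map e.toMonoidHom := by
  have key : ∀ (A : Subgroup G) (e : G ≃* G), (OO r A).map e.toMonoidHom ≤ OO r (A.map e.toMonoidHom) := by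
    intro A e
    apply le_OO
    · exact map_mono (OO_le r A)
    · exact (isPGroup_OO r A).map _
    · apply le_normalizer_of_conj
      rintro _ ⟨g, hg, rfl⟩ _ ⟨x, hx, rfl⟩
      exact ⟨g * x * g⁻¹, conj_mem_OO hg hx, by simp only [_root_.MulEquiv.toMonoidHom_eq_coe, _root_.MonoidHom.coe_coe, _root_.map_mul, _root_.map_inv]⟩
  apply le_antisymm _ (key A e)
  have h := key (A.map e.toMonoidHom) e.symm
  have h2 := map_mono (f := e.toMonoidHom) h
  have h3 : ∀ B : Subgroup G, (B.map e.symm.toMonoidHom).map e.toMonoidHom = B := by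
    intro B
    rw [map_map]
    have : e.toMonoidHom.comp e.symm.toMonoidHom = MonoidHom.id G := by
      ext x; simp
    rw [this, map_id]
  have h4 : (A.map e.toMonoidHom).map e.symm.toMonoidHom = A := by
    rw [map_map]
    have : e.symm.toMonoidHom.comp e.toMonoidHom = MonoidHom.id G := by
      ext x; simp
    rw [this, map_id]
  rw [h3, h4] at h2
  exact h2

/-- `F*` is invariant under isomorphisms. -/
theorem map_genFit {X Y : Type*} [Group X] [Group Y] (e : X ≃* Y) :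
    (generalizedFittingSubgroup X).map e.toMonoidHom = generalizedFittingSubgroup Y := by
  rw [generalizedFittingSubgroup, generalizedFittingSubgroup, Subgroup.map_sup,
    SignalizersComponents.Components.map_equiv_layer e]
  congr 1
  exact Cores.map_equiv_fittingSubgroup e

namespace Loc

variable (h : Loc N A r)
include h

theorem fact : Fact r.Prime := ⟨h.prime⟩

theorem N_ne_bot : N ≠ ⊥ := by
  intro hN
  have := h.simple.toNontrivial
  rw [hN] at this
  exact not_nontrivial _ this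

theorem sup_eq_top : N ⊔ A = ⊤ := by
  refine (h.max.le_iff.mp (le_sup_right : A ≤ N ⊔ A)).resolve_right fun h1 => h.not_le ?_
  rw [← h1]
  exact le_sup_left

/-- every element of `G` is a product of an element of `N` and one of `A` -/
theorem exists_mul (g : G) : ∃ x ∈ N, ∃ a ∈ A, g = x * a := by
  have := h.normal
  have h1 : g ∈ N ⊔ A := by rw [h.sup_eq_top]; exact mem_top g
  rw [Subgroup.mem_sup_of_normal_left] at h1
  obtain ⟨x, hx, a, ha, rfl⟩ := h1
  exact ⟨x, hx, a, ha, rfl⟩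

/-- An element of `G` commuting with `N` is trivial. -/
theorem eq_one_of_comm {g : G} (hg : ∀ x ∈ N, g * x = x * g) : g = 1 := by
  have h1 : g ∈ centralizer (N : Set G) := by
    rw [mem_centralizer_iff]
    intro x hx
    exact (hg x hx).symm
  rwa [h.cent, mem_bot] at h1

/-- A nontrivial normal subgroup of `G` contains `N`. -/
theorem eq_bot_or_le {H : Subgroup G} (hH : H.Normal) : H = ⊥ ∨ N ≤ H := by
  have hN := h.normal
  have hs := h.simple
  rcases hs.eq_bot_or_eq_top_of_normal (H.subgroupOf N) inferInstance with h1 | h1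
  · left
    rw [eq_bot_iff]
    intro x hx
    rw [mem_bot]
    apply h.eq_one_of_comm
    intro y hy
    have h2 : x * y * x⁻¹ * y⁻¹ ∈ H ⊓ N := by
      refine ⟨?_, ?_⟩
      · have : y * x⁻¹ * y⁻¹ ∈ H := hH.conj_mem _ (H.inv_mem hx) y
        have := H.mul_mem hx this
        simpa only [mul_assoc, _root_.Subgroup.coe_toSubmonoid, _root_.SetLike.mem_coe] using this
      · exact N.mul_mem (hN.conj_mem y hy x) (N.inv_mem hy)
    have h3 : (⟨x * y * x⁻¹ * y⁻¹, h2.2⟩ : N) ∈ H.subgroupOf N := h2.1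
    rw [h1, mem_bot] at h3
    have h4 : x * y * x⁻¹ * y⁻¹ = 1 := congrArg Subtype.val h3
    rw [mul_inv_eq_one, mul_inv_eq_iff_eq_mul] at h4
    exact h4
  · right
    rwa [subgroupOf_eq_top] at h1

/-- A nontrivial subgroup normalised by `A` and not containing `N` has the normalizer `A`. -/
theorem normalizer_eq {H : Subgroup G} (hA : A ≤ normalizer (H : Set G)) (h1 : H ≠ ⊥) (h2 : ¬ N ≤ H) :
    normalizer (H : Set G) = A := by
  rcases h.max.le_iff.mp hA with h3 | h3
  · exact absurd (h.eq_bot_or_le (normalizer_eq_top_iff.mp h3)) (by tauto)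
  · exact h3

/-- A subgroup normalised by `A` and not containing `N` lies in `A`. -/
theorem le_of_norm {H : Subgroup G} (hA : A ≤ normalizer (H : Set G)) (h2 : ¬ N ≤ H) : H ≤ A := by
  by_cases h1 : H = ⊥
  · rw [h1]; exact bot_le
  · calc H ≤ normalizer (H : Set G) := le_normalizer
      _ = A := h.normalizer_eq hA h1 h2

/-- A proper subgroup of `N` normalised by `A` lies in `A`. -/
theorem le_of_norm' {H : Subgroup G} (hHN : H ≤ N) (hne : H ≠ N) (hA : A ≤ normalizer (H : Set G)) : H ≤ A :=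
  h.le_of_norm hA fun h1 => hne (le_antisymm hHN h1)

theorem not_N_le_of_le {H : Subgroup G} (hH : H ≤ A) : ¬ N ≤ H := fun h1 => h.not_le (h1.trans hH)

theorem eq_of_both {C : Subgroup G} {s : ℕ} (hC : Loc N C s) {H : Subgroup G} (h1 : H ≠ ⊥) (h2 : ¬ N ≤ H)
    (hAH : A ≤ normalizer (H : Set G)) (hCH : C ≤ normalizer (H : Set G)) : A = C := by
  rw [← h.normalizer_eq hAH h1 h2, ← hC.normalizer_eq hCH h1 h2]

theorem norm_inf : A ≤ normalizer ((A ⊓ N : Subgroup G) : Set G) :=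
  le_normalizer_inf' le_normalizer (le_normalizer_of_normal N h.normal)

theorem norm_OO_inf : A ≤ normalizer ((OO r A ⊓ N : Subgroup G) : Set G) :=
  le_normalizer_inf' (le_normalizer_OO r A) (le_normalizer_of_normal N h.normal)

/-- `A ∩ N = C ∩ N ≠ 1` implies `A = C`. -/
theorem eq_of_inf_eq {C : Subgroup G} {s : ℕ} (hC : Loc N C s) (hne : A ⊓ N ≠ ⊥) (heq : A ⊓ N = C ⊓ N) : A = C :=
  h.eq_of_both hC hne (h.not_N_le_of_le inf_le_left) h.norm_inf (by rw [heq]; exact hC.norm_inf)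

/-- `C_A(O_r(A)) ≤ O_r(A)`. -/
theorem mem_OO_of_comm [Finite G] {x : G} (hx : x ∈ A) (hc : ∀ y ∈ OO r A, x * y = y * x) : x ∈ OO r A := by
  have h1 : (⟨x, hx⟩ : ↥A) ∈ centralizer (generalizedFittingSubgroup ↥A : Set ↥A) := by
    rw [mem_centralizer_iff]
    intro y hy
    rw [SetLike.mem_coe, h.star] at hy
    exact Subtype.ext (hc y ⟨y, hy, rfl⟩).symm
  have h2 := GenFitting.centralizer_genFitting_le h1
  rw [h.star] at h2
  exact ⟨⟨x, hx⟩, h2, rfl⟩

theorem OO_ne_bot [Finite G] (hA : A ≠ ⊥) : OO r A ≠ ⊥ := by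
  intro h1
  apply hA
  rw [eq_bot_iff]
  intro x hx
  rw [← h1]
  apply h.mem_OO_of_comm hx
  intro y hy
  rw [h1, mem_bot] at hy
  rw [hy, mul_one, one_mul]

/-- a minimal normal subgroup of `A` inside `K`, central in `O_r(A)` and of exponent `r` -/
theorem exists_min [Finite G] {K : Subgroup G} (hK : K ≤ OO r A) (hn : A ≤ normalizer (K : Set G)) (hne : K ≠ ⊥) :
    ∃ X : Subgroup G, X ≤ K ∧ X ≠ ⊥ ∧ A ≤ normalizer (X : Set G) ∧
      (∀ Y : Subgroup G, Y ≤ X → Y ≠ ⊥ → A ≤ normalizer (Y : Set G) → Y = X) ∧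
      (∀ x ∈ X, ∀ y ∈ OO r A, x * y = y * x) ∧ (∀ x ∈ X, x ^ r = 1) := by
  have := h.fact
  classical
  have hfin : Finite (Subgroup G) := inferInstance
  obtain ⟨X, ⟨hXK, hX1, hXn⟩, hmin⟩ := Set.Finite.exists_minimal (s := {X : Subgroup G | X ≤ K ∧ X ≠ ⊥ ∧ A ≤ normalizer (X : Set G)})
    (Set.toFinite _) ⟨K, le_rfl, hne, hn⟩
  have hmin' : ∀ Y : Subgroup G, Y ≤ X → Y ≠ ⊥ → A ≤ normalizer (Y : Set G) → Y = X := by
    intro Y hY hY1 hYn
    exact le_antisymm hY (hmin ⟨hY.trans hXK, hY1, hYn⟩ hY)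
  have hXO : X ≤ OO r A := hXK.trans hK
  have hnX : (X.subgroupOf (OO r A)).Normal := normal_subgroupOf_of_le_normalizer ((OO_le r A).trans hXn)
  have hX1' : X.subgroupOf (OO r A) ≠ ⊥ := by
    intro h1
    rw [subgroupOf_eq_bot, disjoint_iff, inf_eq_left.mpr hXO] at h1
    exact hX1 h1
  have hnil : Group.IsNilpotent ↥(OO r A) := (isPGroup_OO r A).isNilpotent
  have hcen := NormalAbelian.normal_inf_center_ne_bot (X.subgroupOf (OO r A)) hX1'
  set Y : Subgroup G := X ⊓ centralizer (OO r A : Set G) with hY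
  have hYn : A ≤ normalizer (Y : Set G) := by
    apply le_normalizer_of_conj
    rintro g hg x ⟨hx1, hx2⟩
    refine ⟨conj_mem_of_norm hXn hg hx1, ?_⟩
    have hx2' : x ∈ centralizer (OO r A : Set G) := hx2
    rw [mem_centralizer_iff] at hx2'
    change g * x * g⁻¹ ∈ centralizer (OO r A : Set G)
    rw [mem_centralizer_iff]
    intro y hy
    have h3 := hx2' (g⁻¹ * y * g) (by
      have := conj_mem_OO (r := r) (A.inv_mem hg) hy
      simpa using this)
    calc y * (g * x * g⁻¹) = g * ((g⁻¹ * y * g) * x) * g⁻¹ := by group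
      _ = g * (x * (g⁻¹ * y * g)) * g⁻¹ := by rw [h3]
      _ = g * x * g⁻¹ * y := by group
  have hY1 : Y ≠ ⊥ := by
    intro h1
    apply hcen
    rw [eq_bot_iff]
    rintro x ⟨hx1, hx2⟩
    have h3 : (x : G) ∈ Y := by
      refine ⟨hx1, ?_⟩
      change (x : G) ∈ centralizer (OO r A : Set G)
      rw [mem_centralizer_iff]
      intro y hy
      have := mem_center_iff.mp hx2 ⟨y, hy⟩
      exact congrArg Subtype.val this
    rw [h1, mem_bot] at h3
    rw [mem_bot]
    exact Subtype.ext h3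
  have hYX := hmin' Y inf_le_left hY1 hYn
  have hXc : ∀ x ∈ X, ∀ y ∈ OO r A, x * y = y * x := by
    intro x hx y hy
    rw [← hYX] at hx
    exact (mem_centralizer_iff.mp hx.2 y hy).symm
  refine ⟨X, hXK, hX1, hXn, hmin', hXc, ?_⟩
  -- exponent
  let Z : Subgroup G :=
    { carrier := {x | x ∈ X ∧ x ^ r = 1}
      one_mem' := ⟨X.one_mem, one_pow r⟩
      mul_mem' := by
        rintro x y ⟨hx, hx'⟩ ⟨hy, hy'⟩
        refine ⟨X.mul_mem hx hy, ?_⟩
        rw [(show Commute x y from hXc x hx y (hXO hy)).mul_pow, hx', hy', one_mul]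
      inv_mem' := by
        rintro x ⟨hx, hx'⟩
        exact ⟨X.inv_mem hx, by rw [inv_pow, hx', inv_one]⟩ }
  have hZX : Z ≤ X := fun x hx => hx.1
  have hZn : A ≤ normalizer (Z : Set G) := by
    apply le_normalizer_of_conj
    rintro g hg x ⟨hx1, hx2⟩
    refine ⟨conj_mem_of_norm hXn hg hx1, ?_⟩
    rw [conj_pow, hx2, mul_one, mul_inv_cancel]
  have hZ1 : Z ≠ ⊥ := by
    intro h1
    have hXp : IsPGroup r ↥X := (isPGroup_OO r A).to_le hXO
    have hnt : Nontrivial ↥X := (Subgroup.nontrivial_iff_ne_bot X).mpr hX1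
    have hdvd : r ∣ Nat.card ↥X := by
      obtain ⟨n, hn, hc⟩ := (IsPGroup.nontrivial_iff_card hXp).mp hnt
      rw [hc]
      exact dvd_pow_self r hn.ne'
    obtain ⟨x, hx⟩ := exists_prime_orderOf_dvd_card' r hdvd
    have h2 : (x : G) ∈ Z := by
      refine ⟨x.2, ?_⟩
      have := pow_orderOf_eq_one x
      rw [hx] at this
      exact congrArg Subtype.val this
    rw [h1, mem_bot] at h2
    have h3 : x = 1 := Subtype.ext h2
    rw [h3, orderOf_one] at hx
    exact h.prime.one_lt.ne hx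
  have hZe := hmin' Z hZX hZ1 hZn
  intro x hx
  rw [← hZe] at hx
  exact hx.2

/-- `|A| ≤ |A ∩ N| |G : N|` -/
theorem card_le [Finite G] : Nat.card ↥A ≤ Nat.card ↥(A ⊓ N : Subgroup G) * N.index := by
  have hN := h.normal
  have h1 : Nat.card ↥(A ⊓ N : Subgroup G) * N.relIndex A = Nat.card ↥A := by
    have := Subgroup.card_mul_index (N.subgroupOf A)
    rw [← this]
    congr 1
    have h2 : N.subgroupOf A = (A ⊓ N).subgroupOf A := by
      rw [inf_subgroupOf_left]
    rw [h2]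
    exact (Nat.card_congr (subgroupOfEquivOfLe inf_le_left).toEquiv).symm
  rw [← h1]
  exact Nat.mul_le_mul_left _ (Nat.le_of_dvd (Nat.pos_of_ne_zero index_ne_zero_of_finite)
    (relIndex_dvd_index_of_normal N A))

/-- `Loc` is invariant under conjugation. -/
theorem conj (g : G) : Loc N (A.map (MulAut.conj g).toMonoidHom) r where
  normal := h.normal
  simple := h.simple
  nonab := h.nonab
  cent := h.cent
  max := by
    have h1 := (MulAut.conj g).mapSubgroup.isCoatom_iff A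
    exact h1.mpr h.max
  not_le := by
    intro h1
    apply h.not_le
    intro x hx
    have h2 : g * x * g⁻¹ ∈ A.map (MulAut.conj g).toMonoidHom := h1 (h.normal.conj_mem x hx g)
    obtain ⟨y, hy, hxy⟩ := h2
    have h3 : g * y * g⁻¹ = g * x * g⁻¹ := hxy
    have : y = x := by simpa only [_root_.mul_left_inj, _root_.mul_right_inj] using h3
    rwa [← this]
  prime := h.prime
  star := by
    let e : ↥A ≃* ↥(A.map (MulAut.conj g).toMonoidHom) := (MulAut.conj g).subgroupMap A
    rw [← map_genFit e, ← Cores.map_equiv_pCore e r, h.star]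

end Loc

theorem card_mul_relIndex' {H K : Subgroup G} (h : H ≤ K) : Nat.card ↥H * H.relIndex K = Nat.card ↥K := by
  have h1 := (H.subgroupOf K).card_mul_index
  rwa [Nat.card_congr (subgroupOfEquivOfLe h).toEquiv] at h1

/-! ### The bound -/

theorem M_mono {d e : ℕ} (h : d ≤ e) : M d ≤ M e := by
  have h1 : Nat.factorial d ≤ Nat.factorial e := Nat.factorial_le h
  have h2 : Nat.factorial (d - 1) ≤ Nat.factorial (e - 1) := Nat.factorial_le (by omega)
  unfold M
  calc Nat.factorial d * (Nat.factorial (d - 1)) ^ d ≤ Nat.factorial e * (Nat.factorial (e - 1)) ^ d :=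
        Nat.mul_le_mul h1 (Nat.pow_le_pow_left h2 d)
    _ ≤ _ := Nat.mul_le_mul_left _ (Nat.pow_le_pow_right (Nat.factorial_pos _) h)

theorem M_five : M 5 = 955514880 := by decide

namespace Sit

theorem card_eq [Finite G] (h : Sit N A C A₁ C₁ A₂ C₂ r d) : Nat.card ↥C = Nat.card ↥A := by
  obtain ⟨g, rfl⟩ := h.conj
  exact card_map_of_injective (MulAut.conj g).injective

theorem symm [Finite G] (h : Sit N A C A₁ C₁ A₂ C₂ r d) : Sit N C A C₁ A₁ C₂ A₂ r d where
  locA := h.locC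
  locC := h.locA
  ne := h.ne.symm
  conj := by
    obtain ⟨g, hg⟩ := h.conj
    refine ⟨g⁻¹, ?_⟩
    rw [hg, Subgroup.map_map]
    have : (MulAut.conj g⁻¹).toMonoidHom.comp (MulAut.conj g).toMonoidHom = MonoidHom.id G := by
      ext x
      change g⁻¹ * (g * x * g⁻¹) * g⁻¹⁻¹ = x
      group
    rw [this, Subgroup.map_id]
  idx := by
    have h1 := h.idx
    have h2 : (A ⊓ C).relIndex A * Nat.card ↥(A ⊓ C : Subgroup G) = Nat.card ↥A := by
      rw [mul_comm]
      exact card_mul_relIndex' inf_le_left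
    have h3 : (C ⊓ A).relIndex C * Nat.card ↥(C ⊓ A : Subgroup G) = Nat.card ↥C := by
      rw [mul_comm]
      exact card_mul_relIndex' inf_le_left
    rw [h.card_eq, inf_comm, ← h2] at h3
    rw [← h1, inf_comm]
    exact Nat.eq_of_mul_eq_mul_right Nat.card_pos h3
  five := h.five
  A₁_le := by rw [inf_comm]; exact h.C₁_le
  C₁_le := by rw [inf_comm]; exact h.A₁_le
  A₁_norm := h.C₁_norm
  C₁_norm := h.A₁_norm
  A₂_le := by rw [inf_comm]; exact h.C₂_le
  C₂_le := by rw [inf_comm]; exact h.A₂_le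
  A₂_norm := h.C₂_norm
  C₂_norm := h.A₂_norm
  A₂_ne := h.C₂_ne
  C₂_ne := h.A₂_ne
  A₂_OO := h.C₂_OO
  C₂_OO := h.A₂_OO

variable (h : Sit N A C A₁ C₁ A₂ C₂ r d)
include h

theorem A₁_le_A : A₁ ≤ A := h.A₁_le.trans inf_le_left
theorem A₁_le_C : A₁ ≤ C := h.A₁_le.trans inf_le_right
theorem C₁_le_A : C₁ ≤ A := h.C₁_le.trans inf_le_left
theorem A₂_le_A₁ : A₂ ≤ A₁ := h.A₂_le.trans inf_le_left
theorem A₂_le_C₁ : A₂ ≤ C₁ := h.A₂_le.trans inf_le_right
theorem C₂_le_A₁ : C₂ ≤ A₁ := h.C₂_le.trans inf_le_left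
theorem A₂_le_A : A₂ ≤ A := h.A₂_le_A₁.trans h.A₁_le_A
theorem C₂_le_C : C₂ ≤ C := h.C₂_le_A₁.trans h.A₁_le_C

theorem A₂_OO_A : A₂ ≤ OO r A := le_OO h.A₂_le_A ((isPGroup_OO r C).to_le h.A₂_OO) h.A₂_norm
theorem C₂_OO_C : C₂ ≤ OO r C := le_OO h.C₂_le_C ((isPGroup_OO r A).to_le h.C₂_OO) h.C₂_norm

/-- small order is enough -/
theorem card_le_of_five {m : ℕ} (hm : Nat.card ↥A ≤ m) (h5 : m ≤ 955514880) : Nat.card ↥A ≤ M d := by
  refine (hm.trans h5).trans ?_
  rw [← M_five]
  exact M_mono h.five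

theorem card_le_M (hm : Nat.card ↥A ≤ M 5) : Nat.card ↥A ≤ M d := hm.trans (M_mono h.five)

theorem A_ne_bot : A ≠ ⊥ := by
  intro h1
  apply h.A₂_ne
  rw [eq_bot_iff, ← h1]
  exact h.A₂_le_A

/-- `A ≠ C`: nothing is normal in both -/
theorem false_of_both {H : Subgroup G} (h1 : H ≠ ⊥) (h2 : ¬ N ≤ H) (hAH : A ≤ normalizer (H : Set G))
    (hCH : C ≤ normalizer (H : Set G)) : False :=
  h.ne (h.locA.eq_of_both h.locC h1 h2 hAH hCH)

theorem false_of_both' {H : Subgroup G} (h1 : H ≠ ⊥) (h2 : H ≤ A) (hAH : A ≤ normalizer (H : Set G))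
    (hCH : C ≤ normalizer (H : Set G)) : False :=
  h.false_of_both h1 (h.locA.not_N_le_of_le h2) hAH hCH

theorem false_of_inf_eq (hne : A ⊓ N ≠ ⊥) (heq : A ⊓ N = C ⊓ N) : False :=
  h.ne (h.locA.eq_of_inf_eq h.locC hne heq)

end Sit

end Cfsg.Agent.H607.TW

private theorem dce_f7b3ce78565b : _root_.True := by
  try have : _root_.True := by simp only [_root_.Cfsg.generalizedFittingSubgroup.eq_1]
  exact _root_.True.intro
end

-- part: H607/TW/Defs2
section
set_option linter.all false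

/-!
# S3694: more definitions (helper607)
-/

set_option autoImplicit false

namespace Cfsg.Agent.H607.TW

open Subgroup

universe u

/-- The data of a minimal normal subgroup `X` of `A` inside `O_r(A) ∩ N` (from `Loc.exists_min`). -/
structure MinX {G : Type u} [Group G] (N A X : Subgroup G) (r : ℕ) : Prop where
  le : X ≤ OO r A ⊓ N
  ne : X ≠ ⊥
  norm : A ≤ normalizer (X : Set G)
  min : ∀ K : Subgroup G, K ≤ X → K ≠ ⊥ → A ≤ normalizer (K : Set G) → K = X
  comm : ∀ x ∈ X, ∀ y ∈ OO r A, x * y = y * x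
  exp : ∀ x ∈ X, x ^ r = 1

theorem Loc.exists_minX {G : Type u} [Group G] [Finite G] {N A : Subgroup G} {r : ℕ} (h : Loc N A r)
    (hne : OO r A ⊓ N ≠ ⊥) : ∃ X : Subgroup G, MinX N A X r := by
  obtain ⟨X, h1, h2, h3, h4, h5, h6⟩ := h.exists_min inf_le_left h.norm_OO_inf hne
  exact ⟨X, h1, h2, h3, h4, h5, h6⟩

/-- A subgroup `K` of `GL_n(F)` whose commutators are scalars and whose centre consists of scalars. -/
structure Tw {F : Type} [Field F] {n : ℕ} (K : Subgroup (Matrix.GeneralLinearGroup (Fin n) F)) : Prop where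
  comm : ∀ g ∈ K, ∀ h ∈ K, ∃ c : F, (g : Matrix (Fin n) (Fin n) F) * (h : Matrix (Fin n) (Fin n) F) =
    c • ((h : Matrix (Fin n) (Fin n) F) * (g : Matrix (Fin n) (Fin n) F))
  nondeg : ∀ g ∈ K, (∀ h ∈ K, g * h = h * g) → ∃ c : F, (g : Matrix (Fin n) (Fin n) F) = c • 1

end Cfsg.Agent.H607.TW
end

-- part: H748/TW/SubBase
section
prune_inst 0x10004140400000000000851000200004100005320020000051e20000014e51602485214042400c00020826112000000000000010002000000000080000000020800050029208a104240007802802000000000000000000000000000000041000000000000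
set_option linter.all false
open scoped Cfsg.Agent.FastGrp

/-!
# S3694, T3: invariant subalgebras, the abstract part (helper748)

* `le_or_eq` : a subgroup `K ≤ N` normalised by `A` lies in `A` or is `N`;
* `no_comp` : `A` has no component; `bot_of_pgroup` : normal `p`-subgroups of `A`, `p ≠ r`, are trivial;
* `HE ι E` : the elements of `S` with matrix in `E`; `HE_le` : `π (HE ι E) ≤ A` for `E ≠ ⊤` invariant;
* `mem_jac` : the Jacobson radical of a finite ring.
-/

set_option autoImplicit false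

namespace Cfsg.Agent.H748.TW

open Subgroup Cfsg Cfsg.Agent.H607.TW Cfsg.Agent.SignalizersComponents.Components

universe u

section Group

variable {G : Type u} [Group G] {N A : Subgroup G} {r : ℕ}

theorem le_normalizer_of {A K : Subgroup G} (h : ∀ a ∈ A, ∀ k ∈ K, a * k * a⁻¹ ∈ K) :
    A ≤ normalizer (K : Set G) := by
  intro a ha
  rw [mem_normalizer_iff]
  intro k
  refine ⟨fun hk => h a ha k hk, fun hk => ?_⟩
  have h1 := h a⁻¹ (inv_mem ha) _ hk
  have h2 : a⁻¹ * (a * k * a⁻¹) * a⁻¹⁻¹ = k := by group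
  rwa [h2] at h1

/-- **maximality** -/
theorem le_or_eq (h : Loc N A r) {K : Subgroup G} (hK : K ≤ N) (hn : A ≤ normalizer (K : Set G)) :
    K ≤ A ∨ K = N := by
  by_contra hcon
  push Not at hcon
  obtain ⟨h1, h2⟩ := hcon
  have h3 : A ⊔ K = ⊤ := h.max.2 _ (left_lt_sup.2 h1)
  have h4 : (K : Subgroup G).Normal := by
    rw [← normalizer_eq_top_iff, eq_top_iff, ← h3]
    exact sup_le hn le_normalizer
  have h5 := h.simple
  rcases h5.eq_bot_or_eq_top_of_normal (K.subgroupOf N) inferInstance with h6 | h6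
  · apply h1
    rw [subgroupOf_eq_bot, disjoint_iff, inf_eq_left.2 hK] at h6
    rw [h6]
    exact bot_le
  · rw [subgroupOf_eq_top] at h6
    exact h2 (le_antisymm hK h6)

/-- `A` has no component -/
theorem no_comp [Finite G] (h : Loc N A r) {K : Subgroup ↥A} (hK : IsComponent K) : False := by
  have hr : Fact r.Prime := ⟨h.prime⟩
  have h1 : K ≤ pCore r ↥A := by
    rw [← h.star]
    exact (component_le_layer hK).trans le_sup_left
  have h2 : IsPGroup r K := (Lib.Cores.pCore_isPGroup r).to_le h1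
  have h3 : Group.IsNilpotent K := h2.isNilpotent
  exact quasisimple_not_isSolvable hK.2 inferInstance

theorem bot_of_pgroup [Finite G] (h : Loc N A r) {K : Subgroup G} (hKA : K ≤ A) (hn : A ≤ normalizer (K : Set G))
    {p : ℕ} (hp : p.Prime) (hpr : p ≠ r) (hP : IsPGroup p K) : K = ⊥ := by
  have hr : Fact r.Prime := ⟨h.prime⟩
  have hp' : Fact p.Prime := ⟨hp⟩
  have h1 : (K.subgroupOf A).Normal := (normal_subgroupOf_iff_le_normalizer hKA).2 hn
  have h2 : IsPGroup p (K.subgroupOf A) := hP.of_equiv (subgroupOfEquivOfLe hKA).symm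
  have h3 : K.subgroupOf A ≤ pCore r ↥A := by
    rw [← h.star]
    exact (Lib.Cores.le_pCore h1 h2).trans ((Lib.Cores.pCore_le_fittingSubgroup p).trans le_sup_right)
  have h4 : IsPGroup r (K.subgroupOf A) := (Lib.Cores.pCore_isPGroup r).to_le h3
  have h5 := IsPGroup.disjoint_of_ne p r hpr _ _ h2 h4
  rw [disjoint_self, subgroupOf_eq_bot, disjoint_iff, inf_eq_left.2 hKA] at h5
  exact h5

theorem not_pgroup [Finite G] (h : Loc N A r) {p : ℕ} (hp : p.Prime) (hP : IsPGroup p N) : False := by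
  have hp' : Fact p.Prime := ⟨hp⟩
  have hs := h.simple
  have hnt : Nontrivial ↥N := hs.toNontrivial
  have h1 : Nontrivial (center ↥N) := hP.center_nontrivial
  apply h.nonab
  rcases hs.eq_bot_or_eq_top_of_normal (center ↥N) inferInstance with h2 | h2
  · rw [h2] at h1
    exact absurd h1 (not_nontrivial _)
  · exact ⟨⟨fun a b => (mem_center_iff.1 (h2 ▸ mem_top b : b ∈ center ↥N) a)⟩⟩

end Group

section Model

variable {G : Type u} [Group G] {N A : Subgroup G} {r : ℕ} {F : Type} [Field F] {n : ℕ} {S : Type} [Group S]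
  {ι : S →* Matrix.GeneralLinearGroup (Fin n) F} {π : S →* G}

theorem mt_mul (s t : S) : _root_.Cfsg.Agent.H607.TW.mt ι (s * t) = _root_.Cfsg.Agent.H607.TW.mt ι s * _root_.Cfsg.Agent.H607.TW.mt ι t := by
  unfold Cfsg.Agent.H607.TW.mt
  rw [map_mul]
  rfl

theorem mt_one : _root_.Cfsg.Agent.H607.TW.mt ι 1 = 1 := by
  unfold Cfsg.Agent.H607.TW.mt
  rw [map_one]
  rfl

theorem mt_inj (hι : Function.Injective ι) {s t : S} (h : _root_.Cfsg.Agent.H607.TW.mt ι s = _root_.Cfsg.Agent.H607.TW.mt ι t) : s = t := hι (Units.ext h)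

theorem mt_mul_inv (s : S) : _root_.Cfsg.Agent.H607.TW.mt ι s * _root_.Cfsg.Agent.H607.TW.mt ι s⁻¹ = 1 := by rw [← mt_mul, mul_inv_cancel, mt_one]

theorem mt_inv_mul (s : S) : _root_.Cfsg.Agent.H607.TW.mt ι s⁻¹ * _root_.Cfsg.Agent.H607.TW.mt ι s = 1 := by rw [← mt_mul, inv_mul_cancel, mt_one]

/-- the elements of `S` with matrix in `E` -/
def HE (ι : S →* Matrix.GeneralLinearGroup (Fin n) F) [Finite S] (E : Subalgebra F (Matrix (Fin n) (Fin n) F)) : Subgroup S where
  carrier := {s | _root_.Cfsg.Agent.H607.TW.mt ι s ∈ E}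
  one_mem' := by
    show _root_.Cfsg.Agent.H607.TW.mt ι 1 ∈ E
    rw [mt_one]
    exact one_mem E
  mul_mem' := by
    intro a b ha hb
    show _root_.Cfsg.Agent.H607.TW.mt ι (a * b) ∈ E
    rw [mt_mul]
    exact mul_mem ha hb
  inv_mem' := by
    intro a ha
    have h1 : ∀ k : ℕ, _root_.Cfsg.Agent.H607.TW.mt ι (a ^ k) ∈ E := by
      intro k
      induction k with
      | zero => rw [pow_zero, mt_one]; exact one_mem E
      | succ k ih => rw [pow_succ, mt_mul]; exact mul_mem ih ha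
    have h2 : a⁻¹ = a ^ (orderOf a - 1) := by
      rw [inv_eq_iff_mul_eq_one, ← pow_succ', Nat.sub_add_cancel (orderOf_pos a), pow_orderOf_eq_one]
    show _root_.Cfsg.Agent.H607.TW.mt ι a⁻¹ ∈ E
    rw [h2]
    exact h1 _

theorem mem_HE [Finite S] {E : Subalgebra F (Matrix (Fin n) (Fin n) F)} {s : S} : s ∈ HE ι E ↔ _root_.Cfsg.Agent.H607.TW.mt ι s ∈ E := Iff.rfl

/-- the lifts of the elements of `A` -/
theorem exists_lift (hM : Model N ι π) (g : G) : ∃ τ, Ind ι π g τ := by
  obtain ⟨B, σ, h | h⟩ := hM.lift g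
  · exact ⟨_, h⟩
  · exact ⟨_, h⟩

theorem HE_norm [Finite S] (hM : Model N ι π) {E : Subalgebra F (Matrix (Fin n) (Fin n) F)} (hE : _root_.Cfsg.Agent.H607.TW.Inv ι π A E) :
    A ≤ normalizer (((HE ι E).map π : Subgroup G) : Set G) := by
  apply le_normalizer_of
  rintro a ha _ ⟨s, hs, rfl⟩
  obtain ⟨τ, hτ⟩ := exists_lift hM a
  rcases hτ with hτ' | hτ'
  · obtain ⟨s', h1, h2⟩ := hτ'.2 s
    refine ⟨s', ?_, h2⟩
    show _root_.Cfsg.Agent.H607.TW.mt ι s' ∈ E
    rw [h1]
    exact hE a ha τ (Or.inl hτ') _ hs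
  · obtain ⟨s', h1, h2⟩ := hτ'.2 s
    rw [← h2]
    refine inv_mem ⟨s', ?_, rfl⟩
    show _root_.Cfsg.Agent.H607.TW.mt ι s' ∈ E
    rw [h1]
    exact hE a ha τ (Or.inr hτ') _ hs

theorem map_le_N (hM : Model N ι π) (H : Subgroup S) : H.map π ≤ N := by
  rw [← hM.range]
  exact map_le_range π H

/-- **the group of a proper invariant subalgebra lies in `A`** -/
theorem HE_le [Finite S] (h : Loc N A r) (hM : Model N ι π) {E : Subalgebra F (Matrix (Fin n) (Fin n) F)}
    (hE : _root_.Cfsg.Agent.H607.TW.Inv ι π A E) (hne : E ≠ ⊤) : (HE ι E).map π ≤ A := by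
  rcases le_or_eq h (map_le_N hM _) (HE_norm hM hE) with h1 | h1
  · exact h1
  · exfalso
    apply hne
    have h2 : ∀ s : S, _root_.Cfsg.Agent.H607.TW.mt ι s ∈ E := by
      intro s
      have h3 : π s ∈ (HE ι E).map π := by
        rw [h1, ← hM.range]
        exact ⟨s, rfl⟩
      obtain ⟨t, ht, hts⟩ := h3
      have h4 : π (s * t⁻¹) = 1 := by rw [map_mul, map_inv, hts, mul_inv_cancel]
      obtain ⟨c, hc⟩ := (hM.ker _).1 h4
      have h5 : _root_.Cfsg.Agent.H607.TW.mt ι s = c • _root_.Cfsg.Agent.H607.TW.mt ι t := by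
        have h6 : s = s * t⁻¹ * t := by group
        rw [h6, mt_mul, hc, smul_mul_assoc, one_mul]
      rw [h5]
      exact E.smul_mem ht c
    rw [eq_top_iff]
    intro x _
    have h3 : x ∈ Submodule.span F (Set.range (_root_.Cfsg.Agent.H607.TW.mt ι)) := by
      rw [hM.span]
      exact Submodule.mem_top
    have h4 : Submodule.span F (Set.range (_root_.Cfsg.Agent.H607.TW.mt ι)) ≤ Subalgebra.toSubmodule E := by
      rw [Submodule.span_le]
      rintro _ ⟨s, rfl⟩
      exact h2 s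
    exact h4 h3

theorem finite_S [Fintype F] (hM : Model N ι π) : Finite S := Finite.of_injective _ hM.inj

theorem tau_one {τ : Matrix (Fin n) (Fin n) F ≃+ Matrix (Fin n) (Fin n) F} {g : G} (h : Ind ι π g τ) : τ 1 = 1 := by
  obtain ⟨y, hy⟩ := τ.surjective 1
  rcases h with h | h
  · have h1 := h.1 1 y
    rw [one_mul, hy, mul_one] at h1
    exact h1.symm
  · have h1 := h.1 1 y
    rw [one_mul, hy, one_mul] at h1
    exact h1.symm

theorem tau_pow {τ : Matrix (Fin n) (Fin n) F ≃+ Matrix (Fin n) (Fin n) F} {g : G} (h : Ind ι π g τ)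
    (x : Matrix (Fin n) (Fin n) F) (k : ℕ) : τ (x ^ k) = τ x ^ k := by
  induction k with
  | zero => rw [pow_zero, pow_zero, tau_one h]
  | succ k ih =>
    rcases h with h' | h'
    · rw [pow_succ, h'.1, ih, pow_succ]
    · rw [pow_succ, h'.1, ih, pow_succ']

end Model

/-- the Jacobson radical of a finite ring -/
theorem mem_jac {R : Type*} [Ring R] [Finite R] {x : R} :
    x ∈ Ring.jacobson R ↔ ∀ y : R, IsNilpotent (y * x) := by
  rw [← Ideal.jacobson_bot]
  constructor
  · intro hx y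
    obtain ⟨k, hk⟩ := IsArtinianRing.isNilpotent_jacobson_bot (R := R)
    refine ⟨k, ?_⟩
    have h1 : y * x ∈ Ideal.jacobson (⊥ : Ideal R) := Ideal.mul_mem_left _ _ hx
    have h2 := Ideal.pow_mem_pow h1 k
    rw [hk] at h2
    simpa only [_root_.Submodule.zero_eq_bot, _root_.Submodule.mem_bot] using h2
  · intro h
    rw [Ideal.mem_jacobson_iff]
    intro y
    have h1 : IsUnit (1 + y * x) := (h y).isUnit_one_add
    obtain ⟨z, hz⟩ := h1.exists_left_inv
    refine ⟨z, ?_⟩
    rw [Submodule.mem_bot, mul_assoc, ← hz]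
    rw [mul_add, mul_one]
    abel

/-- nilpotency of products -/
theorem nil_comm {R : Type*} [Ring R] {x y : R} (h : IsNilpotent (x * y)) : IsNilpotent (y * x) := by
  obtain ⟨k, hk⟩ := h
  refine ⟨k + 1, ?_⟩
  have h1 : ∀ k : ℕ, (y * x) ^ (k + 1) = y * (x * y) ^ k * x := by
    intro k
    induction k with
    | zero => simp
    | succ k ih => rw [pow_succ, ih, pow_succ (x * y)]; simp only [mul_assoc]
  rw [h1, hk, mul_zero, zero_mul]

end Cfsg.Agent.H748.TW
end

-- part: H748/TW/SemiSL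
section
prune_inst 0x10104540402210000000001000200000100005300000000000e0010009094060a4c120400a500400028880814001002003000000422000000a00000000040020800212009158ad04140001800000000000000000000000000000000000000000000000000
set_option linter.all false
open scoped Cfsg.Agent.FastGrp

/-!
# S3694, T3: invariant subalgebras are semisimple, linear case (helper748)
-/

set_option autoImplicit false
set_option linter.unusedSectionVars false

namespace Cfsg.Agent.H748.TW

open Subgroup Cfsg Cfsg.Agent.H607.TW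

universe u

section

variable {G : Type u} [Group G] {N A : Subgroup G} {r : ℕ} {F : Type} [Field F] [Fintype F] {n : ℕ} {S : Type}
  [Group S] {ι : S →* Matrix.GeneralLinearGroup (Fin n) F} {π : S →* G}

theorem tauE_surj {E : Subalgebra F (Matrix (Fin n) (Fin n) F)} {τ : Matrix (Fin n) (Fin n) F ≃+ Matrix (Fin n) (Fin n) F}
    (hE : ∀ x ∈ E, τ x ∈ E) : ∀ y ∈ E, ∃ x ∈ E, τ x = y := by
  have h1 : Function.Injective (fun x : E => (⟨τ x, hE x x.2⟩ : E)) := by
    intro x y hxy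
    exact Subtype.ext (τ.injective (congrArg Subtype.val hxy))
  have h2 := Finite.surjective_of_injective h1
  intro y hy
  obtain ⟨x, hx⟩ := h2 ⟨y, hy⟩
  exact ⟨x, x.2, congrArg Subtype.val hx⟩

theorem nil_coe {E : Subalgebra F (Matrix (Fin n) (Fin n) F)} {x : E} :
    IsNilpotent x ↔ IsNilpotent (x : Matrix (Fin n) (Fin n) F) := by
  constructor
  · rintro ⟨k, hk⟩
    exact ⟨k, by simpa using congrArg Subtype.val hk⟩
  · rintro ⟨k, hk⟩
    exact ⟨k, Subtype.ext (by simpa using hk)⟩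

theorem nil_tau {τ : Matrix (Fin n) (Fin n) F ≃+ Matrix (Fin n) (Fin n) F} {g : G} (h : Ind ι π g τ)
    {x : Matrix (Fin n) (Fin n) F} (hx : IsNilpotent x) : IsNilpotent (τ x) := by
  obtain ⟨k, hk⟩ := hx
  exact ⟨k, by rw [← tau_pow h, hk, map_zero]⟩

/-- the lifts preserve the radical -/
theorem jac_tau {E : Subalgebra F (Matrix (Fin n) (Fin n) F)} {τ : Matrix (Fin n) (Fin n) F ≃+ Matrix (Fin n) (Fin n) F}
    {g : G} (h : Ind ι π g τ) (hE : ∀ x ∈ E, τ x ∈ E) {j : E} (hj : j ∈ Ring.jacobson E) :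
    (⟨τ j, hE j j.2⟩ : E) ∈ Ring.jacobson E := by
  rw [mem_jac] at hj ⊢
  rintro ⟨y, hy⟩
  rw [nil_coe]
  show IsNilpotent (y * τ (j : Matrix (Fin n) (Fin n) F))
  obtain ⟨x, hx, rfl⟩ := tauE_surj hE y hy
  have h1 : IsNilpotent (x * (j : Matrix (Fin n) (Fin n) F)) := nil_coe.1 (hj ⟨x, hx⟩)
  rcases h with h' | h'
  · rw [← h'.1]
    exact nil_tau (Or.inl h') h1
  · rw [← h'.1]
    exact nil_tau (Or.inr h') (nil_comm h1)

/-- the elements of `S` congruent to one modulo the radical -/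
def PJ (ι : S →* Matrix.GeneralLinearGroup (Fin n) F) [Finite S] (E : Subalgebra F (Matrix (Fin n) (Fin n) F)) :
    Subgroup S where
  carrier := {s | ∃ j : E, j ∈ Ring.jacobson E ∧ mt ι s = 1 + j}
  one_mem' := ⟨0, zero_mem _, by rw [mt_one]; simp⟩
  mul_mem' := by
    rintro a b ⟨j, hj, hja⟩ ⟨k, hk, hkb⟩
    refine ⟨j + k + j * k, add_mem (add_mem hj hk) (Ideal.mul_mem_left _ _ hk), ?_⟩
    rw [mt_mul, hja, hkb]
    push_cast
    noncomm_ring
  inv_mem' := by
    rintro a ⟨j, hj, hja⟩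
    have h1 : ∀ k : ℕ, ∃ j : E, j ∈ Ring.jacobson E ∧ mt ι (a ^ k) = 1 + j := by
      intro k
      induction k with
      | zero => exact ⟨0, zero_mem _, by rw [pow_zero, mt_one]; simp⟩
      | succ k ih =>
        obtain ⟨l, hl, hla⟩ := ih
        refine ⟨l + j + l * j, add_mem (add_mem hl hj) (Ideal.mul_mem_left _ _ hj), ?_⟩
        rw [pow_succ, mt_mul, hla, hja]
        push_cast
        noncomm_ring
    have h2 : a⁻¹ = a ^ (orderOf a - 1) := by
      rw [inv_eq_iff_mul_eq_one, ← pow_succ', Nat.sub_add_cancel (orderOf_pos a), pow_orderOf_eq_one]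
    show ∃ j : E, j ∈ Ring.jacobson E ∧ mt ι a⁻¹ = 1 + j
    rw [h2]
    exact h1 _

theorem PJ_norm [Finite S] (hM : Model N ι π) {E : Subalgebra F (Matrix (Fin n) (Fin n) F)} (hE : Inv ι π A E) :
    A ≤ normalizer (((PJ ι E).map π : Subgroup G) : Set G) := by
  apply le_normalizer_of
  rintro a ha _ ⟨s, ⟨j, hj, hs⟩, rfl⟩
  obtain ⟨τ, hτ⟩ := exists_lift hM a
  have key : ∀ s' : S, mt ι s' = τ (mt ι s) → s' ∈ PJ ι E := by
    intro s' hs'
    refine ⟨⟨τ j, hE a ha τ hτ j j.2⟩, jac_tau hτ (hE a ha τ hτ) hj, ?_⟩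
    rw [hs', hs, map_add, tau_one hτ]
  rcases hτ with hτ' | hτ'
  · obtain ⟨s', h1, h2⟩ := hτ'.2 s
    exact ⟨s', key s' h1, h2⟩
  · obtain ⟨s', h1, h2⟩ := hτ'.2 s
    rw [← h2]
    exact inv_mem ⟨s', key s' h1, rfl⟩

theorem one_add_pow {p : ℕ} [hp : Fact p.Prime] [CharP F p] (hn : 0 < n) {x : Matrix (Fin n) (Fin n) F} (hx : IsNilpotent x) :
    ∃ k : ℕ, (1 + x) ^ p ^ k = 1 := by
  obtain ⟨k, hk⟩ := hx
  have : Nonempty (Fin n) := ⟨⟨0, hn⟩⟩
  refine ⟨k, ?_⟩
  have h1 : CharP (Matrix (Fin n) (Fin n) F) p := inferInstance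
  rw [add_pow_char_pow_of_commute _ _ (Commute.one_left x), one_pow]
  have h2 : x ^ p ^ k = 0 := pow_eq_zero_of_le (Nat.lt_pow_self hp.out.one_lt).le hk
  rw [h2, add_zero]

theorem PJ_pgroup [Finite S] (hM : Model N ι π) {p : ℕ} [hp : Fact p.Prime] [CharP F p]
    (E : Subalgebra F (Matrix (Fin n) (Fin n) F)) : IsPGroup p ((PJ ι E).map π : Subgroup G) := by
  rintro ⟨_, s, ⟨j, hj, hs⟩, rfl⟩
  have h1 : IsNilpotent (j : Matrix (Fin n) (Fin n) F) := by
    have := mem_jac.1 hj 1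
    rw [one_mul] at this
    exact nil_coe.1 this
  have hn := hM.two
  obtain ⟨k, hk⟩ := one_add_pow (p := p) (by omega) h1
  refine ⟨k, Subtype.ext ?_⟩
  show (π s) ^ p ^ k = 1
  rw [← map_pow]
  have h2 : s ^ p ^ k = 1 := by
    apply mt_inj hM.inj
    have h3 : ∀ m : ℕ, mt ι (s ^ m) = mt ι s ^ m := by
      intro m
      induction m with
      | zero => rw [pow_zero, pow_zero, mt_one]
      | succ m ih => rw [pow_succ, mt_mul, ih, pow_succ]
    rw [h3, hs, hk, mt_one]
  rw [h2, map_one]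

theorem PJ_bot [Finite G] [Finite S] (h : Loc N A r) (hr : ¬ r ∣ Fintype.card F) (hM : Model N ι π)
    {E : Subalgebra F (Matrix (Fin n) (Fin n) F)} (hE : Inv ι π A E) : (PJ ι E).map π = ⊥ := by
  obtain ⟨p, hp⟩ := CharP.exists F
  have hpp : p.Prime := (CharP.char_is_prime_or_zero F p).resolve_right (CharP.char_ne_zero_of_finite F p)
  have hpf : Fact p.Prime := ⟨hpp⟩
  have hpr : p ≠ r := by
    rintro rfl
    exact hr ((CharP.cast_eq_zero_iff F p _).1 (Nat.cast_card_eq_zero F))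
  have hP := PJ_pgroup (p := p) hM E
  rcases le_or_eq h (map_le_N hM _) (PJ_norm hM hE) with h1 | h1
  · exact bot_of_pgroup h h1 (PJ_norm hM hE) hpp hpr hP
  · rw [h1] at hP
    exact (not_pgroup h hpp hP).elim

/-- if all elements `1 + j`, `j` in the radical, are in `S`, then the radical is trivial -/
theorem semi_of [Finite G] [Finite S] (h : Loc N A r) (hr : ¬ r ∣ Fintype.card F) (hM : Model N ι π)
    {E : Subalgebra F (Matrix (Fin n) (Fin n) F)} (hE : Inv ι π A E)
    (hS : ∀ j : E, j ∈ Ring.jacobson E → ∃ s : S, mt ι s = 1 + j) : IsSemisimpleRing E := by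
  rw [IsArtinianRing.isSemisimpleRing_iff_jacobson, eq_bot_iff]
  intro j hj
  obtain ⟨s, hs⟩ := hS j hj
  have h1 : π s ∈ (PJ ι E).map π := ⟨s, ⟨j, hj, hs⟩, rfl⟩
  rw [PJ_bot h hr hM hE, mem_bot] at h1
  obtain ⟨c, hc⟩ := (hM.ker s).1 h1
  have h2 : IsNilpotent (j : Matrix (Fin n) (Fin n) F) := by
    have := mem_jac.1 hj 1
    rw [one_mul] at this
    exact nil_coe.1 this
  have h3 : (j : Matrix (Fin n) (Fin n) F) = (c - 1) • 1 := by
    rw [sub_smul, one_smul, ← hc, hs]
    abel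
  obtain ⟨k, hk⟩ := h2
  rw [h3, smul_pow, one_pow] at hk
  have h4 : (c - 1) ^ k = 0 := by
    have hn := hM.two
    have h5 := congrFun (congrFun hk ⟨0, by omega⟩) ⟨0, by omega⟩
    simpa using h5
  have h5 : c - 1 = 0 := IsReduced.eq_zero _ ⟨k, h4⟩
  rw [Submodule.mem_bot]
  apply Subtype.ext
  rw [h3, h5, zero_smul]
  rfl

theorem det_one_add (hn : 0 < n) {x : Matrix (Fin n) (Fin n) F} (hx : IsNilpotent x) : (1 + x).det = 1 := by
  obtain ⟨p, hp⟩ := CharP.exists F
  have hpp : p.Prime := (CharP.char_is_prime_or_zero F p).resolve_right (CharP.char_ne_zero_of_finite F p)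
  have hpf : Fact p.Prime := ⟨hpp⟩
  obtain ⟨k, hk⟩ := one_add_pow (p := p) hn hx
  have h1 : ((1 + x).det - 1) ^ p ^ k = 0 := by
    rw [sub_pow_char_pow, one_pow, ← Matrix.det_pow, hk, Matrix.det_one, sub_self]
  exact sub_eq_zero.1 (IsReduced.eq_zero _ ⟨_, h1⟩)

/-- **invariant subalgebras are semisimple**, linear case -/
theorem semi_sl [Finite G] {π : Matrix.SpecialLinearGroup (Fin n) F →* G} (h : Loc N A r) (hr : ¬ r ∣ Fintype.card F)
    (hM : Model N (iSL n F) π) : SemiAx (iSL n F) π A := by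
  intro E hE
  refine semi_of h hr hM hE fun j hj => ?_
  have hn := hM.two
  have h2 : IsNilpotent (j : Matrix (Fin n) (Fin n) F) := by
    have := mem_jac.1 hj 1
    rw [one_mul] at this
    exact nil_coe.1 this
  exact ⟨⟨1 + j, det_one_add (by omega) h2⟩, rfl⟩

end

end Cfsg.Agent.H748.TW
end

-- part: H968/TW/FieldLoc
section
prune_inst 0x100400400010000000000000002000100000020000000000000000010901000040010001400000000028000008000001000000020000000a000000000400000000000080480000000006000000000000000000000000000000000000000000000000000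
set_option linter.all false
open scoped Cfsg.Agent.FastGrp

-- part: H968/TW/Inn
section
/-!
# S3694: inner lifts (helper968)

`InnL ι π y u` : conjugation by `y` is lifted to conjugation by `u`.
-/

set_option autoImplicit false

namespace Cfsg.Agent.H968.TW

open Subgroup Cfsg.Agent.H607.TW

universe u

variable {G : Type u} [Group G] {F : Type} [Field F] {n : ℕ} {S : Type} [Group S]
  {ι : S →* Matrix.GeneralLinearGroup (Fin n) F} {π : S →* G}

/-- conjugation by `y` is lifted to conjugation by `u` -/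
def InnL (ι : S →* Matrix.GeneralLinearGroup (Fin n) F) (π : S →* G) (y : G)
    (u : Matrix.GeneralLinearGroup (Fin n) F) : Prop :=
  ∀ s : S, ∃ s' : S, ι s' = u * ι s * u⁻¹ ∧ π s' = y * π s * y⁻¹

theorem mt_mul (s t : S) : _root_.Cfsg.Agent.H607.TW.mt ι (s * t) = _root_.Cfsg.Agent.H607.TW.mt ι s * _root_.Cfsg.Agent.H607.TW.mt ι t := by
  unfold H607.TW.mt
  rw [map_mul, Units.val_mul]

theorem mt_one : _root_.Cfsg.Agent.H607.TW.mt ι (1 : S) = 1 := by
  unfold H607.TW.mt
  rw [map_one, Units.val_one]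

theorem tauP_one (B : Matrix.GeneralLinearGroup (Fin n) F) (x : Matrix (Fin n) (Fin n) F) :
    tauP B 1 x = (B : Matrix (Fin n) (Fin n) F) * x *
      ((B⁻¹ : Matrix.GeneralLinearGroup (Fin n) F) : Matrix (Fin n) (Fin n) F) := by
  have h : x.map (1 : F ≃+* F) = x := by
    ext i j
    rfl
  rw [tauP_apply, h]

theorem tauP_mul (B : Matrix.GeneralLinearGroup (Fin n) F) (σ : F ≃+* F) (x y : Matrix (Fin n) (Fin n) F) :
    tauP B σ (x * y) = tauP B σ x * tauP B σ y := by
  have h1 : ((B⁻¹ : Matrix.GeneralLinearGroup (Fin n) F) : Matrix (Fin n) (Fin n) F) *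
      (B : Matrix (Fin n) (Fin n) F) = 1 := by
    rw [← Units.val_mul, inv_mul_cancel, Units.val_one]
  have h2 : (x * y).map σ = x.map σ * y.map σ := Matrix.map_mul
  rw [tauP_apply, tauP_apply, tauP_apply, h2]
  calc _ = (B : Matrix (Fin n) (Fin n) F) * x.map σ * 1 * y.map σ *
        ((B⁻¹ : Matrix.GeneralLinearGroup (Fin n) F) : Matrix (Fin n) (Fin n) F) := by simp only [mul_assoc, one_mul]
    _ = _ := by rw [← h1]; simp only [mul_assoc]

theorem tauM_mul (B : Matrix.GeneralLinearGroup (Fin n) F) (σ : F ≃+* F) (x y : Matrix (Fin n) (Fin n) F) :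
    tauM B σ (x * y) = tauM B σ y * tauM B σ x := by
  have h1 : ∀ z, tauM B σ z = tauP B σ z.transpose := fun z => rfl
  rw [h1, h1, h1, Matrix.transpose_mul, tauP_mul]

theorem exists_not_comm (hn : 2 ≤ n) : ∃ x y : Matrix (Fin n) (Fin n) F, x * y ≠ y * x := by
  obtain ⟨i, hi⟩ : ∃ i : Fin n, (i : ℕ) = 0 := ⟨⟨0, by omega⟩, rfl⟩
  obtain ⟨j, hj⟩ : ∃ j : Fin n, (j : ℕ) = 1 := ⟨⟨1, by omega⟩, rfl⟩
  have hij : i ≠ j := by
    intro h
    rw [h, hj] at hi
    omega
  refine ⟨Matrix.single i j 1, Matrix.single j i 1, ?_⟩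
  rw [Matrix.single_mul_single_same, Matrix.single_mul_single_same]
  intro h
  have h1 := congrFun (congrFun h i) i
  rw [Matrix.single_apply_same, Matrix.single_apply_of_ne] at h1
  · simp at h1
  · intro h2
    exact hij h2.1.symm

theorem innL_of_ind (hn : 2 ≤ n) {y : G} {u : Matrix.GeneralLinearGroup (Fin n) F} (h : Ind ι π y (tauP u 1)) :
    InnL ι π y u := by
  rcases h with ⟨-, h⟩ | ⟨h1, -⟩
  · intro s
    obtain ⟨s', h2, h3⟩ := h s
    refine ⟨s', ?_, h3⟩
    apply Units.ext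
    rw [tauP_one] at h2
    rw [Units.val_mul, Units.val_mul]
    exact h2
  · exfalso
    obtain ⟨x, y, hxy⟩ := exists_not_comm (F := F) hn
    apply hxy
    apply (tauP u 1).injective
    rw [h1, tauP_mul]

theorem InnL.pi (s : S) : InnL ι π (π s) (ι s) := by
  intro t
  exact ⟨s * t * s⁻¹, by rw [map_mul, map_mul, map_inv], by rw [map_mul, map_mul, map_inv]⟩

theorem InnL.one : InnL ι π 1 1 := by
  intro t
  exact ⟨t, by group, by group⟩

theorem InnL.mul {y z : G} {u v : Matrix.GeneralLinearGroup (Fin n) F} (h : InnL ι π y u) (h' : InnL ι π z v) :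
    InnL ι π (y * z) (u * v) := by
  intro s
  obtain ⟨s', h1, h2⟩ := h' s
  obtain ⟨s'', h3, h4⟩ := h s'
  exact ⟨s'', by rw [h3, h1]; group, by rw [h4, h2]; group⟩

theorem InnL.surj [Finite S] (hι : Function.Injective ι) {y : G} {u : Matrix.GeneralLinearGroup (Fin n) F}
    (h : InnL ι π y u) (t : S) : ∃ s : S, ι t = u * ι s * u⁻¹ ∧ π t = y * π s * y⁻¹ := by
  choose f hf1 hf2 using h
  have hinj : Function.Injective f := by
    intro a b hab
    apply hι
    have h1 := hf1 a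
    rw [hab, hf1 b] at h1
    exact (mul_left_cancel (mul_right_cancel h1)).symm
  obtain ⟨s, rfl⟩ := (Finite.injective_iff_surjective.1 hinj) t
  exact ⟨s, hf1 s, hf2 s⟩

theorem InnL.inv [Finite S] (hι : Function.Injective ι) {y : G} {u : Matrix.GeneralLinearGroup (Fin n) F}
    (h : InnL ι π y u) : InnL ι π y⁻¹ u⁻¹ := by
  intro t
  obtain ⟨s, h1, h2⟩ := h.surj hι t
  exact ⟨s, by rw [h1]; group, by rw [h2]; group⟩

/-- two elements with the same inner lift are equal -/
theorem InnL.unique {N : Subgroup G} (hr : π.range = N) (hc : centralizer (N : Set G) = ⊥)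
    (hι : Function.Injective ι) {y z : G} {u : Matrix.GeneralLinearGroup (Fin n) F}
    (h : InnL ι π y u) (h' : InnL ι π z u) : y = z := by
  have h1 : z⁻¹ * y ∈ centralizer (N : Set G) := by
    rw [mem_centralizer_iff]
    intro x hx
    rw [← hr] at hx
    obtain ⟨s, rfl⟩ := hx
    obtain ⟨s1, h3, h4⟩ := h s
    obtain ⟨s2, h5, h6⟩ := h' s
    have h7 : s1 = s2 := hι (by rw [h3, h5])
    rw [h7, h6] at h4
    calc π s * (z⁻¹ * y) = z⁻¹ * (z * π s * z⁻¹) * y := by group
      _ = z⁻¹ * (y * π s * y⁻¹) * y := by rw [h4]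
      _ = z⁻¹ * y * π s := by group
  rw [hc, mem_bot, inv_mul_eq_one] at h1
  exact h1.symm

/-! ### general lifts -/

theorem mt_injective (hι : Function.Injective ι) : Function.Injective (_root_.Cfsg.Agent.H607.TW.mt ι) := by
  intro s t h
  exact hι (Units.ext h)

/-- a general lift is bijective on `S` -/
theorem ind_surj [Finite S] (hι : Function.Injective ι) {y : G} {τ : Matrix (Fin n) (Fin n) F ≃+ Matrix (Fin n) (Fin n) F}
    (h : Ind ι π y τ) : ((∀ x y, τ (x * y) = τ x * τ y) ∧ ∀ t : S, ∃ s : S, _root_.Cfsg.Agent.H607.TW.mt ι t = τ (_root_.Cfsg.Agent.H607.TW.mt ι s) ∧ π t = y * π s * y⁻¹) ∨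
    ((∀ x y, τ (x * y) = τ y * τ x) ∧ ∀ t : S, ∃ s : S, _root_.Cfsg.Agent.H607.TW.mt ι t = τ (_root_.Cfsg.Agent.H607.TW.mt ι s) ∧ (π t)⁻¹ = y * π s * y⁻¹) := by
  have key : ∀ f : S → S, (∀ s, _root_.Cfsg.Agent.H607.TW.mt ι (f s) = τ (_root_.Cfsg.Agent.H607.TW.mt ι s)) → Function.Surjective f := by
    intro f hf
    apply Finite.injective_iff_surjective.1
    intro a b hab
    apply mt_injective hι
    apply τ.injective
    rw [← hf, ← hf, hab]
  rcases h with ⟨h1, h2⟩ | ⟨h1, h2⟩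
  · left
    refine ⟨h1, fun t => ?_⟩
    choose f hf1 hf2 using h2
    obtain ⟨s, rfl⟩ := key f hf1 t
    exact ⟨s, hf1 s, hf2 s⟩
  · right
    refine ⟨h1, fun t => ?_⟩
    choose f hf1 hf2 using h2
    obtain ⟨s, rfl⟩ := key f hf1 t
    exact ⟨s, hf1 s, hf2 s⟩

theorem tau_one {τ : Matrix (Fin n) (Fin n) F ≃+ Matrix (Fin n) (Fin n) F}
    (h : (∀ x y, τ (x * y) = τ x * τ y) ∨ ∀ x y, τ (x * y) = τ y * τ x) : τ 1 = 1 := by
  obtain ⟨e, he⟩ := τ.surjective 1
  rcases h with h | h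
  · calc τ 1 = τ 1 * τ e := by rw [he, mul_one]
      _ = τ (1 * e) := (h 1 e).symm
      _ = 1 := by rw [one_mul, he]
  · calc τ 1 = τ 1 * τ e := by rw [he, mul_one]
      _ = τ (e * 1) := (h e 1).symm
      _ = 1 := by rw [mul_one, he]

/-- the image of a unit -/
noncomputable def tauU (τ : Matrix (Fin n) (Fin n) F ≃+ Matrix (Fin n) (Fin n) F)
    (h : (∀ x y, τ (x * y) = τ x * τ y) ∨ ∀ x y, τ (x * y) = τ y * τ x) (u : Matrix.GeneralLinearGroup (Fin n) F) :
    Matrix.GeneralLinearGroup (Fin n) F where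
  val := τ (u : Matrix (Fin n) (Fin n) F)
  inv := τ ((u⁻¹ : Matrix.GeneralLinearGroup (Fin n) F) : Matrix (Fin n) (Fin n) F)
  val_inv := by
    rcases h with h | h
    · rw [← h, ← Units.val_mul, mul_inv_cancel, Units.val_one, tau_one (Or.inl h)]
    · rw [← h, ← Units.val_mul, inv_mul_cancel, Units.val_one, tau_one (Or.inr h)]
  inv_val := by
    rcases h with h | h
    · rw [← h, ← Units.val_mul, inv_mul_cancel, Units.val_one, tau_one (Or.inl h)]
    · rw [← h, ← Units.val_mul, mul_inv_cancel, Units.val_one, tau_one (Or.inr h)]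

theorem coe_tauU {τ : Matrix (Fin n) (Fin n) F ≃+ Matrix (Fin n) (Fin n) F}
    (h : (∀ x y, τ (x * y) = τ x * τ y) ∨ ∀ x y, τ (x * y) = τ y * τ x) (u : Matrix.GeneralLinearGroup (Fin n) F) :
    (tauU τ h u : Matrix (Fin n) (Fin n) F) = τ (u : Matrix (Fin n) (Fin n) F) := rfl

theorem coe_tauU_inv {τ : Matrix (Fin n) (Fin n) F ≃+ Matrix (Fin n) (Fin n) F}
    (h : (∀ x y, τ (x * y) = τ x * τ y) ∨ ∀ x y, τ (x * y) = τ y * τ x) (u : Matrix.GeneralLinearGroup (Fin n) F) :
    (((tauU τ h u)⁻¹ : Matrix.GeneralLinearGroup (Fin n) F) : Matrix (Fin n) (Fin n) F) =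
      τ ((u⁻¹ : Matrix.GeneralLinearGroup (Fin n) F) : Matrix (Fin n) (Fin n) F) := rfl

/-- conjugates of elements with inner lifts have inner lifts -/
theorem InnL.conj [Finite S] (hι : Function.Injective ι) {y h : G} {u : Matrix.GeneralLinearGroup (Fin n) F}
    (hy : InnL ι π y u) {τ : Matrix (Fin n) (Fin n) F ≃+ Matrix (Fin n) (Fin n) F} (hτ : Ind ι π h τ) :
    ∃ v, InnL ι π (h * y * h⁻¹) v := by
  rcases ind_surj hι hτ with ⟨hm, hs⟩ | ⟨hm, hs⟩
  · have hτ' : ∀ s : S, ∃ s' : S, _root_.Cfsg.Agent.H607.TW.mt ι s' = τ (_root_.Cfsg.Agent.H607.TW.mt ι s) ∧ π s' = h * π s * h⁻¹ := by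
      rcases hτ with ⟨-, h2⟩ | ⟨h1, h2⟩
      · exact h2
      · -- `τ` both multiplicative and antimultiplicative
        intro s
        obtain ⟨f, hf⟩ : ∃ f : S → S, ∀ t, _root_.Cfsg.Agent.H607.TW.mt ι t = τ (_root_.Cfsg.Agent.H607.TW.mt ι (f t)) ∧ π t = h * π (f t) * h⁻¹ :=
          ⟨fun t => (hs t).choose, fun t => (hs t).choose_spec⟩
        have hfi : Function.Injective f := by
          intro a b hab
          apply mt_injective hι
          rw [(hf a).1, (hf b).1, hab]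
        obtain ⟨t, rfl⟩ := (Finite.injective_iff_surjective.1 hfi) s
        exact ⟨t, hf t⟩
    refine ⟨tauU τ (Or.inl hm) u, fun s => ?_⟩
    obtain ⟨s1, h1, h2⟩ := hs s
    obtain ⟨s2, h3, h4⟩ := hy s1
    obtain ⟨s3, h5, h6⟩ := hτ' s2
    refine ⟨s3, ?_, ?_⟩
    · apply Units.ext
      rw [Units.val_mul, Units.val_mul, coe_tauU, coe_tauU_inv]
      change _root_.Cfsg.Agent.H607.TW.mt ι s3 = _ * _root_.Cfsg.Agent.H607.TW.mt ι s * _
      have h7 : _root_.Cfsg.Agent.H607.TW.mt ι s2 = (u : Matrix (Fin n) (Fin n) F) * _root_.Cfsg.Agent.H607.TW.mt ι s1 *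
          ((u⁻¹ : Matrix.GeneralLinearGroup (Fin n) F) : Matrix (Fin n) (Fin n) F) := by
        unfold H607.TW.mt
        rw [h3, Units.val_mul, Units.val_mul]
      rw [h5, h1, ← hm, ← hm, h7]
    · rw [h6, h4, h2]; group
  · have hτ' : ∀ s : S, ∃ s' : S, _root_.Cfsg.Agent.H607.TW.mt ι s' = τ (_root_.Cfsg.Agent.H607.TW.mt ι s) ∧ (π s')⁻¹ = h * π s * h⁻¹ := by
      intro s
      obtain ⟨f, hf⟩ : ∃ f : S → S, ∀ t, _root_.Cfsg.Agent.H607.TW.mt ι t = τ (_root_.Cfsg.Agent.H607.TW.mt ι (f t)) ∧ (π t)⁻¹ = h * π (f t) * h⁻¹ :=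
        ⟨fun t => (hs t).choose, fun t => (hs t).choose_spec⟩
      have hfi : Function.Injective f := by
        intro a b hab
        apply mt_injective hι
        rw [(hf a).1, (hf b).1, hab]
      obtain ⟨t, rfl⟩ := (Finite.injective_iff_surjective.1 hfi) s
      exact ⟨t, hf t⟩
    refine ⟨(tauU τ (Or.inr hm) u)⁻¹, fun s => ?_⟩
    obtain ⟨s1, h1, h2⟩ := hs s
    obtain ⟨s2, h3, h4⟩ := hy s1
    obtain ⟨s3, h5, h6⟩ := hτ' s2
    refine ⟨s3, ?_, ?_⟩
    · apply Units.ext
      rw [Units.val_mul, Units.val_mul, inv_inv, coe_tauU, coe_tauU_inv]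
      change _root_.Cfsg.Agent.H607.TW.mt ι s3 = _ * _root_.Cfsg.Agent.H607.TW.mt ι s * _
      have h7 : _root_.Cfsg.Agent.H607.TW.mt ι s2 = (u : Matrix (Fin n) (Fin n) F) * _root_.Cfsg.Agent.H607.TW.mt ι s1 *
          ((u⁻¹ : Matrix.GeneralLinearGroup (Fin n) F) : Matrix (Fin n) (Fin n) F) := by
        unfold H607.TW.mt
        rw [h3, Units.val_mul, Units.val_mul]
      rw [h5, h1, ← hm, ← hm, h7, mul_assoc]
    · rw [← inv_inj, h6, h4]
      have h8 : π s1 = h⁻¹ * (π s)⁻¹ * h := by rw [h2]; group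
      rw [h8]; group

end Cfsg.Agent.H968.TW
end

-- part: H968/TW/Cyc
section
/-!
# S3694: the elements with a lift in a field `B` form a cyclic group (helper968)
-/

set_option autoImplicit false

namespace Cfsg.Agent.H968.TW

open Subgroup Cfsg.Agent.H607.TW

universe u

theorem mem_zpowers_of_cyclic {G : Type u} [Group G] [Finite G] {D : Subgroup G} (hD : IsCyclic ↥D) {r : ℕ}
    (hr : r.Prime) {y x : G} (hy : y ∈ D) (hy1 : y ≠ 1) (hyr : ∃ k, y ^ r ^ k = 1) (hx : x ∈ D) (hxr : x ^ r = 1) :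
    x ∈ zpowers y := by
  classical
  let _ : Fintype ↥D := Fintype.ofFinite _
  -- an element `z` of order `r` in `⟨y⟩`
  have hrf : Fact r.Prime := ⟨hr⟩
  obtain ⟨k, hk⟩ := hyr
  obtain ⟨j, -, hj⟩ := (Nat.dvd_prime_pow hr).1 (orderOf_dvd_of_pow_eq_one hk)
  have hj0 : j ≠ 0 := by
    rintro rfl
    rw [pow_zero, orderOf_eq_one_iff] at hj
    exact hy1 hj
  have hdvd : r ∣ orderOf y := by rw [hj]; exact dvd_pow_self r hj0
  have hz : orderOf (y ^ (orderOf y / r)) = r := orderOf_pow_orderOf_div (orderOf_pos y).ne' hdvd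
  obtain ⟨z, hz'⟩ : ∃ z, z = y ^ (orderOf y / r) := ⟨_, rfl⟩
  rw [← hz'] at hz
  have hzD : z ∈ D := by rw [hz']; exact pow_mem hy _
  have hle := IsCyclic.card_pow_eq_one_le (α := ↥D) hr.pos
  -- the powers of `z`
  have hsub : (Finset.univ.filter fun a : ↥D => a ∈ zpowers (⟨z, hzD⟩ : ↥D)) ⊆
      Finset.univ.filter fun a : ↥D => a ^ r = 1 := by
    intro a ha
    rw [Finset.mem_filter] at ha ⊢
    refine ⟨Finset.mem_univ _, ?_⟩
    obtain ⟨m, rfl⟩ := mem_zpowers_iff.1 ha.2
    have h1 : (⟨z, hzD⟩ : ↥D) ^ r = 1 := by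
      apply Subtype.ext
      show z ^ r = 1
      rw [← hz, pow_orderOf_eq_one]
    rw [← zpow_natCast, ← zpow_mul, mul_comm, zpow_mul, zpow_natCast, h1, one_zpow]
  have hcard : (Finset.univ.filter fun a : ↥D => a ∈ zpowers (⟨z, hzD⟩ : ↥D)).card = r := by
    rw [← Fintype.card_subtype, ← Nat.card_eq_fintype_card]
    have h2 : Nat.card (zpowers (⟨z, hzD⟩ : ↥D)) = r := by
      rw [Nat.card_zpowers, Subgroup.orderOf_mk, hz]
    exact h2
  have heq := Finset.eq_of_subset_of_card_le hsub (by rw [hcard]; exact hle)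
  have hxm : (⟨x, hx⟩ : ↥D) ∈ Finset.univ.filter fun a : ↥D => a ^ r = 1 := by
    rw [Finset.mem_filter]
    exact ⟨Finset.mem_univ _, Subtype.ext hxr⟩
  rw [← heq, Finset.mem_filter] at hxm
  obtain ⟨m, hm⟩ := mem_zpowers_iff.1 hxm.2
  have h3 : z ^ m = x := congrArg Subtype.val hm
  rw [← h3, hz']
  exact zpow_mem (pow_mem (mem_zpowers y) _) m

variable {G : Type u} [Group G] {F : Type} [Field F] {n : ℕ} {S : Type} [Group S]
  {ι : S →* Matrix.GeneralLinearGroup (Fin n) F} {π : S →* G}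

theorem inv_mem_of {B : Subalgebra F (Matrix (Fin n) (Fin n) F)} (hn : 0 < n)
    (hinv : ∀ b ∈ B, b ≠ 0 → ∃ c ∈ B, b * c = 1) {u : Matrix.GeneralLinearGroup (Fin n) F}
    (hu : (u : Matrix (Fin n) (Fin n) F) ∈ B) :
    ((u⁻¹ : Matrix.GeneralLinearGroup (Fin n) F) : Matrix (Fin n) (Fin n) F) ∈ B := by
  have hne : Nonempty (Fin n) := ⟨⟨0, hn⟩⟩
  have hnt : Nontrivial (Matrix (Fin n) (Fin n) F) := inferInstance
  obtain ⟨c, hc, h1⟩ := hinv _ hu u.ne_zero
  have h2 : ((u⁻¹ : Matrix.GeneralLinearGroup (Fin n) F) : Matrix (Fin n) (Fin n) F) = c := by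
    calc ((u⁻¹ : Matrix.GeneralLinearGroup (Fin n) F) : Matrix (Fin n) (Fin n) F)
        = ((u⁻¹ : Matrix.GeneralLinearGroup (Fin n) F) : Matrix (Fin n) (Fin n) F) *
          ((u : Matrix (Fin n) (Fin n) F) * c) := by rw [h1, mul_one]
      _ = c := by rw [← mul_assoc, ← Units.val_mul, inv_mul_cancel, Units.val_one, one_mul]
  rw [h2]; exact hc

theorem isCyclic_of_le {B : Subalgebra F (Matrix (Fin n) (Fin n) F)} (hn : 0 < n) [Finite F]
    (hcomm : ∀ x ∈ B, ∀ y ∈ B, x * y = y * x) (hinv : ∀ b ∈ B, b ≠ 0 → ∃ c ∈ B, b * c = 1)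
    (H : Subgroup (Matrix.GeneralLinearGroup (Fin n) F))
    (hH : ∀ u ∈ H, (u : Matrix (Fin n) (Fin n) F) ∈ B) : IsCyclic ↥H := by
  have hne : Nonempty (Fin n) := ⟨⟨0, hn⟩⟩
  let _ : CommRing ↥B := { (inferInstance : Ring ↥B) with
    mul_comm := fun x y => Subtype.ext (hcomm x x.2 y y.2) }
  have hnt : Nontrivial ↥B := ⟨⟨0, 1, fun h => zero_ne_one (α := Matrix (Fin n) (Fin n) F) (congrArg Subtype.val h)⟩⟩
  have hnz : NoZeroDivisors ↥B := by
    constructor
    intro x y hxy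
    by_contra hcon
    push Not at hcon
    obtain ⟨c, hc, h1⟩ := hinv x x.2 (fun h => hcon.1 (Subtype.ext h))
    apply hcon.2
    have h2 : (x : Matrix (Fin n) (Fin n) F) * y = 0 := congrArg Subtype.val hxy
    apply Subtype.ext
    show (y : Matrix (Fin n) (Fin n) F) = 0
    calc (y : Matrix (Fin n) (Fin n) F) = (x * c) * y := by rw [h1, one_mul]
      _ = c * (x * y) := by rw [hcomm x x.2 c hc, mul_assoc]
      _ = 0 := by rw [h2, mul_zero]
  have hd : IsDomain ↥B := { }
  have hfin : Finite ↥H := inferInstance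
  exact isCyclic_of_injective_ringHom (R := ↥B) (G := ↥H)
    { toFun := fun u => ⟨_, hH u u.2⟩
      map_one' := rfl
      map_mul' := fun u v => rfl }
    (fun u v huv => Subtype.ext (Units.ext (congrArg Subtype.val huv)))

/-- the elements with a lift in `B` lie in a cyclic subgroup -/
theorem exists_cyclic {N : Subgroup G} (hr : π.range = N) (hc : centralizer (N : Set G) = ⊥) [Finite S] [Finite F]
    (hι : Function.Injective ι) {B : Subalgebra F (Matrix (Fin n) (Fin n) F)} (hn : 0 < n)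
    (hcomm : ∀ x ∈ B, ∀ y ∈ B, x * y = y * x) (hinv : ∀ b ∈ B, b ≠ 0 → ∃ c ∈ B, b * c = 1) :
    ∃ D : Subgroup G, IsCyclic ↥D ∧ ∀ (y : G) (u : Matrix.GeneralLinearGroup (Fin n) F),
      (u : Matrix (Fin n) (Fin n) F) ∈ B → InnL ι π y u → y ∈ D := by
  let H : Subgroup (Matrix.GeneralLinearGroup (Fin n) F) :=
    { carrier := {u | (u : Matrix (Fin n) (Fin n) F) ∈ B}
      one_mem' := B.one_mem
      mul_mem' := fun {u v} hu hv => B.mul_mem hu hv
      inv_mem' := fun {u} hu => inv_mem_of hn hinv hu }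
  have hH : IsCyclic ↥H := isCyclic_of_le hn hcomm hinv H fun u hu => hu
  let Γ : Subgroup (G × Matrix.GeneralLinearGroup (Fin n) F) :=
    { carrier := {p | p.2 ∈ H ∧ InnL ι π p.1 p.2}
      one_mem' := ⟨H.one_mem, InnL.one⟩
      mul_mem' := fun {p q} hp hq => ⟨H.mul_mem hp.1 hq.1, hp.2.mul hq.2⟩
      inv_mem' := fun {p} hp => ⟨H.inv_mem hp.1, hp.2.inv hι⟩ }
  let f : ↥Γ →* ↥H :=
    { toFun := fun p => ⟨p.1.2, p.2.1⟩
      map_one' := rfl
      map_mul' := fun p q => rfl }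
  have hf : Function.Injective f := by
    intro p q hpq
    have h1 : p.1.2 = q.1.2 := congrArg Subtype.val hpq
    have h2 := p.2.2
    rw [h1] at h2
    exact Subtype.ext (Prod.ext (h2.unique hr hc hι q.2.2) h1)
  have hΓ : IsCyclic ↥Γ := isCyclic_of_injective f hf
  let g : ↥Γ →* G := (MonoidHom.fst G (Matrix.GeneralLinearGroup (Fin n) F)).comp Γ.subtype
  refine ⟨g.range, isCyclic_of_surjective g.rangeRestrict g.rangeRestrict_surjective, fun y u hu hyu => ?_⟩
  exact ⟨⟨(y, u), hu, hyu⟩, rfl⟩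

end Cfsg.Agent.H968.TW
end

-- part: H968/TW/InvB
section
/-!
# S3694: invariance of `F[X̂]` and of its centralizer (helper968)
-/

set_option autoImplicit false

namespace Cfsg.Agent.H968.TW

open Subgroup Cfsg.Agent.H607.TW

universe u

variable {G : Type u} [Group G] {F : Type} [Field F] {n : ℕ} {S : Type} [Group S]
  {ι : S →* Matrix.GeneralLinearGroup (Fin n) F} {π : S →* G}

/-- multiplicative or antimultiplicative -/
abbrev MA (τ : Matrix (Fin n) (Fin n) F ≃+ Matrix (Fin n) (Fin n) F) : Prop :=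
  (∀ x y, τ (x * y) = τ x * τ y) ∨ ∀ x y, τ (x * y) = τ y * τ x

theorem ma_of_ind {g : G} {τ : Matrix (Fin n) (Fin n) F ≃+ Matrix (Fin n) (Fin n) F} (h : Ind ι π g τ) : MA τ := by
  rcases h with ⟨h, -⟩ | ⟨h, -⟩
  · exact Or.inl h
  · exact Or.inr h

theorem scalar_of_comm {x : Matrix (Fin n) (Fin n) F} (h : ∀ y, x * y = y * x) : ∃ c : F, x = c • 1 := by
  have h1 : x ∈ Set.range (Matrix.scalar (Fin n)) := Matrix.mem_range_scalar_iff_commute_single'.2 fun i j => (h _).symm
  obtain ⟨c, rfl⟩ := h1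
  exact ⟨c, by rw [Matrix.scalar_apply, Matrix.smul_one_eq_diagonal]⟩

theorem tau_scalar {τ : Matrix (Fin n) (Fin n) F ≃+ Matrix (Fin n) (Fin n) F} (h : MA τ) (c : F) :
    ∃ c' : F, τ (c • 1) = c' • 1 := by
  apply scalar_of_comm
  intro y
  obtain ⟨z, rfl⟩ := τ.surjective y
  rcases h with h | h
  · rw [← h, ← h, smul_mul_assoc, one_mul, mul_smul_comm, mul_one]
  · rw [← h, ← h, smul_mul_assoc, one_mul, mul_smul_comm, mul_one]

theorem tau_adjoin {τ : Matrix (Fin n) (Fin n) F ≃+ Matrix (Fin n) (Fin n) F} (h : MA τ)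
    {T : Set (Matrix (Fin n) (Fin n) F)} {E : Subalgebra F (Matrix (Fin n) (Fin n) F)} (hT : ∀ x ∈ T, τ x ∈ E)
    {x : Matrix (Fin n) (Fin n) F} (hx : x ∈ Algebra.adjoin F T) : τ x ∈ E := by
  induction hx using Algebra.adjoin_induction with
  | mem x hx => exact hT x hx
  | algebraMap c =>
    obtain ⟨c', hc⟩ := tau_scalar h c
    rw [Algebra.algebraMap_eq_smul_one, hc]
    exact E.smul_mem E.one_mem _
  | add x y _ _ hx hy => rw [map_add]; exact E.add_mem hx hy
  | mul x y _ _ hx hy =>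
    rcases h with h | h
    · rw [h]; exact E.mul_mem hx hy
    · rw [h]; exact E.mul_mem hy hx

/-- `F[X̂]` is invariant -/
theorem inv_adjoin {A X : Subgroup G} (hX : ∀ a ∈ A, ∀ x ∈ X, a * x * a⁻¹ ∈ X) :
    _root_.Cfsg.Agent.H607.TW.Inv ι π A (Algebra.adjoin F (_root_.Cfsg.Agent.H607.TW.mt ι '' {s | π s ∈ X})) := by
  intro a ha τ hτ x hx
  refine tau_adjoin (ma_of_ind hτ) ?_ hx
  rintro _ ⟨s, hs, rfl⟩
  rcases hτ with ⟨-, h⟩ | ⟨-, h⟩
  · obtain ⟨s', h1, h2⟩ := h s
    rw [← h1]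
    exact Algebra.subset_adjoin ⟨s', by rw [Set.mem_setOf_eq, h2]; exact hX a ha _ hs, rfl⟩
  · obtain ⟨s', h1, h2⟩ := h s
    rw [← h1]
    refine Algebra.subset_adjoin ⟨s', ?_, rfl⟩
    rw [Set.mem_setOf_eq, ← inv_mem_iff, h2]
    exact hX a ha _ hs

/-- the centralizer of an invariant subalgebra is invariant -/
theorem inv_centralizer [Finite F] {A : Subgroup G} {E : Subalgebra F (Matrix (Fin n) (Fin n) F)} (hE : _root_.Cfsg.Agent.H607.TW.Inv ι π A E) :
    _root_.Cfsg.Agent.H607.TW.Inv ι π A (Subalgebra.centralizer F (E : Set (Matrix (Fin n) (Fin n) F))) := by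
  intro a ha τ hτ x hx
  have hfin : Finite (Matrix (Fin n) (Fin n) F) := inferInstanceAs (Finite (Fin n → Fin n → F))
  -- `τ` maps `E` onto `E`
  have hs : ∀ y ∈ E, ∃ z ∈ E, τ z = y := by
    have hfe : Finite ↥E := inferInstance
    have hinj : Function.Injective (fun z : ↥E => (⟨τ z, hE a ha τ hτ z z.2⟩ : ↥E)) := by
      intro z w hzw
      exact Subtype.ext (τ.injective (congrArg Subtype.val hzw))
    intro y hy
    obtain ⟨z, hz⟩ := (Finite.injective_iff_surjective.1 hinj) ⟨y, hy⟩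
    exact ⟨z, z.2, congrArg Subtype.val hz⟩
  rw [Subalgebra.mem_centralizer_iff] at hx ⊢
  intro y hy
  obtain ⟨z, hz, rfl⟩ := hs y hy
  rcases ma_of_ind hτ with h | h
  · rw [← h, ← h, hx z hz]
  · rw [← h, ← h, hx z hz]

end Cfsg.Agent.H968.TW
end

-- part: H968/TW/AlgField
section
/-!
# S3694: the algebra of the field case (helper968)
-/

set_option autoImplicit false

namespace Cfsg.Agent.H968.TW

open Polynomial

variable {F : Type} [Field F] {n : ℕ}

/-- `dim F[x] ≤ r` if `x ^ r` is a scalar -/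
theorem finrank_adjoin_le {r : ℕ} (hr : 0 < r) {x : Matrix (Fin n) (Fin n) F} {c : F} (hxr : x ^ r = c • 1) :
    Module.finrank F ↥(Algebra.adjoin F {x}) ≤ r := by
  let f : ↥(degreeLT F r) →ₗ[F] Matrix (Fin n) (Fin n) F := (aeval x).toLinearMap.comp (degreeLT F r).subtype
  have hmon : (X ^ r - C c : F[X]).Monic := monic_X_pow_sub_C c hr.ne'
  have haev : aeval x (X ^ r - C c : F[X]) = 0 := by
    rw [map_sub, map_pow, aeval_X, aeval_C, hxr, Algebra.algebraMap_eq_smul_one, sub_self]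
  have hdeg : (X ^ r - C c : F[X]).degree = r := degree_X_pow_sub_C hr c
  have hle : Subalgebra.toSubmodule (Algebra.adjoin F {x}) ≤ LinearMap.range f := by
    intro y hy
    rw [Subalgebra.mem_toSubmodule, Algebra.adjoin_singleton_eq_range_aeval] at hy
    obtain ⟨p, rfl⟩ := hy
    refine ⟨⟨p %ₘ (X ^ r - C c), ?_⟩, ?_⟩
    · rw [mem_degreeLT, ← hdeg]
      exact degree_modByMonic_lt _ hmon
    · show aeval x (p %ₘ (X ^ r - C c)) = aeval x p
      conv_rhs => rw [← modByMonic_add_div p (X ^ r - C c)]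
      rw [map_add, map_mul, haev, zero_mul, add_zero]
  have h1 : Module.finrank F ↥(Subalgebra.toSubmodule (Algebra.adjoin F {x})) ≤ Module.finrank F ↥(LinearMap.range f) :=
    Submodule.finrank_mono hle
  have h2 : Module.finrank F ↥(LinearMap.range f) ≤ Module.finrank F ↥(degreeLT F r) := by
    have hfd : Module.Finite F ↥(degreeLT F r) := Module.Finite.equiv (degreeLTEquiv F r).symm
    exact LinearMap.finrank_range_le f
  have h3 : Module.finrank F ↥(degreeLT F r) = r := by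
    rw [(degreeLTEquiv F r).finrank_eq, Module.finrank_fin_fun]
  exact h1.trans (h2.trans h3.le)

/-- **The key computation**: `x` a non-scalar element of determinant one of a field `B` of dimension `n ≥ 3`, `x ^ r` scalar;
then no conjugate of `x` is a nontrivial multiple of `x`. -/
theorem eq_one_of_smul (hn : 3 ≤ n) {B : Subalgebra F (Matrix (Fin n) (Fin n) F)}
    (hcomm : ∀ x ∈ B, ∀ y ∈ B, x * y = y * x) (hinv : ∀ b ∈ B, b ≠ 0 → ∃ c ∈ B, b * c = 1)
    {x : Matrix (Fin n) (Fin n) F} (hxB : x ∈ B) (hxs : ¬ ∃ c : F, x = c • 1) {r : ℕ} (hr : r.Prime) (hnr : n ≤ r)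
    {c : F} (hxr : x ^ r = c • 1) (hdet : x.det = 1) {l : F} (hl : l ^ r = 1) : l = 1 := by
  by_contra hl1
  have hne : Nonempty (Fin n) := ⟨⟨0, by omega⟩⟩
  have hc0 : c ≠ 0 := by
    rintro rfl
    rw [zero_smul] at hxr
    have h1 := congrArg Matrix.det hxr
    rw [Matrix.det_pow, hdet, one_pow, Matrix.det_zero] at h1
    exact one_ne_zero h1
  have hprim : IsPrimitiveRoot l r := by
    rw [IsPrimitiveRoot.iff_orderOf]
    have hrf : Fact r.Prime := ⟨hr⟩
    exact orderOf_eq_prime hl hl1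
  by_cases hb : ∃ b : F, b ^ r = c
  · -- `c` is an `r`-th power
    obtain ⟨b, hb⟩ := hb
    have hb0 : b ≠ 0 := by
      rintro rfl
      rw [zero_pow hr.ne_zero] at hb
      exact hc0 hb.symm
    have hprod : (X ^ r - 1 : F[X]) = ∏ ζ ∈ nthRootsFinset r (1 : F), (X - C ζ) :=
      X_pow_sub_one_eq_prod hr.pos hprim
    have hz : aeval (b⁻¹ • x) (X ^ r - 1 : F[X]) = 0 := by
      rw [map_sub, map_pow, aeval_X, map_one, _root_.smul_pow, hxr, smul_smul, inv_pow, hb, inv_mul_cancel₀ hc0, one_smul,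
        sub_self]
    rw [hprod] at hz
    -- a factor vanishes
    have hfac : ∀ s : Finset F, aeval (b⁻¹ • x) (∏ ζ ∈ s, (X - C ζ : F[X])) = 0 → ∃ ζ ∈ s, b⁻¹ • x = ζ • 1 := by
      intro s
      classical
      induction s using Finset.induction_on with
      | empty =>
        intro h
        rw [Finset.prod_empty, map_one] at h
        exact absurd h one_ne_zero
      | insert ζ s hζ ih =>
        intro h
        rw [Finset.prod_insert hζ, map_mul] at h
        have hBζ : aeval (b⁻¹ • x) (X - C ζ : F[X]) = b⁻¹ • x - ζ • 1 := by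
          rw [map_sub, aeval_X, aeval_C, Algebra.algebraMap_eq_smul_one]
        rw [hBζ] at h
        by_cases h0 : b⁻¹ • x - ζ • (1 : Matrix (Fin n) (Fin n) F) = 0
        · exact ⟨ζ, Finset.mem_insert_self _ _, sub_eq_zero.1 h0⟩
        · obtain ⟨d, hd, h1⟩ := hinv _ (B.sub_mem (B.smul_mem hxB _) (B.smul_mem B.one_mem _)) h0
          have h2 : aeval (b⁻¹ • x) (∏ ζ ∈ s, (X - C ζ : F[X])) = 0 := by
            have h3 : d * (b⁻¹ • x - ζ • 1) = 1 := by
              rw [← hcomm _ (B.sub_mem (B.smul_mem hxB _) (B.smul_mem B.one_mem _)) d hd, h1]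
            calc _ = d * (b⁻¹ • x - ζ • 1) * aeval (b⁻¹ • x) (∏ ζ ∈ s, (X - C ζ : F[X])) := by rw [h3, one_mul]
              _ = 0 := by rw [mul_assoc, h, mul_zero]
          obtain ⟨ζ', hζ', h4⟩ := ih h2
          exact ⟨ζ', Finset.mem_insert_of_mem hζ', h4⟩
    obtain ⟨ζ, -, h1⟩ := hfac _ hz
    apply hxs
    refine ⟨b * ζ, ?_⟩
    rw [mul_smul, ← h1, smul_smul, mul_inv_cancel₀ hb0, one_smul]
  · push Not at hb
    have hirr : Irreducible (X ^ r - C c : F[X]) := X_pow_sub_C_irreducible_of_prime hr hb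
    have haev : aeval x (X ^ r - C c : F[X]) = 0 := by
      rw [map_sub, map_pow, aeval_X, aeval_C, hxr, Algebra.algebraMap_eq_smul_one, sub_self]
    have hmon : (X ^ r - C c : F[X]).Monic := monic_X_pow_sub_C c hr.ne_zero
    have hmin : (X ^ r - C c : F[X]) = minpoly F x := minpoly.eq_of_irreducible_of_monic hirr haev hmon
    have hdvd : (X ^ r - C c : F[X]) ∣ x.charpoly := by rw [hmin]; exact Matrix.minpoly_dvd_charpoly x
    have hdeg : (X ^ r - C c : F[X]).natDegree = r := natDegree_X_pow_sub_C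
    have hcd : x.charpoly.natDegree = n := by rw [Matrix.charpoly_natDegree_eq_dim, Fintype.card_fin]
    have hrn : r ≤ n := by
      rw [← hdeg, ← hcd]
      exact natDegree_le_of_dvd hdvd (Matrix.charpoly_monic x).ne_zero
    have hnr' : n = r := le_antisymm hnr hrn
    have heq : x.charpoly = X ^ r - C c := by
      refine (eq_of_monic_of_dvd_of_natDegree_le hmon (Matrix.charpoly_monic x) hdvd ?_)
      rw [hcd, hdeg]; exact hnr
    have hd := Matrix.det_eq_sign_charpoly_coeff x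
    rw [heq, hdet, Fintype.card_fin] at hd
    have hodd : Odd n := by
      rw [hnr']
      exact hr.odd_of_ne_two (by omega)
    rw [hodd.neg_one_pow, coeff_sub, coeff_X_pow, if_neg (fun h => hr.ne_zero h.symm), coeff_C_zero, zero_sub,
      neg_mul_neg, one_mul] at hd
    exact hb 1 (by rw [one_pow, hd])

end Cfsg.Agent.H968.TW
end

-- part: H968/TW/FieldLoc
section
/-!
# S3694: the field case, one maximal subgroup (helper968)
-/

set_option autoImplicit false

namespace Cfsg.Agent.H968.TW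

open Subgroup Cfsg.Agent.H607.TW

universe u

/-- T12a, as a hypothesis -/
def T12a (F : Type) [Field F] (n : ℕ) : Prop :=
  ∀ (B : Subalgebra F (Matrix (Fin n) (Fin n) F)), (∀ x ∈ B, ∀ y ∈ B, x * y = y * x) →
    (∀ x ∈ B, x ≠ 0 → ∃ y ∈ B, x * y = 1) →
    ∃ (L : Type) (_ : Field L) (w : ℕ) (φ : Matrix (Fin w) (Fin w) L →ₙ+* Matrix (Fin n) (Fin n) F),
      Nat.card L = Nat.card ↥B ∧ w * Module.finrank F ↥B = n ∧ Function.Injective φ ∧ φ 1 = 1 ∧
      (∀ x, (∃ m, φ m = x) ↔ ∀ y ∈ B, x * y = y * x) ∧ (∀ c : L, φ (Matrix.scalar (Fin w) c) ∈ B)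

variable {G : Type u} [Group G] [Finite G] {N A X : Subgroup G} {r : ℕ} {F : Type} [Field F] [Finite F] {n : ℕ} {S : Type}
  [Group S] {ι : S →* Matrix.GeneralLinearGroup (Fin n) F} {π : S →* G}

omit [Finite G] [Finite F] in
theorem mt_pow (s : S) (k : ℕ) : _root_.Cfsg.Agent.H607.TW.mt ι (s ^ k) = _root_.Cfsg.Agent.H607.TW.mt ι s ^ k := by
  induction k with
  | zero => rw [pow_zero, pow_zero, mt_one]
  | succ k ih => rw [pow_succ, mt_mul, ih, pow_succ]

omit [Finite G] [Finite F] in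
/-- elements of `S` with the same image differ by a scalar -/
theorem mt_eq_smul (hM : Model N ι π) {s t : S} (h : π s = π t) : ∃ c : F, _root_.Cfsg.Agent.H607.TW.mt ι s = c • _root_.Cfsg.Agent.H607.TW.mt ι t := by
  obtain ⟨c, hc⟩ := (hM.ker (s * t⁻¹)).1 (by rw [map_mul, map_inv, h, mul_inv_cancel])
  refine ⟨c, ?_⟩
  have h1 : s = s * t⁻¹ * t := by group
  rw [h1, mt_mul, hc, smul_mul_assoc, one_mul]

omit [Finite G] [Finite F] in
theorem adjoin_comm {T : Set (Matrix (Fin n) (Fin n) F)} (hT : ∀ x ∈ T, ∀ y ∈ T, x * y = y * x) :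
    ∀ x ∈ Algebra.adjoin F T, ∀ y ∈ Algebra.adjoin F T, x * y = y * x := by
  have h1 : Algebra.adjoin F T ≤ Subalgebra.centralizer F T := Algebra.adjoin_le fun t ht =>
    (Subalgebra.mem_centralizer_iff F).2 fun s hs => hT s hs t ht
  have h2 : Algebra.adjoin F T ≤ Subalgebra.centralizer F (Algebra.adjoin F T : Set (Matrix (Fin n) (Fin n) F)) :=
    Algebra.adjoin_le fun t ht => (Subalgebra.mem_centralizer_iff F).2 fun y hy =>
      ((Subalgebra.mem_centralizer_iff F).1 (h1 hy) t ht).symm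
  intro x hx y hy
  exact (Subalgebra.mem_centralizer_iff F).1 (h2 hy) x hx

theorem field_local (hT : T12a F n) (h : Loc N A r) (hn : 3 ≤ n) (hM : Model N ι π) (hC : CompAx ι π A)
    (hX : MinX N A X r) (hab : ∀ s t : S, π s ∈ X → π t ∈ X → s * t = t * s)
    (hinv : ∀ b ∈ Algebra.adjoin F (_root_.Cfsg.Agent.H607.TW.mt ι '' {s | π s ∈ X}), b ≠ 0 →
      ∃ c ∈ Algebra.adjoin F (_root_.Cfsg.Agent.H607.TW.mt ι '' {s | π s ∈ X}), b * c = 1) :
    r ≠ 2 ∧ ∀ y ∈ OO r A, y ≠ 1 → ∀ u, InnL ι π y u → X ≤ zpowers y := by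
  have hSfin : Finite S := Finite.of_injective ι hM.inj
  obtain ⟨B, hB⟩ : ∃ B, B = Algebra.adjoin F (_root_.Cfsg.Agent.H607.TW.mt ι '' {s | π s ∈ X}) := ⟨_, rfl⟩
  have hcomm : ∀ x ∈ B, ∀ y ∈ B, x * y = y * x := by
    rw [hB]
    apply adjoin_comm
    rintro _ ⟨s, hs, rfl⟩ _ ⟨t, ht, rfl⟩
    rw [← mt_mul, ← mt_mul, hab s t hs ht]
  rw [← hB] at hinv
  have hgen : ∀ s : S, π s ∈ X → _root_.Cfsg.Agent.H607.TW.mt ι s ∈ B := fun s hs => by rw [hB]; exact Algebra.subset_adjoin ⟨s, hs, rfl⟩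
  -- `x₀`
  obtain ⟨⟨x₀, hx₀⟩, hx₀1'⟩ := Subgroup.ne_bot_iff_exists_ne_one.1 hX.ne
  have hx₀1 : x₀ ≠ 1 := fun h => hx₀1' (Subtype.ext h)
  obtain ⟨s₀, hs₀⟩ : ∃ s, π s = x₀ := by
    have h1 := (hX.le hx₀).2
    rw [← hM.range] at h1
    exact h1
  have hns : ¬ ∃ c : F, _root_.Cfsg.Agent.H607.TW.mt ι s₀ = c • 1 := by
    intro h1
    apply hx₀1
    rw [← hs₀]
    exact (hM.ker s₀).2 h1
  have hs₀X : π s₀ ∈ X := by rw [hs₀]; exact hx₀
  -- the centralizer
  have hXn : ∀ a ∈ A, ∀ x ∈ X, a * x * a⁻¹ ∈ X := fun a ha x hx => conj_mem_of_norm hX.norm ha hx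
  have hInvB : _root_.Cfsg.Agent.H607.TW.Inv ι π A B := by rw [hB]; exact inv_adjoin hXn
  have hInvE := inv_centralizer hInvB
  have hEtop : Subalgebra.centralizer F (B : Set (Matrix (Fin n) (Fin n) F)) ≠ ⊤ := by
    intro h1
    apply hns
    apply scalar_of_comm
    intro y
    have h2 : y ∈ Subalgebra.centralizer F (B : Set (Matrix (Fin n) (Fin n) F)) := by rw [h1]; exact Algebra.mem_top
    exact (Subalgebra.mem_centralizer_iff F).1 h2 _ (hgen _ hs₀X)
  obtain ⟨L, _, w, φ, hcard, hdim, hφ, hφ1, hrange, hsc⟩ := hT B hcomm hinv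
  have hmemE : ∀ x, x ∈ Subalgebra.centralizer F (B : Set (Matrix (Fin n) (Fin n) F)) ↔ ∀ y ∈ B, x * y = y * x := by
    intro x
    rw [Subalgebra.mem_centralizer_iff]
    exact ⟨fun h1 y hy => (h1 y hy).symm, fun h1 y hy => (h1 y hy).symm⟩
  have hw := hC _ hInvE hEtop L w φ hφ (fun x => by
    rw [hrange, hmemE, hφ1, one_mul]
    exact ⟨fun h1 => ⟨h1, rfl⟩, fun h1 => h1.1⟩) (fun x _ => by rw [hφ1, one_mul, mul_one])
  have hBfin : Finite ↥B := by
    have hfin : Finite (Matrix (Fin n) (Fin n) F) := inferInstanceAs (Finite (Fin n → Fin n → F))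
    exact Subtype.finite
  have hne : Nonempty (Fin n) := ⟨⟨0, by omega⟩⟩
  have hLF : Nat.card L ≠ Nat.card F := by
    intro h1
    rw [hcard] at h1
    have hinj : Function.Injective (fun c : F => (⟨c • 1, B.smul_mem B.one_mem c⟩ : ↥B)) := by
      intro c c' hcc
      have h2 : c • (1 : Matrix (Fin n) (Fin n) F) = c' • 1 := congrArg Subtype.val hcc
      have h3 := congrFun (congrFun h2 (Classical.arbitrary _)) (Classical.arbitrary _)
      simpa using h3
    have hbij := hinj.bijective_of_nat_card_le h1.le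
    obtain ⟨c, hc⟩ := hbij.2 ⟨_, hgen _ hs₀X⟩
    exact hns ⟨c, (congrArg Subtype.val hc).symm⟩
  have hw1 : w ≤ 1 := by
    rcases hw with h1 | ⟨-, h1, -⟩ | ⟨-, h1, -⟩
    · exact h1
    · exact absurd h1 hLF
    · exact absurd h1 hLF
  have hw1' : w = 1 := by
    rcases Nat.lt_or_ge 0 w with h1 | h1
    · omega
    · exfalso
      have h2 : w = 0 := by omega
      rw [h2, zero_mul] at hdim
      omega
  subst hw1'
  rw [one_mul] at hdim
  -- `C(B) = B`
  have hCB : ∀ x : Matrix (Fin n) (Fin n) F, (∀ y ∈ B, x * y = y * x) → x ∈ B := by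
    intro x hx
    obtain ⟨m, rfl⟩ := (hrange x).2 hx
    have h1 : m = Matrix.scalar (Fin 1) (m 0 0) := by
      ext i j
      rw [Subsingleton.elim i 0, Subsingleton.elim j 0, Matrix.scalar_apply, Matrix.diagonal_apply_eq]
    rw [h1]
    exact hsc _
  obtain ⟨D, hD, hDm⟩ := exists_cyclic hM.range h.cent hM.inj (by omega : 0 < n) hcomm hinv
  have hXD : ∀ x ∈ X, x ∈ D := by
    intro x hx
    obtain ⟨s, rfl⟩ : ∃ s, π s = x := by
      have h1 := (hX.le hx).2
      rw [← hM.range] at h1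
      exact h1
    exact hDm _ _ (hgen s hx) (InnL.pi s)
  have hXp : ∀ y ∈ OO r A, y ≠ 1 → y ∈ D → X ≤ zpowers y := by
    intro y hy hy1 hyD x hx
    refine mem_zpowers_of_cyclic hD h.prime hyD hy1 ?_ (hXD x hx) (hX.exp x hx)
    obtain ⟨k, hk⟩ := isPGroup_OO r A ⟨y, hy⟩
    exact ⟨k, congrArg Subtype.val hk⟩
  -- `B = F[x̂₀]`
  have hB0 : B ≤ Algebra.adjoin F {_root_.Cfsg.Agent.H607.TW.mt ι s₀} := by
    conv_lhs => rw [hB]
    apply Algebra.adjoin_le
    rintro _ ⟨s, hs, rfl⟩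
    have h1 := hXp x₀ (hX.le hx₀).1 hx₀1 (hXD x₀ hx₀) hs
    rw [← mem_powers_iff_mem_zpowers] at h1
    obtain ⟨k, hk⟩ := h1
    have hk' : x₀ ^ k = π s := hk
    rw [← hs₀, ← map_pow] at hk'
    obtain ⟨c, hc⟩ := mt_eq_smul hM hk'.symm
    rw [SetLike.mem_coe, hc, mt_pow]
    exact Subalgebra.smul_mem _ (Subalgebra.pow_mem _ (Algebra.self_mem_adjoin_singleton F _) k) c
  obtain ⟨c, hc⟩ := (hM.ker (s₀ ^ r)).1 (by rw [map_pow, hs₀, hX.exp _ hx₀])
  rw [mt_pow] at hc
  have hnr : n ≤ r := by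
    have h1 := finrank_adjoin_le h.prime.pos hc
    have h2 : B = Algebra.adjoin F {_root_.Cfsg.Agent.H607.TW.mt ι s₀} := le_antisymm hB0 (Algebra.adjoin_le (by
      rw [Set.singleton_subset_iff]; exact hgen _ hs₀X))
    rw [← h2, hdim] at h1
    exact h1
  refine ⟨by omega, fun y hy hy1 u hyu => hXp y hy hy1 (hDm y u ?_ hyu)⟩
  -- `u ∈ B`
  obtain ⟨s', h1, h2⟩ := hyu s₀
  have h3 : π s' = π s₀ := by
    rw [h2, hs₀, ← hX.comm x₀ hx₀ y hy, mul_inv_cancel_right]
  obtain ⟨l, hl⟩ := mt_eq_smul hM h3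
  have h4 : (u : Matrix (Fin n) (Fin n) F) * _root_.Cfsg.Agent.H607.TW.mt ι s₀ *
      ((u⁻¹ : Matrix.GeneralLinearGroup (Fin n) F) : Matrix (Fin n) (Fin n) F) = l • _root_.Cfsg.Agent.H607.TW.mt ι s₀ := by
    rw [← hl]
    unfold H607.TW.mt
    rw [h1, Units.val_mul, Units.val_mul]
  have h5 : ((u⁻¹ : Matrix.GeneralLinearGroup (Fin n) F) : Matrix (Fin n) (Fin n) F) *
      (u : Matrix (Fin n) (Fin n) F) = 1 := by
    rw [← Units.val_mul, inv_mul_cancel, Units.val_one]
  have h6 : (u : Matrix (Fin n) (Fin n) F) *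
      ((u⁻¹ : Matrix.GeneralLinearGroup (Fin n) F) : Matrix (Fin n) (Fin n) F) = 1 := by
    rw [← Units.val_mul, mul_inv_cancel, Units.val_one]
  have hc0 : c ≠ 0 := by
    rintro rfl
    rw [zero_smul] at hc
    have h7 := congrArg Matrix.det hc
    rw [Matrix.det_pow, hM.det, one_pow, Matrix.det_zero] at h7
    exact one_ne_zero h7
  have hlr : l ^ r = 1 := by
    have h7 : ∀ k : ℕ, ((u : Matrix (Fin n) (Fin n) F) * _root_.Cfsg.Agent.H607.TW.mt ι s₀ *
        ((u⁻¹ : Matrix.GeneralLinearGroup (Fin n) F) : Matrix (Fin n) (Fin n) F)) ^ k =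
        (u : Matrix (Fin n) (Fin n) F) * _root_.Cfsg.Agent.H607.TW.mt ι s₀ ^ k *
        ((u⁻¹ : Matrix.GeneralLinearGroup (Fin n) F) : Matrix (Fin n) (Fin n) F) := by
      intro k
      induction k with
      | zero => rw [pow_zero, pow_zero, mul_one, h6]
      | succ k ih =>
        rw [pow_succ, ih, pow_succ]
        calc _ = (u : Matrix (Fin n) (Fin n) F) * _root_.Cfsg.Agent.H607.TW.mt ι s₀ ^ k *
              (((u⁻¹ : Matrix.GeneralLinearGroup (Fin n) F) : Matrix (Fin n) (Fin n) F) *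
              (u : Matrix (Fin n) (Fin n) F)) * _root_.Cfsg.Agent.H607.TW.mt ι s₀ *
              ((u⁻¹ : Matrix.GeneralLinearGroup (Fin n) F) : Matrix (Fin n) (Fin n) F) := by simp only [mul_assoc]
          _ = _ := by rw [h5, mul_one]; simp only [mul_assoc]
    have h8 := h7 r
    rw [h4, hc, smul_pow, hc, mul_smul_comm, mul_one, smul_mul_assoc, h6, smul_smul] at h8
    have h9 := congrFun (congrFun h8 (Classical.arbitrary _)) (Classical.arbitrary _)
    rw [Matrix.smul_apply, Matrix.smul_apply, Matrix.one_apply_eq, smul_eq_mul, smul_eq_mul, mul_one, mul_one] at h9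
    exact mul_right_cancel₀ hc0 (h9.trans (one_mul c).symm)
  have hl1 : l = 1 := eq_one_of_smul hn hcomm hinv (hgen _ hs₀X) hns h.prime hnr hc (hM.det s₀) hlr
  have h10 : (u : Matrix (Fin n) (Fin n) F) * _root_.Cfsg.Agent.H607.TW.mt ι s₀ = _root_.Cfsg.Agent.H607.TW.mt ι s₀ * (u : Matrix (Fin n) (Fin n) F) := by
    rw [hl1, one_smul] at h4
    calc _ = (u : Matrix (Fin n) (Fin n) F) * _root_.Cfsg.Agent.H607.TW.mt ι s₀ *
          (((u⁻¹ : Matrix.GeneralLinearGroup (Fin n) F) : Matrix (Fin n) (Fin n) F) *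
          (u : Matrix (Fin n) (Fin n) F)) := by rw [h5, mul_one]
      _ = (u : Matrix (Fin n) (Fin n) F) * _root_.Cfsg.Agent.H607.TW.mt ι s₀ *
          ((u⁻¹ : Matrix.GeneralLinearGroup (Fin n) F) : Matrix (Fin n) (Fin n) F) *
          (u : Matrix (Fin n) (Fin n) F) := by simp only [mul_assoc]
      _ = _ := by rw [h4]
  apply hCB
  have h11 : Algebra.adjoin F {_root_.Cfsg.Agent.H607.TW.mt ι s₀} ≤ Subalgebra.centralizer F {(u : Matrix (Fin n) (Fin n) F)} := by
    apply Algebra.adjoin_le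
    rw [Set.singleton_subset_iff, SetLike.mem_coe, Subalgebra.mem_centralizer_iff]
    intro z hz
    rw [Set.mem_singleton_iff] at hz
    rw [hz, h10]
  intro z hz
  exact (Subalgebra.mem_centralizer_iff F).1 (h11 (hB0 hz)) _ rfl

end Cfsg.Agent.H968.TW
end
end
end

-- part: H87/TW/Extra
section
prune_inst 0x10000000000000000010000000000000
set_option linter.all false
open scoped Cfsg.Agent.FastGrp

-- part: H87/TW/Conj
section
/-!
# S3694, T16: lifts and conjugation (helper87)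

* `Ind.weak`: what an automorphism or anti-automorphism has in common;
* `Extra.conj`: `Extra` is invariant under conjugation by `G`;
* `not_ind_one`: in the extraspecial case an element outside `N` centralising `A ∩ N` has no `F`-linear lift;
* `card_ker_le`, `two_pow_card_aut`: bounds.
-/

set_option autoImplicit false

namespace Cfsg.Agent.H87.TW

open Subgroup Cfsg.Agent.H607.TW

universe u

variable {G : Type u} [Group G] {N A : Subgroup G} {r : ℕ} {F : Type} [Field F] {n : ℕ} {S : Type} [Group S]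
  {ι : S →* Matrix.GeneralLinearGroup (Fin n) F} {π : S →* G}

theorem mt_mul (s t : S) : _root_.Cfsg.Agent.H607.TW.mt ι (s * t) = _root_.Cfsg.Agent.H607.TW.mt ι s * _root_.Cfsg.Agent.H607.TW.mt ι t := by
  unfold H607.TW.mt
  rw [map_mul, Units.val_mul]

theorem mt_inj (h : Function.Injective ι) {s t : S} (hst : _root_.Cfsg.Agent.H607.TW.mt ι s = _root_.Cfsg.Agent.H607.TW.mt ι t) : s = t :=
  h (Units.ext hst)

theorem Ind.weak {g : G} {τ : Matrix (Fin n) (Fin n) F ≃+ Matrix (Fin n) (Fin n) F} (h : Ind ι π g τ) :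
    (∀ x y, τ x * τ y = τ y * τ x ↔ x * y = y * x) ∧
      ∀ s, ∃ s', _root_.Cfsg.Agent.H607.TW.mt ι s' = τ (_root_.Cfsg.Agent.H607.TW.mt ι s) ∧ ∀ H : Subgroup G, π s' ∈ H ↔ g * π s * g⁻¹ ∈ H := by
  rcases h with ⟨h1, h2⟩ | ⟨h1, h2⟩
  · refine ⟨fun x y => ?_, fun s => ?_⟩
    · rw [← h1, ← h1, τ.injective.eq_iff]
    · obtain ⟨s', h3, h4⟩ := h2 s
      exact ⟨s', h3, fun H => by rw [h4]⟩
  · refine ⟨fun x y => ?_, fun s => ?_⟩
    · rw [← h1, ← h1, τ.injective.eq_iff, eq_comm]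
    · obtain ⟨s', h3, h4⟩ := h2 s
      exact ⟨s', h3, fun H => by rw [← h4, H.inv_mem_iff]⟩

theorem tauP_smul_one (B : Matrix.GeneralLinearGroup (Fin n) F) (σ : F ≃+* F) (c : F) :
    tauP B σ (c • 1) = σ c • 1 := by
  rw [tauP_apply]
  have h1 : ((c • (1 : Matrix (Fin n) (Fin n) F)).map σ) = σ c • 1 := by
    ext i j
    by_cases hij : i = j
    · simp [hij]
    · simp [hij]
  rw [h1, Matrix.mul_smul, mul_one, Matrix.smul_mul, ← Units.val_mul, mul_inv_cancel, Units.val_one]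

theorem tauM_smul_one (B : Matrix.GeneralLinearGroup (Fin n) F) (σ : F ≃+* F) (c : F) :
    tauM B σ (c • 1) = σ c • 1 := by
  rw [tauM_apply, Matrix.transpose_smul, Matrix.transpose_one]
  exact tauP_smul_one B σ c

/-- membership in a conjugate -/
theorem mem_map_conj {H : Subgroup G} {g x : G} : x ∈ H.map (MulAut.conj g).toMonoidHom ↔ g⁻¹ * x * g ∈ H := by
  constructor
  · rintro ⟨y, hy, rfl⟩
    have : g⁻¹ * (MulAut.conj g).toMonoidHom y * g = y := by
      change g⁻¹ * (g * y * g⁻¹) * g = y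
      group
    rwa [this]
  · intro hx
    refine ⟨_, hx, ?_⟩
    change g * (g⁻¹ * x * g) * g⁻¹ = x
    group

theorem map_inf_conj (hN : N.Normal) (H : Subgroup G) (g : G) :
    (H ⊓ N).map (MulAut.conj g).toMonoidHom = H.map (MulAut.conj g).toMonoidHom ⊓ N := by
  ext x
  rw [mem_inf, mem_map_conj, mem_map_conj, mem_inf]
  refine and_congr_right fun _ => ⟨fun h => ?_, fun h => ?_⟩
  · have := hN.conj_mem _ h g
    have h2 : g * (g⁻¹ * x * g) * g⁻¹ = x := by group
    rwa [h2] at this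
  · have := hN.conj_mem _ h g⁻¹
    rwa [inv_inv] at this

theorem norm_map_conj {H K : Subgroup G} (g : G) :
    H.map (MulAut.conj g).toMonoidHom ≤ normalizer (K.map (MulAut.conj g).toMonoidHom : Set G) ↔ H ≤ normalizer (K : Set G) := by
  constructor
  · intro h
    apply le_normalizer_of_conj
    intro a ha x hx
    have h1 : g * a * g⁻¹ ∈ H.map (MulAut.conj g).toMonoidHom := ⟨a, ha, rfl⟩
    have h2 : g * x * g⁻¹ ∈ K.map (MulAut.conj g).toMonoidHom := ⟨x, hx, rfl⟩
    have h3 := conj_mem_of_norm h h1 h2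
    rw [mem_map_conj] at h3
    have h4 : g⁻¹ * (g * a * g⁻¹ * (g * x * g⁻¹) * (g * a * g⁻¹)⁻¹) * g = a * x * a⁻¹ := by group
    rwa [h4] at h3
  · intro h
    apply le_normalizer_of_conj
    intro a ha x hx
    rw [mem_map_conj] at ha hx ⊢
    have h3 := conj_mem_of_norm h ha hx
    have h4 : g⁻¹ * a * g * (g⁻¹ * x * g) * (g⁻¹ * a * g)⁻¹ = g⁻¹ * (a * x * a⁻¹) * g := by group
    rwa [h4] at h3

/-- `Extra` is invariant under conjugation. -/
theorem Extra.conj (hN : N.Normal) (hM : Model N ι π) (hX : Extra ι π N A r) (g : G) :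
    Extra ι π N (A.map (MulAut.conj g).toMonoidHom) r := by
  have hO : OO r (A.map (MulAut.conj g).toMonoidHom) = (OO r A).map (MulAut.conj g).toMonoidHom := OO_map r A (MulAut.conj g)
  have hE : OO r (A.map (MulAut.conj g).toMonoidHom) ⊓ N = (OO r A ⊓ N).map (MulAut.conj g).toMonoidHom := by
    rw [hO, map_inf_conj hN]
  have hmem : ∀ x, x ∈ OO r (A.map (MulAut.conj g).toMonoidHom) ⊓ N ↔ g⁻¹ * x * g ∈ OO r A ⊓ N := by
    intro x
    rw [hE, mem_map_conj]
  have hlift : ∃ τ : Matrix (Fin n) (Fin n) F ≃+ Matrix (Fin n) (Fin n) F, Ind ι π g τ ∧ ∀ c : F, ∃ c' : F, τ (c • 1) = c' • 1 := by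
    obtain ⟨B, σ, h1 | h1⟩ := hM.lift g
    · exact ⟨_, h1, fun c => ⟨_, tauP_smul_one B σ c⟩⟩
    · exact ⟨_, h1, fun c => ⟨_, tauM_smul_one B σ c⟩⟩
  obtain ⟨τ, hτ, hsc⟩ := hlift
  obtain ⟨hτ1, hτ2⟩ := Ind.weak hτ
  have hcan : ∀ x : G, g⁻¹ * (g * x * g⁻¹) * g = x := fun x => by group
  have hcan2 : ∀ x : G, g * (g⁻¹ * x * g) * g⁻¹ = x := fun x => by group
  refine ⟨?_, ?_, ?_, ?_, ?_, ?_, ?_⟩
  · rw [hE]
    intro h1
    rw [map_eq_bot_iff_of_injective _ (MulAut.conj g).injective] at h1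
    exact hX.ne h1
  · intro K hK hK1 hKn
    -- pull back
    have hcomp : ∀ H : Subgroup G, (H.map (MulAut.conj g⁻¹).toMonoidHom).map (MulAut.conj g).toMonoidHom = H := by
      intro H
      ext x
      rw [mem_map_conj, mem_map_conj, inv_inv, hcan2]
    have h1 : K.map (MulAut.conj g⁻¹).toMonoidHom ≤ OO r A ⊓ N := by
      intro x hx
      rw [mem_map_conj, inv_inv] at hx
      have := (hmem _).mp (hK hx)
      rwa [hcan] at this
    have h2 : K.map (MulAut.conj g⁻¹).toMonoidHom ≠ ⊥ := by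
      intro h3
      rw [map_eq_bot_iff_of_injective _ (MulAut.conj g⁻¹).injective] at h3
      exact hK1 h3
    have h3 : A ≤ normalizer (K.map (MulAut.conj g⁻¹).toMonoidHom : Set G) := by
      rw [← norm_map_conj g, hcomp]
      exact hKn
    have h4 := hX.min _ h1 h2 h3
    rw [hE, ← h4, hcomp]
  · intro x hx y hy
    rw [hmem] at hx
    rw [hO, mem_map_conj] at hy
    have h1 := hX.comm _ hx _ hy
    have h2 : g⁻¹ * x * g * (g⁻¹ * y * g) = g⁻¹ * (x * y) * g := by group
    have h3 : g⁻¹ * y * g * (g⁻¹ * x * g) = g⁻¹ * (y * x) * g := by group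
    rw [h2, h3] at h1
    simpa only [_root_.mul_left_inj, _root_.mul_right_inj] using h1
  · intro x hx
    rw [hmem] at hx
    have h1 := hX.exp _ hx
    have h2 : (g⁻¹ * x * g) ^ r = g⁻¹ * x ^ r * g := by
      have := conj_pow (i := r) (a := g⁻¹) (b := x)
      rwa [inv_inv] at this
    rw [h2] at h1
    have h3 : g⁻¹ * x ^ r = g⁻¹ := by
      rw [← mul_one (g⁻¹ * x ^ r), ← mul_inv_cancel g, ← mul_assoc, h1, one_mul]
    simpa using h3
  · intro k hk hc
    rw [hmem]
    apply hX.self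
    · have := hN.conj_mem _ hk g⁻¹
      rwa [inv_inv] at this
    · intro e he
      have h1 : g * e * g⁻¹ ∈ OO r (A.map (MulAut.conj g).toMonoidHom) ⊓ N := by
        rw [hmem, hcan]
        exact he
      have h2 := hc _ h1
      calc g⁻¹ * k * g * e = g⁻¹ * (k * (g * e * g⁻¹)) * g := by group
        _ = g⁻¹ * (g * e * g⁻¹ * k) * g := by rw [h2]
        _ = e * (g⁻¹ * k * g) := by group
  · intro x hx
    have h1 : ∀ s : S, π s ∈ OO r A ⊓ N → τ.symm x * _root_.Cfsg.Agent.H607.TW.mt ι s = _root_.Cfsg.Agent.H607.TW.mt ι s * τ.symm x := by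
      intro s hs
      rw [← hτ1, τ.apply_symm_apply]
      obtain ⟨s', h2, h3⟩ := hτ2 s
      rw [← h2]
      apply hx
      rw [h3, hmem, hcan]
      exact hs
    obtain ⟨c, hc⟩ := hX.scal _ h1
    obtain ⟨c', hc'⟩ := hsc c
    refine ⟨c', ?_⟩
    rw [← hc', ← hc, τ.apply_symm_apply]
  · obtain ⟨s, t, hs, ht, hst⟩ := hX.nonab
    obtain ⟨s', h1, h2⟩ := hτ2 s
    obtain ⟨t', h3, h4⟩ := hτ2 t
    refine ⟨s', t', ?_, ?_, ?_⟩
    · rw [h2, hmem, hcan]
      exact hs
    · rw [h4, hmem, hcan]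
      exact ht
    · intro h5
      apply hst
      apply mt_inj hM.inj
      rw [mt_mul, mt_mul, ← hτ1, ← h1, ← h3, ← mt_mul, ← mt_mul, h5]

theorem card_ker_le [Fintype F] (hM : Model N ι π) : Nat.card π.ker ≤ Nat.card F := by
  have hn : 0 < n := by have := hM.two; omega
  have hex : ∀ s : π.ker, ∃ c : F, _root_.Cfsg.Agent.H607.TW.mt ι (s : S) = c • (1 : Matrix (Fin n) (Fin n) F) := fun s =>
    (hM.ker _).mp s.2
  choose f hf using hex
  apply Nat.card_le_card_of_injective f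
  intro s t hst
  apply Subtype.ext
  apply mt_inj hM.inj
  rw [hf, hf, hst]

theorem two_pow_card_aut (F : Type*) [Field F] [Finite F] : 2 ^ Nat.card (F ≃+* F) ≤ Nat.card F := by
  have := Fintype.ofFinite F
  obtain ⟨p, hp⟩ := CharP.exists F
  have hpr : Fact p.Prime := ⟨CharP.char_is_prime F p⟩
  let _ : Algebra (ZMod p) F := ZMod.algebra F p
  let e : (F ≃ₐ[ZMod p] F) ≃ (F ≃+* F) :=
    { toFun := fun f => f.toRingEquiv
      invFun := fun f => AlgEquiv.ofRingEquiv (f := f) (fun x => by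
        obtain ⟨k, rfl⟩ := ZMod.natCast_zmod_surjective x
        simp)
      left_inv := fun f => by ext x; rfl
      right_inv := fun f => by ext x; rfl }
  have h1 : Nat.card (F ≃ₐ[ZMod p] F) = Module.finrank (ZMod p) F := IsGalois.card_aut_eq_finrank (ZMod p) F
  rw [← Nat.card_congr e, h1]
  have h2 : Nat.card F = p ^ Module.finrank (ZMod p) F := by
    rw [Module.natCard_eq_pow_finrank (K := ZMod p), Nat.card_zmod]
  rw [h2]
  exact Nat.pow_le_pow_left hpr.out.two_le _

end Cfsg.Agent.H87.TW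
end

-- part: H87/TW/Count
section
/-!
# S3694, T16: the counting argument for an outer involution (helper87)

`y ∈ C₂` an involution with `⟨y⟩` normal in `C`, `E = O_2(A) ∩ N` minimal normal in `A`, self-centralizing in `N` and of
exponent two. Then `|A| ≤ d! 2^(d-1) |G : N|`.
-/

set_option autoImplicit false

namespace Cfsg.Agent.H87.TW

open Subgroup Cfsg.Agent.H607.TW

universe u

variable {G : Type u} [Group G] [Finite G]

theorem card_sup_zpowers_le {a : G} (h2 : a * a = 1) {K : Subgroup G} (hc : ∀ b ∈ K, a * b = b * a) :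
    Nat.card ↥(zpowers a ⊔ K) ≤ Nat.card ↥K * 2 := by
  let f : ↥K × Bool → G := fun p => if p.2 then (p.1 : G) else a * p.1
  let H : Subgroup G :=
    { carrier := {x | x ∈ K ∨ ∃ b ∈ K, x = a * b}
      one_mem' := Or.inl K.one_mem
      mul_mem' := by
        rintro x y (hx | ⟨b, hb, rfl⟩) (hy | ⟨c, hc', rfl⟩)
        · exact Or.inl (K.mul_mem hx hy)
        · exact Or.inr ⟨x * c, K.mul_mem hx hc', by rw [← mul_assoc, ← hc x hx, mul_assoc]⟩
        · exact Or.inr ⟨b * y, K.mul_mem hb hy, by rw [mul_assoc]⟩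
        · refine Or.inl ?_
          have : a * b * (a * c) = b * c := by
            calc a * b * (a * c) = b * a * (a * c) := by rw [hc b hb]
              _ = b * (a * a) * c := by simp only [mul_assoc]
              _ = b * c := by rw [h2, mul_one]
          rw [this]
          exact K.mul_mem hb hc'
      inv_mem' := by
        rintro x (hx | ⟨b, hb, rfl⟩)
        · exact Or.inl (K.inv_mem hx)
        · refine Or.inr ⟨b⁻¹, K.inv_mem hb, ?_⟩
          have ha : a⁻¹ = a := inv_eq_of_mul_eq_one_left h2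
          rw [mul_inv_rev, ha, hc b⁻¹ (K.inv_mem hb)] }
  have hH : zpowers a ⊔ K ≤ H := by
    apply sup_le
    · rw [zpowers_le]
      exact Or.inr ⟨1, K.one_mem, by rw [mul_one]⟩
    · exact fun x hx => Or.inl hx
  have h1 : ∀ x : ↥(zpowers a ⊔ K), ∃ p : ↥K × Bool, f p = x := by
    intro x
    rcases hH x.2 with h | ⟨b, hb, h⟩
    · exact ⟨(⟨x, h⟩, true), rfl⟩
    · exact ⟨(⟨b, hb⟩, false), h.symm⟩
  choose k hk using h1
  have h3 : Nat.card ↥(zpowers a ⊔ K) ≤ Nat.card (↥K × Bool) := by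
    apply Nat.card_le_card_of_injective k
    intro x y hxy
    apply Subtype.ext
    rw [← hk, ← hk, hxy]
  rwa [Nat.card_prod, Nat.card_eq_fintype_card (α := Bool), Fintype.card_bool] at h3

theorem card_closure_le (A : Finset G) (h2 : ∀ a ∈ A, a * a = 1) (hc : ∀ a ∈ A, ∀ b ∈ A, a * b = b * a) :
    Nat.card (closure (A : Set G)) ≤ 2 ^ A.card := by
  classical
  induction A using Finset.induction_on with
  | empty => simp
  | insert a A ha ih =>
    have h1 := ih (fun b hb => h2 b (Finset.mem_insert_of_mem hb)) fun b hb c hc' =>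
      hc b (Finset.mem_insert_of_mem hb) c (Finset.mem_insert_of_mem hc')
    rw [Finset.coe_insert, Set.insert_eq, Subgroup.closure_union, Finset.card_insert_of_notMem ha, pow_succ,
      ← zpowers_eq_closure]
    have h3 : ∀ b ∈ _root_.Subgroup.closure (A : Set G), a * b = b * a := by
      intro b hb
      have h4 : closure (A : Set G) ≤ centralizer {a} := (closure_le _).2 fun b hb =>
        mem_centralizer_singleton_iff.2 (hc b (Finset.mem_insert_of_mem hb) a (Finset.mem_insert_self a A))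
      exact (mem_centralizer_singleton_iff.1 (h4 hb)).symm
    have h5 := card_sup_zpowers_le (h2 a (Finset.mem_insert_self a A)) h3
    omega

omit [Finite G] in
/-- `y` an involution, `⟨y⟩` normalised by `C`: `C` centralises `y`. -/
theorem comm_of_norm {C : Subgroup G} {y : G} (hy2 : y * y = 1) (hy1 : y ≠ 1)
    (hn : C ≤ normalizer (zpowers y : Set G)) {c : G} (hc : c ∈ C) : c * y * c⁻¹ = y := by
  have h1 := conj_mem_of_norm hn hc (mem_zpowers y)
  obtain ⟨k, hk⟩ := mem_zpowers_iff.mp h1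
  rcases Int.even_or_odd' k with ⟨m, rfl | rfl⟩
  · exfalso
    apply hy1
    rw [zpow_mul, zpow_two, hy2, one_zpow] at hk
    have h2 : c * y = c := by
      rw [← mul_one (c * y), ← inv_mul_cancel c, ← mul_assoc, ← hk, one_mul]
    simpa using h2
  · rw [zpow_add, zpow_mul, zpow_two, hy2, one_zpow, one_mul, zpow_one] at hk
    exact hk.symm

/-- The counting argument. -/
theorem card_le_of_outer {N A C : Subgroup G} {d : ℕ} (hA : Loc N A 2) (hC : Loc N C 2) (hAC : A ≠ C)
    (hd : (A ⊓ C).relIndex A = d) (hd1 : 1 ≤ d)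
    (hmin : ∀ K : Subgroup G, K ≤ OO 2 A ⊓ N → K ≠ ⊥ → A ≤ normalizer (K : Set G) → K = OO 2 A ⊓ N)
    (hcomm : ∀ x ∈ OO 2 A ⊓ N, ∀ y ∈ OO 2 A, x * y = y * x) (hexp : ∀ x ∈ OO 2 A ⊓ N, x ^ 2 = 1)
    (hself : ∀ g ∈ N, (∀ k ∈ OO 2 A ⊓ N, g * k = k * g) → g ∈ OO 2 A ⊓ N)
    {y : G} (hyA : y ∈ OO 2 A) (hy2 : y ^ 2 = 1) (hy1 : y ≠ 1) (hyC : C ≤ normalizer (zpowers y : Set G)) :
    Nat.card ↥A ≤ d.factorial * (2 ^ (d - 1) * N.index) := by
  classical
  have hN := hA.normal
  have hyy : y * y = 1 := by rw [← sq]; exact hy2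
  have hyA' : y ∈ A := OO_le 2 A hyA
  have hcy : ∀ c ∈ C, c * y * c⁻¹ = y := fun c hc => comm_of_norm hyy hy1 hyC hc
  have hyi : y⁻¹ = y := inv_eq_of_mul_eq_one_left hyy
  -- the conjugates
  let f : ↥A → G := fun a => (a : G) * y * (a : G)⁻¹
  have hf2 : ∀ a, f a * f a = 1 := by
    intro a
    change (a : G) * y * (a : G)⁻¹ * ((a : G) * y * (a : G)⁻¹) = 1
    calc _ = (a : G) * (y * y) * (a : G)⁻¹ := by group
      _ = 1 := by rw [hyy]; group
  let T : Set G := Set.range f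
  have hTfin : T.Finite := Set.toFinite _
  have hTd : T.ncard ≤ d := by
    let q : (↥A ⧸ (A ⊓ C).subgroupOf A) → G := Quotient.lift f (by
      intro a b hab
      have h1 : a⁻¹ * b ∈ (A ⊓ C).subgroupOf A := QuotientGroup.leftRel_apply.mp hab
      have h2 : (a : G)⁻¹ * (b : G) ∈ C := h1.2
      have h3 := hcy _ h2
      change (a : G) * y * (a : G)⁻¹ = (b : G) * y * (b : G)⁻¹
      have h4 : (b : G) * y * (b : G)⁻¹ = (a : G) * ((a : G)⁻¹ * (b : G) * y * ((a : G)⁻¹ * (b : G))⁻¹) * (a : G)⁻¹ := by group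
      rw [h4, h3])
    have h1 : T = Set.range q := by
      ext x
      constructor
      · rintro ⟨a, rfl⟩
        exact ⟨(a : ↥A ⧸ (A ⊓ C).subgroupOf A), rfl⟩
      · rintro ⟨a, rfl⟩
        induction a using QuotientGroup.induction_on with
        | H a => exact ⟨a, rfl⟩
    rw [h1, ← hd, Subgroup.relIndex, Subgroup.index, ← Set.image_univ]
    refine (Set.ncard_image_le (Set.toFinite _)).trans ?_
    rw [Set.ncard_univ]
  have hyT : y ∈ T := ⟨1, by change ((1 : ↥A) : G) * y * ((1 : ↥A) : G)⁻¹ = y; simp⟩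
  have hTconj : ∀ a : ↥A, ∀ t ∈ T, (a : G) * t * (a : G)⁻¹ ∈ T := by
    rintro a _ ⟨b, rfl⟩
    refine ⟨a * b, ?_⟩
    change ((a * b : ↥A) : G) * y * ((a * b : ↥A) : G)⁻¹ = (a : G) * ((b : G) * y * (b : G)⁻¹) * (a : G)⁻¹
    rw [Subgroup.coe_mul]
    group
  have hTO : ∀ t ∈ T, t ∈ OO 2 A := by
    rintro _ ⟨a, rfl⟩
    exact conj_mem_OO a.2 hyA
  -- `y t ∈ N`
  have hTN : ∀ t ∈ T, y * t ∈ N := by
    rintro _ ⟨a, rfl⟩
    obtain ⟨x, hx, c, hc, hxc⟩ := hC.exists_mul (a : G)
    change y * ((a : G) * y * (a : G)⁻¹) ∈ N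
    rw [hxc]
    have h1 : y * (x * c * y * (x * c)⁻¹) = (y * x * y⁻¹) * (y * (c * y * c⁻¹)) * x⁻¹ := by group
    rw [h1, hcy c hc, hyy, mul_one]
    exact N.mul_mem (hN.conj_mem x hx y) (N.inv_mem hx)
  have hTE : ∀ t ∈ T, y * t ∈ OO 2 A ⊓ N := fun t ht => ⟨(OO 2 A).mul_mem hyA (hTO t ht), hTN t ht⟩
  -- the generators
  let T' : Finset G := (hTfin.toFinset.erase y).image fun t => y * t
  have hT'card : T'.card ≤ d - 1 := by
    refine Finset.card_image_le.trans ?_
    rw [Finset.card_erase_of_mem (hTfin.mem_toFinset.mpr hyT)]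
    have : hTfin.toFinset.card = T.ncard := (Set.ncard_eq_toFinset_card T hTfin).symm
    omega
  have hT'E : ∀ t ∈ T', t ∈ OO 2 A ⊓ N := by
    intro t ht
    obtain ⟨s, hs, rfl⟩ := Finset.mem_image.mp ht
    exact hTE s (hTfin.mem_toFinset.mp (Finset.mem_of_mem_erase hs))
  set W : Subgroup G := _root_.Subgroup.closure (T' : Set G) with hW
  have hWE : W ≤ OO 2 A ⊓ N := (closure_le _).mpr hT'E
  have hWmem : ∀ t ∈ T, y * t ∈ W := by
    intro t ht
    by_cases hty : t = y
    · rw [hty, hyy]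
      exact W.one_mem
    · apply Subgroup.subset_closure
      exact Finset.mem_coe.mpr (Finset.mem_image.mpr ⟨t, Finset.mem_erase.mpr ⟨hty, hTfin.mem_toFinset.mpr ht⟩, rfl⟩)
  have hWA : A ≤ normalizer (W : Set G) := by
    apply le_normalizer_of_conj
    intro b hb x hx
    rw [hW] at hx
    induction hx using closure_induction with
    | mem x hx =>
      obtain ⟨t, ht, rfl⟩ := Finset.mem_image.mp (Finset.mem_coe.mp hx)
      have htT : t ∈ T := hTfin.mem_toFinset.mp (Finset.mem_of_mem_erase ht)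
      have h1 : b * y * b⁻¹ ∈ T := hTconj ⟨b, hb⟩ y hyT
      have h2 : b * t * b⁻¹ ∈ T := hTconj ⟨b, hb⟩ t htT
      have h3 := W.mul_mem (W.inv_mem (hWmem _ h1)) (hWmem _ h2)
      have h4 : (y * (b * y * b⁻¹))⁻¹ * (y * (b * t * b⁻¹)) = b * y⁻¹ * t * b⁻¹ := by group
      rw [h4, hyi] at h3
      change b * (y * t) * b⁻¹ ∈ W
      rwa [← mul_assoc]
    | one =>
      rw [mul_one, mul_inv_cancel]
      exact W.one_mem
    | mul x z _ _ hx hz =>
      have : b * (x * z) * b⁻¹ = (b * x * b⁻¹) * (b * z * b⁻¹) := by group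
      rw [this]
      exact W.mul_mem hx hz
    | inv x _ hx =>
      have : b * x⁻¹ * b⁻¹ = (b * x * b⁻¹)⁻¹ := by group
      rw [this]
      exact W.inv_mem hx
  have hW1 : W ≠ ⊥ := by
    intro h1
    apply hAC
    have hyA2 : ∀ a ∈ A, a * y * a⁻¹ = y := by
      intro a ha
      have h2 := hWmem (a * y * a⁻¹) ⟨⟨a, ha⟩, rfl⟩
      rw [h1, mem_bot] at h2
      have h3 := eq_inv_of_mul_eq_one_right h2
      rw [h3, hyi]
    have hne : zpowers y ≠ ⊥ := by
      rw [Ne, zpowers_eq_bot]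
      exact hy1
    refine hA.eq_of_both hC hne (hA.not_N_le_of_le ?_) ?_ hyC
    · rw [zpowers_le]
      exact hyA'
    · apply le_normalizer_of_conj
      intro a ha x hx
      obtain ⟨k, rfl⟩ := mem_zpowers_iff.mp hx
      have h2 : a * y ^ k * a⁻¹ = (a * y * a⁻¹) ^ k := by rw [conj_zpow]
      rw [h2, hyA2 a ha]
      exact zpow_mem (mem_zpowers y) k
  have hWeq : W = OO 2 A ⊓ N := hmin W hWE hW1 hWA
  have hEcard : Nat.card ↥(OO 2 A ⊓ N : Subgroup G) ≤ 2 ^ (d - 1) := by
    rw [← hWeq]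
    refine (card_closure_le T' ?_ ?_).trans (Nat.pow_le_pow_right (by norm_num) hT'card)
    · intro a ha
      have := hexp a (hT'E a ha)
      rwa [sq] at this
    · intro a ha b hb
      exact hcomm a (hT'E a ha) b (hT'E b hb).1
  -- the action on the conjugates
  let ρ : ↥A →* Equiv.Perm ↥T :=
    { toFun := fun a =>
        { toFun := fun t => ⟨(a : G) * t * (a : G)⁻¹, hTconj a t t.2⟩
          invFun := fun t => ⟨(a : G)⁻¹ * t * (a : G), by
            have := hTconj a⁻¹ t t.2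
            rwa [InvMemClass.coe_inv, inv_inv] at this⟩
          left_inv := fun t => by
            apply Subtype.ext
            change (a : G)⁻¹ * ((a : G) * t * (a : G)⁻¹) * (a : G) = t
            group
          right_inv := fun t => by
            apply Subtype.ext
            change (a : G) * ((a : G)⁻¹ * t * (a : G)) * (a : G)⁻¹ = t
            group }
      map_one' := by
        ext t
        change ((1 : ↥A) : G) * t * ((1 : ↥A) : G)⁻¹ = t
        simp
      map_mul' := fun a b => by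
        ext t
        change ((a * b : ↥A) : G) * t * ((a * b : ↥A) : G)⁻¹ = (a : G) * ((b : G) * t * (b : G)⁻¹) * (a : G)⁻¹
        rw [Subgroup.coe_mul]
        group }
  have hρ : ∀ a : ↥A, a ∈ ρ.ker → ∀ t ∈ T, (a : G) * t = t * (a : G) := by
    intro a ha t ht
    have h1 : ρ a = 1 := ha
    have h2 := congrArg (fun e : Equiv.Perm ↥T => ((e ⟨t, ht⟩ : ↥T) : G)) h1
    have h3 : (a : G) * t * (a : G)⁻¹ = t := h2
    rw [mul_inv_eq_iff_eq_mul] at h3
    exact h3
  have hTfin' : Finite ↥T := hTfin.to_subtype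
  have hperm : Nat.card (Equiv.Perm ↥T) ≤ d.factorial := by
    rw [Nat.card_perm, Nat.card_coe_set_eq]
    exact Nat.factorial_le hTd
  have hcardA : Nat.card ↥A ≤ d.factorial * Nat.card ↥ρ.ker := by
    rw [← Subgroup.card_mul_index ρ.ker, mul_comm]
    apply Nat.mul_le_mul_right
    rw [Subgroup.index_ker]
    exact (Subgroup.card_le_card_group _).trans hperm
  refine hcardA.trans (Nat.mul_le_mul_left _ ?_)
  -- the kernel
  set K : Subgroup G := ρ.ker.map A.subtype with hK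
  have hKcard : Nat.card ↥ρ.ker = Nat.card ↥K := (card_map_of_injective A.subtype_injective).symm
  have hKN : K ⊓ N ≤ OO 2 A ⊓ N := by
    rintro _ ⟨⟨k, hk, rfl⟩, hkN⟩
    apply hself _ hkN
    intro x hx
    rw [← hWeq, hW] at hx
    induction hx using closure_induction with
    | mem x hx =>
      obtain ⟨t, ht, rfl⟩ := Finset.mem_image.mp (Finset.mem_coe.mp hx)
      have htT : t ∈ T := hTfin.mem_toFinset.mp (Finset.mem_of_mem_erase ht)
      have h1 := hρ k hk y hyT
      have h2 := hρ k hk t htT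
      change (k : G) * (y * t) = y * t * (k : G)
      rw [← mul_assoc, h1, mul_assoc, h2, mul_assoc]
    | one => rw [mul_one, one_mul]
    | mul x z _ _ hx hz => rw [← mul_assoc, hx, mul_assoc, hz, mul_assoc]
    | inv x _ hx =>
      have : Commute (A.subtype k) x := hx
      exact this.inv_right
  have h1 : Nat.card ↥(K ⊓ N : Subgroup G) * (K ⊓ N).relIndex K = Nat.card ↥K := card_mul_relIndex' inf_le_left
  rw [hKcard, ← h1]
  apply Nat.mul_le_mul ((card_le_of_le hKN).trans hEcard)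
  rw [inf_relIndex_left]
  exact Nat.le_of_dvd (Nat.pos_of_ne_zero index_ne_zero_of_finite) (relIndex_dvd_index_of_normal N K)

/-- the numbers -/
theorem numbers {d i : ℕ} (hd : 5 ≤ d) (hi : i ≤ 260000) : d.factorial * (2 ^ (d - 1) * i) ≤ M d := by
  unfold M
  apply Nat.mul_le_mul_left
  have h24 : 24 ≤ (d - 1).factorial := by
    have : Nat.factorial 4 ≤ (d - 1).factorial := Nat.factorial_le (by omega)
    exact this
  refine le_trans ?_ (Nat.pow_le_pow_left h24 d)
  obtain ⟨e, rfl⟩ : ∃ e, d = e + 5 := ⟨d - 5, by omega⟩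
  rw [show e + 5 - 1 = e + 4 by omega, pow_add, pow_add]
  have h1 : 2 ^ e ≤ 24 ^ e := Nat.pow_le_pow_left (by norm_num) e
  calc 2 ^ e * 2 ^ 4 * i ≤ 24 ^ e * 2 ^ 4 * 260000 := Nat.mul_le_mul (Nat.mul_le_mul_right _ h1) hi
    _ = 24 ^ e * (2 ^ 4 * 260000) := by rw [mul_assoc]
    _ ≤ 24 ^ e * 24 ^ 5 := Nat.mul_le_mul_left _ (by norm_num)

end Cfsg.Agent.H87.TW
end

-- part: H87/TW/Diag
section
/-!
# S3694, T12c (helper87): an element acting diagonally on `K` acts as an element of `K`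
-/

set_option autoImplicit false

namespace Cfsg.Agent.H87.TW

open Subgroup Cfsg.Agent.H607.TW

variable {F : Type} [Field F] {n : ℕ}

theorem smul_unit_inj (hn : 0 < n) (g : Matrix.GeneralLinearGroup (Fin n) F) {c c' : F}
    (h : c • (g : Matrix (Fin n) (Fin n) F) = c' • (g : Matrix (Fin n) (Fin n) F)) : c = c' := by
  have : Nonempty (Fin n) := ⟨⟨0, hn⟩⟩
  exact smul_left_injective F (Units.ne_zero g) h

/-- `g` acts diagonally on `K` -/
def Diag (K : Subgroup (Matrix.GeneralLinearGroup (Fin n) F)) (g : Matrix.GeneralLinearGroup (Fin n) F) : Prop :=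
  ∀ k ∈ K, ∃ c : F, (g : Matrix (Fin n) (Fin n) F) * (k : Matrix (Fin n) (Fin n) F) =
      c • ((k : Matrix (Fin n) (Fin n) F) * (g : Matrix (Fin n) (Fin n) F))

open Classical in
/-- the character of `K` given by an element acting diagonally, as a function -/
noncomputable def lamf {K : Subgroup (Matrix.GeneralLinearGroup (Fin n) F)} {g : Matrix.GeneralLinearGroup (Fin n) F}
    (hg : Diag K g) (k : Matrix.GeneralLinearGroup (Fin n) F) : F :=
  if hk : k ∈ K then Classical.choose (hg k hk) else 1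

theorem lamf_spec {K : Subgroup (Matrix.GeneralLinearGroup (Fin n) F)} {g : Matrix.GeneralLinearGroup (Fin n) F}
    (hg : Diag K g) {k : Matrix.GeneralLinearGroup (Fin n) F} (hk : k ∈ K) :
    (g : Matrix (Fin n) (Fin n) F) * (k : Matrix (Fin n) (Fin n) F) =
      lamf hg k • ((k : Matrix (Fin n) (Fin n) F) * (g : Matrix (Fin n) (Fin n) F)) := by
  unfold lamf
  rw [dif_pos hk]
  exact Classical.choose_spec (hg k hk)

/-- the character of `K` given by an element acting diagonally -/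
noncomputable def lam (hn : 0 < n) {K : Subgroup (Matrix.GeneralLinearGroup (Fin n) F)} {g : Matrix.GeneralLinearGroup (Fin n) F}
    (hg : Diag K g) : ↥K →* F where
  toFun k := lamf hg (k : Matrix.GeneralLinearGroup (Fin n) F)
  map_one' := by
    have h := lamf_spec hg K.one_mem
    apply smul_unit_inj hn g
    rw [Units.val_one, mul_one, one_mul] at h
    rw [one_smul, OneMemClass.coe_one]
    exact h.symm
  map_mul' k l := by
    have h := lamf_spec hg (K.mul_mem k.2 l.2)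
    have hk := lamf_spec hg k.2
    have hl := lamf_spec hg l.2
    apply smul_unit_inj hn ((k : Matrix.GeneralLinearGroup (Fin n) F) * (l : Matrix.GeneralLinearGroup (Fin n) F) * g)
    rw [Subgroup.coe_mul]
    rw [Units.val_mul, Units.val_mul]
    rw [Units.val_mul] at h
    rw [← h, ← mul_assoc, hk, Matrix.smul_mul, mul_assoc, hl, Matrix.mul_smul, smul_smul, mul_assoc]

theorem lam_apply (hn : 0 < n) {K : Subgroup (Matrix.GeneralLinearGroup (Fin n) F)} {g : Matrix.GeneralLinearGroup (Fin n) F}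
    (hg : Diag K g) (k : ↥K) : lam hn hg k = lamf hg (k : Matrix.GeneralLinearGroup (Fin n) F) := rfl

/-- the same character twice: the quotient commutes with `K` -/
theorem comm_of_lam_eq {a b k : Matrix.GeneralLinearGroup (Fin n) F} {c : F}
    (h3 : (a : Matrix (Fin n) (Fin n) F) * (k : Matrix (Fin n) (Fin n) F) =
      c • ((k : Matrix (Fin n) (Fin n) F) * (a : Matrix (Fin n) (Fin n) F)))
    (h4 : (b : Matrix (Fin n) (Fin n) F) * (k : Matrix (Fin n) (Fin n) F) =
      c • ((k : Matrix (Fin n) (Fin n) F) * (b : Matrix (Fin n) (Fin n) F))) : (a⁻¹ * b) * k = k * (a⁻¹ * b) := by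
  apply Units.ext
  have e1 : ((a⁻¹ : Matrix.GeneralLinearGroup (Fin n) F) : Matrix (Fin n) (Fin n) F) * (a : Matrix (Fin n) (Fin n) F) = 1 := by
    rw [← Units.val_mul, inv_mul_cancel, Units.val_one]
  have e2 : (a : Matrix (Fin n) (Fin n) F) * ((a⁻¹ : Matrix.GeneralLinearGroup (Fin n) F) : Matrix (Fin n) (Fin n) F) = 1 := by
    rw [← Units.val_mul, mul_inv_cancel, Units.val_one]
  have h5 : (k : Matrix (Fin n) (Fin n) F) * ((a⁻¹ : Matrix.GeneralLinearGroup (Fin n) F) : Matrix (Fin n) (Fin n) F) =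
      c • (((a⁻¹ : Matrix.GeneralLinearGroup (Fin n) F) : Matrix (Fin n) (Fin n) F) * (k : Matrix (Fin n) (Fin n) F)) := by
    have h6 := congrArg (fun X => ((a⁻¹ : Matrix.GeneralLinearGroup (Fin n) F) : Matrix (Fin n) (Fin n) F) * X *
      ((a⁻¹ : Matrix.GeneralLinearGroup (Fin n) F) : Matrix (Fin n) (Fin n) F)) h3
    simp only [Matrix.mul_smul, Matrix.smul_mul] at h6
    rw [← mul_assoc, e1, one_mul, ← mul_assoc, mul_assoc (_ * _) _ _, e2, mul_one] at h6
    exact h6
  rw [Units.val_mul, Units.val_mul, Units.val_mul, Units.val_mul, mul_assoc, h4, ← mul_assoc, h5, Matrix.smul_mul,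
    Matrix.mul_smul, mul_assoc]

theorem tw_diag [Finite F] {K : Subgroup (Matrix.GeneralLinearGroup (Fin n) F)} (hK : Tw K)
    (g : Matrix.GeneralLinearGroup (Fin n) F)
    (hg : ∀ k ∈ K, ∃ c : F, (g : Matrix (Fin n) (Fin n) F) * (k : Matrix (Fin n) (Fin n) F) =
      c • ((k : Matrix (Fin n) (Fin n) F) * (g : Matrix (Fin n) (Fin n) F))) :
    ∃ k₀ ∈ K, ∀ k ∈ K, (k₀⁻¹ * g) * k = k * (k₀⁻¹ * g) := by
  rcases Nat.eq_zero_or_pos n with rfl | hn
  · refine ⟨1, K.one_mem, fun k _ => ?_⟩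
    apply Units.ext
    ext i
    exact i.elim0
  have hfinGL : Finite (Matrix.GeneralLinearGroup (Fin n) F) := by
    have : Finite (Matrix (Fin n) (Fin n) F) := inferInstanceAs (Finite (Fin n → Fin n → F))
    infer_instance
  -- the characters are trivial on the centre
  have hcen : ∀ (x : Matrix.GeneralLinearGroup (Fin n) F) (hx : Diag K x), ∀ z ∈ center ↥K, lam hn hx z = 1 := by
    intro x hx z hz
    have h1 : ∃ c : F, ((z : Matrix.GeneralLinearGroup (Fin n) F) : Matrix (Fin n) (Fin n) F) = c • 1 := by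
      apply hK.nondeg _ z.2
      intro h hh
      exact congrArg Subtype.val (mem_center_iff.mp hz ⟨h, hh⟩).symm
    obtain ⟨c, hc⟩ := h1
    have h2 := lamf_spec hx z.2
    have h3 : (x : Matrix (Fin n) (Fin n) F) * ((z : Matrix.GeneralLinearGroup (Fin n) F) : Matrix (Fin n) (Fin n) F) =
        ((z : Matrix.GeneralLinearGroup (Fin n) F) : Matrix (Fin n) (Fin n) F) * (x : Matrix (Fin n) (Fin n) F) := by
      rw [hc, Matrix.mul_smul, Matrix.smul_mul, mul_one, one_mul]
    rw [lam_apply]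
    apply smul_unit_inj hn ((z : Matrix.GeneralLinearGroup (Fin n) F) * x)
    rw [Units.val_mul, ← h2, one_smul, h3]
  have hKK : ∀ x : ↥K, Diag K (x : Matrix.GeneralLinearGroup (Fin n) F) := fun x k hk => hK.comm x x.2 k hk
  -- the map `x ↦ χ_x` on representatives
  let Φ : (↥K ⧸ center ↥K) → ((↥K ⧸ center ↥K) →* F) := fun q =>
    QuotientGroup.lift (center ↥K) (lam hn (hKK q.out)) (hcen _ (hKK q.out))
  have hΦ : Function.Injective Φ := by
    intro q q' h
    have h1 : ∀ k : ↥K, lam hn (hKK q.out) k = lam hn (hKK q'.out) k := fun k => DFunLike.congr_fun h (QuotientGroup.mk k)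
    have h2 : (q.out : ↥K)⁻¹ * (q'.out : ↥K) ∈ center ↥K := by
      rw [mem_center_iff]
      intro k
      apply Subtype.ext
      have h3 := lamf_spec (hKK q.out) k.2
      have h4 := lamf_spec (hKK q'.out) k.2
      have h5 : lamf (hKK q.out) (k : Matrix.GeneralLinearGroup (Fin n) F) = lamf (hKK q'.out) k := h1 k
      rw [← h5] at h4
      exact (comm_of_lam_eq h3 h4).symm
    have h3 : (QuotientGroup.mk (q.out : ↥K) : ↥K ⧸ center ↥K) = QuotientGroup.mk (q'.out : ↥K) := QuotientGroup.eq.mpr h2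
    rwa [QuotientGroup.out_eq', QuotientGroup.out_eq'] at h3
  have hfinH : Finite ((↥K ⧸ center ↥K) →* F) := DFunLike.finite _
  have hcard : Nat.card ((↥K ⧸ center ↥K) →* F) ≤ Nat.card (↥K ⧸ center ↥K) := by
    have := Fintype.ofFinite (↥K ⧸ center ↥K)
    have := Fintype.ofFinite ((↥K ⧸ center ↥K) →* F)
    have h1 := (linearIndependent_monoidHom (↥K ⧸ center ↥K) F).fintype_card_le_finrank
    rwa [Module.finrank_fintype_fun_eq_card, ← Nat.card_eq_fintype_card, ← Nat.card_eq_fintype_card] at h1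
  obtain ⟨q, hq⟩ := (hΦ.bijective_of_nat_card_le hcard).2 (QuotientGroup.lift (center ↥K) (lam hn (g := g) hg) (hcen g hg))
  refine ⟨((q.out : ↥K) : Matrix.GeneralLinearGroup (Fin n) F), (q.out : ↥K).2, fun k hk => ?_⟩
  have h1 : lam hn (hKK q.out) ⟨k, hk⟩ = lam hn (g := g) hg ⟨k, hk⟩ := DFunLike.congr_fun hq (QuotientGroup.mk (⟨k, hk⟩ : ↥K))
  have h3 := lamf_spec (hKK q.out) hk
  have h4 := lamf_spec (g := g) hg hk
  have h5 : lamf (hKK q.out) k = lamf (g := g) hg k := h1
  rw [← h5] at h4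
  exact comm_of_lam_eq h3 h4

end Cfsg.Agent.H87.TW
end

-- part: H87/TW/Extra
section
/-!
# S3694, T16: the extraspecial case, final bound (helper87)

`end_extra_of`: `|A| ≤ M d` in the extraspecial case. The hypothesis `houter` is `outer`.
-/

set_option autoImplicit false

namespace Cfsg.Agent.H87.TW

open Subgroup Cfsg.Agent.H607.TW

universe u

variable {G : Type u} [Group G] {N A C A₁ C₁ A₂ C₂ : Subgroup G} {r d : ℕ} {F : Type} [Field F] {n : ℕ}
  {S : Type} [Group S] {ι : S →* Matrix.GeneralLinearGroup (Fin n) F} {π : S →* G}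

/-- the statement of T12c -/
def DiagAx (F : Type) [Field F] (n : ℕ) : Prop :=
  ∀ K : Subgroup (Matrix.GeneralLinearGroup (Fin n) F), Tw K → ∀ g : Matrix.GeneralLinearGroup (Fin n) F,
    (∀ k ∈ K, ∃ c : F, (g : Matrix (Fin n) (Fin n) F) * (k : Matrix (Fin n) (Fin n) F) =
      c • ((k : Matrix (Fin n) (Fin n) F) * (g : Matrix (Fin n) (Fin n) F))) →
    ∃ k₀ ∈ K, ∀ k ∈ K, (k₀⁻¹ * g) * k = k * (k₀⁻¹ * g)

/-- `M_n(F)` is not commutative for `n ≥ 2`. -/
theorem not_comm (hn : 2 ≤ n) (h : ∀ x y : Matrix (Fin n) (Fin n) F, x * y = y * x) : False := by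
  have hne : (⟨0, by omega⟩ : Fin n) ≠ ⟨1, by omega⟩ := by
    intro h1
    have := congrArg Fin.val h1
    simp at this
  have h1 := h (Matrix.single ⟨0, by omega⟩ ⟨0, by omega⟩ 1) (Matrix.single ⟨0, by omega⟩ ⟨1, by omega⟩ 1)
  rw [Matrix.single_mul_single_same, Matrix.single_mul_single_of_ne _ _ _ _ hne.symm] at h1
  have h2 := congrFun (congrFun h1 ⟨0, by omega⟩) ⟨1, by omega⟩
  simp [Matrix.single] at h2

theorem ind_one_mul (hn : 2 ≤ n) {B : Matrix.GeneralLinearGroup (Fin n) F} {x : G} (hI : Ind ι π x (tauP B 1)) (s : S) :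
    ∃ s' : S, _root_.Cfsg.Agent.H607.TW.mt ι s' = (B : Matrix (Fin n) (Fin n) F) * _root_.Cfsg.Agent.H607.TW.mt ι s *
        ((B⁻¹ : Matrix.GeneralLinearGroup (Fin n) F) : Matrix (Fin n) (Fin n) F) ∧ π s' = x * π s * x⁻¹ := by
  have hval : ∀ y, tauP B (1 : F ≃+* F) y = (B : Matrix (Fin n) (Fin n) F) * y *
      ((B⁻¹ : Matrix.GeneralLinearGroup (Fin n) F) : Matrix (Fin n) (Fin n) F) := by
    intro y
    rw [tauP_apply]
    congr 2
  rcases hI with ⟨_, h2⟩ | ⟨h1, _⟩
  · obtain ⟨s', h3, h4⟩ := h2 s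
    exact ⟨s', by rw [h3, hval], h4⟩
  · exfalso
    have hBB : ((B⁻¹ : Matrix.GeneralLinearGroup (Fin n) F) : Matrix (Fin n) (Fin n) F) * (B : Matrix (Fin n) (Fin n) F) = 1 := by
      rw [← Units.val_mul, inv_mul_cancel, Units.val_one]
    apply not_comm (F := F) hn
    intro y z
    apply (tauP B (1 : F ≃+* F)).injective
    rw [h1 y z, hval y, hval z, hval]
    calc (B : Matrix (Fin n) (Fin n) F) * z * ((B⁻¹ : Matrix.GeneralLinearGroup (Fin n) F) : Matrix (Fin n) (Fin n) F) *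
          ((B : Matrix (Fin n) (Fin n) F) * y * ((B⁻¹ : Matrix.GeneralLinearGroup (Fin n) F) : Matrix (Fin n) (Fin n) F)) =
          (B : Matrix (Fin n) (Fin n) F) * z * (((B⁻¹ : Matrix.GeneralLinearGroup (Fin n) F) : Matrix (Fin n) (Fin n) F) *
          (B : Matrix (Fin n) (Fin n) F)) * y * ((B⁻¹ : Matrix.GeneralLinearGroup (Fin n) F) : Matrix (Fin n) (Fin n) F) := by
            simp only [mul_assoc]
      _ = _ := by rw [hBB, mul_one, mul_assoc (B : Matrix (Fin n) (Fin n) F) z y]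

/-- In the extraspecial case an element outside `N` that centralises `A ∩ N` has no `F`-linear lift. -/
theorem not_ind_one (h : Loc N A r) (hM : Model N ι π) (hX : Extra ι π N A r) (hdiag : DiagAx F n) {x : G} (hxN : x ∉ N)
    (hcen : ∀ y ∈ A ⊓ N, x * y = y * x) (B : Matrix.GeneralLinearGroup (Fin n) F) : ¬ Ind ι π x (tauP B 1) := by
  intro hI
  have hBB : ((B⁻¹ : Matrix.GeneralLinearGroup (Fin n) F) : Matrix (Fin n) (Fin n) F) * (B : Matrix (Fin n) (Fin n) F) = 1 := by
    rw [← Units.val_mul, inv_mul_cancel, Units.val_one]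
  have hI' := ind_one_mul hM.two hI
  -- equal images in `N` differ by scalars
  have hscal : ∀ s t : S, π s = π t → ∃ c : F, _root_.Cfsg.Agent.H607.TW.mt ι s = c • _root_.Cfsg.Agent.H607.TW.mt ι t := by
    intro s t hst
    have h1 : π (s * t⁻¹) = 1 := by rw [map_mul, map_inv, hst, mul_inv_cancel]
    obtain ⟨c, hc⟩ := (hM.ker _).mp h1
    refine ⟨c, ?_⟩
    calc _root_.Cfsg.Agent.H607.TW.mt ι s = _root_.Cfsg.Agent.H607.TW.mt ι (s * t⁻¹ * t) := by rw [inv_mul_cancel_right]
      _ = _root_.Cfsg.Agent.H607.TW.mt ι (s * t⁻¹) * _root_.Cfsg.Agent.H607.TW.mt ι t := mt_mul _ _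
      _ = c • _root_.Cfsg.Agent.H607.TW.mt ι t := by rw [hc, Matrix.smul_mul, one_mul]
  let K : Subgroup (Matrix.GeneralLinearGroup (Fin n) F) := ((OO r A ⊓ N).comap π).map ι
  have hK : ∀ k, k ∈ K ↔ ∃ s : S, π s ∈ OO r A ⊓ N ∧ ι s = k := fun k => Iff.rfl
  have hTw : Tw K := by
    refine ⟨?_, ?_⟩
    · rintro _ ⟨s, hs, rfl⟩ _ ⟨t, ht, rfl⟩
      have h1 : π (s * t) = π (t * s) := by
        rw [map_mul, map_mul]
        exact hX.comm _ hs _ (show π t ∈ OO r A ⊓ N from ht).1
      obtain ⟨c, hc⟩ := hscal _ _ h1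
      rw [mt_mul, mt_mul] at hc
      exact ⟨c, hc⟩
    · rintro _ ⟨s, hs, rfl⟩ hg
      apply hX.scal
      intro t ht
      have := hg (ι t) ⟨t, ht, rfl⟩
      exact congrArg Units.val this
  have hcond : ∀ k ∈ K, ∃ c : F, (B : Matrix (Fin n) (Fin n) F) * (k : Matrix (Fin n) (Fin n) F) =
      c • ((k : Matrix (Fin n) (Fin n) F) * (B : Matrix (Fin n) (Fin n) F)) := by
    rintro _ ⟨s, hs, rfl⟩
    have hs' : π s ∈ OO r A ⊓ N := hs
    obtain ⟨s', h1, h2⟩ := hI' s
    have h3 : x * π s * x⁻¹ = π s := by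
      rw [hcen (π s) ⟨OO_le r A hs'.1, hs'.2⟩, mul_inv_cancel_right]
    rw [h3] at h2
    obtain ⟨c, hc⟩ := hscal _ _ h2
    refine ⟨c, ?_⟩
    change (B : Matrix (Fin n) (Fin n) F) * _root_.Cfsg.Agent.H607.TW.mt ι s = c • (_root_.Cfsg.Agent.H607.TW.mt ι s * (B : Matrix (Fin n) (Fin n) F))
    rw [← Matrix.smul_mul, ← hc, h1, mul_assoc, hBB, mul_one]
  obtain ⟨k₀, ⟨s₀, hs₀, rfl⟩, hk₀⟩ := hdiag K hTw B hcond
  have hs₀' : π s₀ ∈ OO r A ⊓ N := hs₀
  obtain ⟨c, hc⟩ := hX.scal (((ι s₀)⁻¹ * B : Matrix.GeneralLinearGroup (Fin n) F) : Matrix (Fin n) (Fin n) F) (by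
    intro s hs
    have := hk₀ (ι s) ⟨s, hs, rfl⟩
    exact congrArg Units.val this)
  have hB : (B : Matrix (Fin n) (Fin n) F) = c • _root_.Cfsg.Agent.H607.TW.mt ι s₀ := by
    have h1 : (B : Matrix (Fin n) (Fin n) F) = _root_.Cfsg.Agent.H607.TW.mt ι s₀ *
        (((ι s₀)⁻¹ * B : Matrix.GeneralLinearGroup (Fin n) F) : Matrix (Fin n) (Fin n) F) := by
      change (B : Matrix (Fin n) (Fin n) F) = ((ι s₀ : Matrix.GeneralLinearGroup (Fin n) F) : Matrix (Fin n) (Fin n) F) * _
      rw [← Units.val_mul, mul_inv_cancel_left]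
    rw [h1, hc, Matrix.mul_smul, mul_one]
  -- `x = π s₀`
  apply hxN
  have hx : (π s₀)⁻¹ * x = 1 := by
    apply h.eq_one_of_comm
    intro y hy
    rw [← hM.range] at hy
    obtain ⟨s, rfl⟩ := hy
    obtain ⟨s', h1, h2⟩ := hI' s
    have h3 : _root_.Cfsg.Agent.H607.TW.mt ι (s₀ * s) = _root_.Cfsg.Agent.H607.TW.mt ι (s' * s₀) := by
      rw [mt_mul, mt_mul, h1]
      have h4 : (B : Matrix (Fin n) (Fin n) F) * _root_.Cfsg.Agent.H607.TW.mt ι s =
          ((B : Matrix (Fin n) (Fin n) F) * _root_.Cfsg.Agent.H607.TW.mt ι s * ((B⁻¹ : Matrix.GeneralLinearGroup (Fin n) F) : Matrix (Fin n) (Fin n) F)) *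
            (B : Matrix (Fin n) (Fin n) F) := by
        rw [mul_assoc (_ * _), hBB, mul_one]
      have hc0 : c ≠ 0 := by
        rintro rfl
        rw [zero_smul] at hB
        rw [hB, mul_zero] at hBB
        have : (1 : Matrix (Fin n) (Fin n) F) ≠ 0 := by
          have hn := hM.two
          have : Nonempty (Fin n) := ⟨⟨0, by omega⟩⟩
          exact one_ne_zero
        exact this hBB.symm
      set D := (B : Matrix (Fin n) (Fin n) F) * _root_.Cfsg.Agent.H607.TW.mt ι s * ((B⁻¹ : Matrix.GeneralLinearGroup (Fin n) F) : Matrix (Fin n) (Fin n) F)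
        with hD
      rw [hB, Matrix.smul_mul, Matrix.mul_smul] at h4
      exact smul_right_injective _ hc0 h4
    have h5 := mt_inj hM.inj h3
    have h6 : π s₀ * π s = x * π s * x⁻¹ * π s₀ := by rw [← h2, ← map_mul, h5, map_mul]
    have h7 : x * π s * x⁻¹ = π s₀ * π s * (π s₀)⁻¹ := by rw [h6, mul_inv_cancel_right]
    have h8 : x * π s = π s₀ * π s * (π s₀)⁻¹ * x := by rw [← h7, inv_mul_cancel_right]
    rw [mul_assoc, h8]
    group
  have : x = π s₀ := by
    rw [inv_mul_eq_one] at hx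
    exact hx.symm
  rw [this]
  exact hs₀'.2

/-- `A₂ ∩ N = 1` -/
theorem A₂_inf [Finite G] (h : Sit N A C A₁ C₁ A₂ C₂ r d) (hX : Extra ι π N A r) : A₂ ⊓ N = ⊥ := by
  by_contra hne
  obtain ⟨g, hg⟩ := h.conj
  have hN := h.locA.normal
  have h1 : A₂ ⊓ N = OO r A ⊓ N :=
    hX.min _ (inf_le_inf_right _ h.A₂_OO_A) hne (le_normalizer_inf' h.A₂_norm (_root_.Cfsg.Agent.H607.TW.le_normalizer_of_normal N hN))
  have h2 : A₂ ⊓ N ≤ OO r C ⊓ N := inf_le_inf_right _ h.A₂_OO
  have h3 : OO r C ⊓ N = (OO r A ⊓ N).map (MulAut.conj g).toMonoidHom := by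
    have hO : OO r (A.map (MulAut.conj g).toMonoidHom) = (OO r A).map (MulAut.conj g).toMonoidHom := OO_map r A (MulAut.conj g)
    rw [hg, map_inf_conj hN, hO]
  have h4 : OO r A ⊓ N = OO r C ⊓ N := by
    apply eq_of_le_of_card_ge
    · rw [← h1]
      exact h2
    · rw [h3, card_map_of_injective (MulAut.conj g).injective]
  refine h.false_of_both' hX.ne (inf_le_left.trans (OO_le r A)) h.locA.norm_OO_inf ?_
  rw [h4]
  exact h.locC.norm_OO_inf

theorem diagAx [Finite F] : DiagAx F n := fun _ hK g hg => tw_diag hK g hg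

/-- **T16.** (`houter` is `outer`) -/
theorem end_extra_of [Finite G] [Finite F]
    (houter : ∀ (A' K : Subgroup G), Loc N A' r → K ≤ OO r A' → A' ≤ normalizer (K : Set G) → K ≠ ⊥ → K ⊓ N = ⊥ →
      ∃ x ∈ K, x ^ r = 1 ∧ x ≠ 1 ∧ A' ≤ normalizer (zpowers x : Set G) ∧ (∀ y ∈ A' ⊓ N, x * y = y * x) ∧
        (∀ y ∈ N, x * y = y * x → y ∈ A'))
    (h : Sit N A C A₁ C₁ A₂ C₂ r d) (hM : Model N ι π) (hX : Extra ι π N A r)
    (hidx : N.index ≤ 2 * Nat.card (F ≃+* F) * Nat.card π.ker)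
    (hout : ∀ (A' : Subgroup G) (x : G), Loc N A' r → Extra ι π N A' r → x ^ r = 1 → x ≠ 1 → (∀ y ∈ A' ⊓ N, x * y = y * x) →
      (∀ y ∈ N, x * y = y * x → y ∈ A') → (∀ B : Matrix.GeneralLinearGroup (Fin n) F, ¬ Ind ι π x (tauP B 1)) →
      (r = 2 ∧ Nat.card F ≤ 10 ^ 4) ∨ Nat.card ↥A' ≤ M 5) : Nat.card ↥A ≤ M d := by
  obtain ⟨g, hg⟩ := h.conj
  have hXC : Extra ι π N C r := by
    rw [hg]
    exact Extra.conj h.locA.normal hM hX g
  have hC₂ : C₂ ⊓ N = ⊥ := A₂_inf h.symm hXC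
  obtain ⟨y, hy, hyr, hy1, hyn, hyc, hyl⟩ := houter C C₂ h.locC h.C₂_OO_C h.C₂_norm h.C₂_ne hC₂
  have hyN : y ∉ N := by
    intro h1
    apply hy1
    have : y ∈ C₂ ⊓ N := ⟨hy, h1⟩
    rwa [hC₂, mem_bot] at this
  have hno : ∀ B : Matrix.GeneralLinearGroup (Fin n) F, ¬ Ind ι π y (tauP B 1) := fun B =>
    not_ind_one h.locC hM hXC diagAx hyN hyc B
  rcases hout C y h.locC hXC hyr hy1 hyc hyl hno with ⟨rfl, hF⟩ | h5
  · have h1 := card_le_of_outer h.locA h.locC h.ne h.idx (by have := h.five; omega) hX.min hX.comm hX.exp hX.self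
      (h.C₂_OO hy) hyr hy1 hyn
    refine h1.trans (numbers h.five ?_)
    have h2 : Nat.card π.ker ≤ 10 ^ 4 := by
      have := Fintype.ofFinite F
      exact (card_ker_le hM).trans hF
    have h3 : Nat.card (F ≃+* F) ≤ 13 := by
      by_contra h4
      have h5 : 2 ^ 14 ≤ 2 ^ Nat.card (F ≃+* F) := Nat.pow_le_pow_right (by norm_num) (by omega)
      have h6 := two_pow_card_aut F
      omega
    calc N.index ≤ 2 * Nat.card (F ≃+* F) * Nat.card π.ker := hidx
      _ ≤ 2 * 13 * 10 ^ 4 := Nat.mul_le_mul (Nat.mul_le_mul_left _ h3) h2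
      _ = 260000 := by norm_num
  · rw [h.card_eq] at h5
    exact h.card_le_M h5

end Cfsg.Agent.H87.TW
end
end

-- part: H801/Sims/Main
section
prune_inst 0x10000000000000000000000000000000
set_option linter.all false
open scoped Cfsg.Agent.FastGrp

-- part: H801/Sims/Inner
section
/-!
# Square-zero inner ideals of a matrix algebra and their stabilizers in `SL_n(F)`

Used for S3694 (task T7). For a subspace `K` of `M_n(F)`: `U K = K V`, `An K` = the common kernel, `Ul K` = the span of the rows.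
`Inn K`: `K ≠ 0`, `K² = 0`, `K M_n(F) K ≤ K`; such a `K` is `{x | x V ≤ U, x U' = 0}` for `U = U K ≤ U' = An K`.
`St K` is the normalizer of `K` in `SL_n(F)` (the stabilizer of `U ≤ U'`).
-/

set_option autoImplicit false

namespace Cfsg.Agent.H801.Sims

open Matrix

variable {F : Type*} [Field F] {n : ℕ}

theorem vm_mulVec (u v w : Fin n → F) : vecMulVec u v *ᵥ w = (v ⬝ᵥ w) • u := by
  ext i
  simp only [mulVec, dotProduct, vecMulVec_apply, Pi.smul_apply, smul_eq_mul, Finset.sum_mul]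
  exact Finset.sum_congr rfl fun j _ => by ring

theorem vm_mul_vm (u v w x : Fin n → F) : vecMulVec u v * vecMulVec w x = (v ⬝ᵥ w) • vecMulVec u x := by
  ext i j
  simp only [mul_apply, dotProduct, vecMulVec_apply, Matrix.smul_apply, smul_eq_mul, Finset.sum_mul]
  exact Finset.sum_congr rfl fun j _ => by ring

/-- separation by a functional -/
theorem exists_sep (M : Submodule F (Fin n → F)) {v : Fin n → F} (hv : v ∉ M) :
    ∃ φ : Fin n → F, (∀ m ∈ M, φ ⬝ᵥ m = 0) ∧ φ ⬝ᵥ v = 1 := by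
  obtain ⟨f, hfv, hf⟩ := Submodule.exists_le_ker_of_notMem hv
  have hfx : ∀ x : Fin n → F, (fun i => f (Pi.single i 1)) ⬝ᵥ x = f x := by
    intro x
    rw [LinearMap.pi_apply_eq_sum_univ f x]
    simp only [dotProduct]
    refine Finset.sum_congr rfl fun i _ => ?_
    rw [smul_eq_mul, mul_comm]
    congr 2
    ext j
    rw [Pi.single_apply]
    simp only [eq_comm]
  refine ⟨(f v)⁻¹ • fun i => f (Pi.single i 1), fun m hm => ?_, ?_⟩
  · rw [smul_dotProduct, hfx, LinearMap.mem_ker.1 (hf hm), smul_zero]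
  · rw [smul_dotProduct, hfx, smul_eq_mul, inv_mul_cancel₀ hfv]

/-- `K V` -/
def U (K : Submodule F (Matrix (Fin n) (Fin n) F)) : Submodule F (Fin n → F) :=
  Submodule.span F {w | ∃ x ∈ K, ∃ v, w = x *ᵥ v}

/-- `V* K` -/
def Ul (K : Submodule F (Matrix (Fin n) (Fin n) F)) : Submodule F (Fin n → F) :=
  Submodule.span F {w | ∃ x ∈ K, ∃ v, w = v ᵥ* x}

/-- the annihilator of `K` in `V` -/
def An (K : Submodule F (Matrix (Fin n) (Fin n) F)) : Submodule F (Fin n → F) where
  carrier := {v | ∀ x ∈ K, x *ᵥ v = 0}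
  add_mem' := by
    intro a b ha hb x hx
    rw [mulVec_add, ha x hx, hb x hx, add_zero]
  zero_mem' := by
    intro x _
    rw [mulVec_zero]
  smul_mem' := by
    intro c a ha x hx
    rw [mulVec_smul, ha x hx, smul_zero]

variable {K L J : Submodule F (Matrix (Fin n) (Fin n) F)}

theorem mem_U {x : Matrix (Fin n) (Fin n) F} (hx : x ∈ K) (v : Fin n → F) : x *ᵥ v ∈ U K :=
  Submodule.subset_span ⟨x, hx, v, rfl⟩

theorem mem_Ul {x : Matrix (Fin n) (Fin n) F} (hx : x ∈ K) (v : Fin n → F) : v ᵥ* x ∈ Ul K :=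
  Submodule.subset_span ⟨x, hx, v, rfl⟩

/-- rows and annihilator -/
theorem Ul_An {φ v : Fin n → F} (hφ : φ ∈ Ul K) (hv : v ∈ An K) : φ ⬝ᵥ v = 0 := by
  induction hφ using Submodule.span_induction with
  | mem w hw =>
    obtain ⟨x, hx, z, rfl⟩ := hw
    rw [← dotProduct_mulVec, hv x hx, dotProduct_zero]
  | zero => rw [zero_dotProduct]
  | add a b _ _ ha hb => rw [add_dotProduct, ha, hb, add_zero]
  | smul c a _ ha => rw [smul_dotProduct, ha, smul_zero]

theorem mem_Ul_of {φ : Fin n → F} (h : ∀ v ∈ An K, φ ⬝ᵥ v = 0) : φ ∈ Ul K := by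
  by_contra hφ
  obtain ⟨v, hv, hv1⟩ := exists_sep _ hφ
  have : v ∈ An K := by
    intro x hx
    ext i
    have h1 := hv _ (mem_Ul hx (Pi.single i 1))
    rw [dotProduct_comm, single_one_vecMul] at h1
    exact h1
  rw [dotProduct_comm] at hv1
  rw [h v this] at hv1
  exact zero_ne_one hv1

theorem mem_U_of {v : Fin n → F} (h : ∀ φ : Fin n → F, (∀ u ∈ U K, φ ⬝ᵥ u = 0) → φ ⬝ᵥ v = 0) : v ∈ U K := by
  by_contra hv
  obtain ⟨φ, h1, h2⟩ := exists_sep _ hv
  rw [h φ h1] at h2
  exact zero_ne_one h2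

/-- a square-zero inner ideal -/
structure Inn (K : Submodule F (Matrix (Fin n) (Fin n) F)) : Prop where
  ne : K ≠ ⊥
  sq : ∀ x ∈ K, ∀ y ∈ K, x * y = 0
  inn : ∀ x ∈ K, ∀ r, ∀ y ∈ K, x * r * y ∈ K

namespace Inn

theorem U_le (hK : Inn K) : U K ≤ An K := by
  rw [U, Submodule.span_le]
  rintro _ ⟨x, hx, v, rfl⟩ y hy
  rw [mulVec_mulVec, hK.sq y hy x hx, zero_mulVec]

theorem vm_mem (hK : Inn K) {u φ : Fin n → F} (hu : u ∈ U K) (hφ : φ ∈ Ul K) : vecMulVec u φ ∈ K := by
  induction hu using Submodule.span_induction with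
  | mem w hw =>
    obtain ⟨x, hx, z, rfl⟩ := hw
    induction hφ using Submodule.span_induction with
    | mem w' hw' =>
      obtain ⟨y, hy, z', rfl⟩ := hw'
      rw [← mul_vecMulVec, ← vecMulVec_mul, ← mul_assoc]
      exact hK.inn x hx _ y hy
    | zero => rw [vecMulVec_zero]; exact K.zero_mem
    | add a b _ _ ha hb => rw [vecMulVec_add]; exact K.add_mem ha hb
    | smul c a _ ha => rw [vecMulVec_smul]; exact K.smul_mem c ha
  | zero => rw [zero_vecMulVec]; exact K.zero_mem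
  | add a b _ _ ha hb => rw [add_vecMulVec]; exact K.add_mem ha hb
  | smul c a _ ha => rw [smul_vecMulVec]; exact K.smul_mem c ha

end Inn

/-- a matrix with columns in `U'` and rows in `U''` lies in any subspace containing the corresponding matrices of rank one -/
theorem mem_of_vm {P Q : Submodule F (Fin n → F)} (h : ∀ u ∈ P, ∀ φ ∈ Q, vecMulVec u φ ∈ J)
    {x : Matrix (Fin n) (Fin n) F} (hx : ∀ v, x *ᵥ v ∈ P) (hx' : ∀ v, v ᵥ* x ∈ Q) : x ∈ J := by
  obtain ⟨g, hg⟩ := LinearMap.exists_leftInverse_of_injective P.subtype (by rw [Submodule.ker_subtype])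
  have he : ∀ u ∈ P, (g u : Fin n → F) = u := fun u hu => by
    have := LinearMap.congr_fun hg ⟨u, hu⟩
    exact congrArg Subtype.val this
  set e : Matrix (Fin n) (Fin n) F := LinearMap.toMatrix' (P.subtype ∘ₗ g) with hedef
  have hev : ∀ v, e *ᵥ v = g v := fun v => by
    rw [hedef, ← Matrix.toLin'_apply, Matrix.toLin'_toMatrix']; rfl
  have hex : e * x = x := by
    apply Matrix.toLin'.injective
    ext1 v
    apply LinearMap.ext
    intro c
    simp only [LinearMap.comp_apply, Matrix.toLin'_apply, ← Matrix.mulVec_mulVec]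
    rw [hev, he _ (hx _)]
  have hsum : x = ∑ i, vecMulVec (Pi.single i 1) (x i) := by
    ext a b
    rw [Matrix.sum_apply]
    simp only [vecMulVec_apply, Pi.single_apply, ite_mul, one_mul, zero_mul]
    rw [Finset.sum_ite_eq Finset.univ a, if_pos (Finset.mem_univ _)]
  rw [← hex, hsum, Finset.mul_sum]
  refine J.sum_mem fun i _ => ?_
  rw [mul_vecMulVec]
  refine h _ ?_ _ ?_
  · rw [hev]; exact (g _).2
  · have := hx' (Pi.single i 1)
    rwa [single_one_vecMul] at this

theorem Inn.mem_iff (hK : Inn K) {x : Matrix (Fin n) (Fin n) F} :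
    x ∈ K ↔ (∀ v, x *ᵥ v ∈ U K) ∧ ∀ v ∈ An K, x *ᵥ v = 0 := by
  constructor
  · exact fun hx => ⟨fun v => mem_U hx v, fun v hv => hv x hx⟩
  · rintro ⟨h1, h2⟩
    refine mem_of_vm (P := U K) (Q := Ul K) (fun u hu φ hφ => hK.vm_mem hu hφ) h1 fun v => ?_
    apply mem_Ul_of
    intro w hw
    rw [← dotProduct_mulVec, h2 w hw, dotProduct_zero]

theorem Inn.eq_of (hK : Inn K) (hL : Inn L) (h1 : U K = U L) (h2 : An K = An L) : K = L := by
  ext x
  rw [hK.mem_iff, hL.mem_iff, h1, h2]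

end Cfsg.Agent.H801.Sims
end

-- part: H801/Sims/Stab
section
/-!
# Stabilizers of square-zero inner ideals: transvections, invariant subspaces, uniqueness
-/

set_option autoImplicit false
set_option linter.unusedVariables false

namespace Cfsg.Agent.H801.Sims

open Matrix

variable {F : Type*} [Field F] {n : ℕ} {K L J : Submodule F (Matrix (Fin n) (Fin n) F)}

/-- the normalizer of `K` in `SL_n(F)` -/
def St (K : Submodule F (Matrix (Fin n) (Fin n) F)) : Subgroup (Matrix.SpecialLinearGroup (Fin n) F) where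
  carrier := {s | ∀ x : Matrix (Fin n) (Fin n) F,
    (s : Matrix (Fin n) (Fin n) F) * x * ((s⁻¹ : Matrix.SpecialLinearGroup (Fin n) F) : Matrix (Fin n) (Fin n) F) ∈ K ↔ x ∈ K}
  mul_mem' := by
    intro s t hs ht x
    refine Iff.trans ?_ ((hs _).trans (ht x))
    rw [_root_.mul_inv_rev, Matrix.SpecialLinearGroup.coe_mul, Matrix.SpecialLinearGroup.coe_mul]
    simp only [mul_assoc]
  one_mem' := by
    intro x
    simp
  inv_mem' := by
    intro s hs x
    rw [← hs, inv_inv, ← mul_assoc, ← mul_assoc, ← Matrix.SpecialLinearGroup.coe_mul, mul_inv_cancel, mul_assoc,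
      ← Matrix.SpecialLinearGroup.coe_mul, mul_inv_cancel, Matrix.SpecialLinearGroup.coe_one, one_mul, mul_one]

theorem sl_mul_inv (s : Matrix.SpecialLinearGroup (Fin n) F) :
    (s : Matrix (Fin n) (Fin n) F) * ((s⁻¹ : Matrix.SpecialLinearGroup (Fin n) F) : Matrix (Fin n) (Fin n) F) = 1 := by
  rw [← Matrix.SpecialLinearGroup.coe_mul, mul_inv_cancel, Matrix.SpecialLinearGroup.coe_one]

theorem sl_inv_mul (s : Matrix.SpecialLinearGroup (Fin n) F) :
    ((s⁻¹ : Matrix.SpecialLinearGroup (Fin n) F) : Matrix (Fin n) (Fin n) F) * (s : Matrix (Fin n) (Fin n) F) = 1 := by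
  rw [← Matrix.SpecialLinearGroup.coe_mul, inv_mul_cancel, Matrix.SpecialLinearGroup.coe_one]

/-- it is enough that `s` and `s⁻¹` map `K` to `K` -/
theorem mem_St_of {s : Matrix.SpecialLinearGroup (Fin n) F}
    (h1 : ∀ x ∈ K, (s : Matrix (Fin n) (Fin n) F) * x * ((s⁻¹ : Matrix.SpecialLinearGroup (Fin n) F) : Matrix (Fin n) (Fin n) F) ∈ K)
    (h2 : ∀ x ∈ K, ((s⁻¹ : Matrix.SpecialLinearGroup (Fin n) F) : Matrix (Fin n) (Fin n) F) * x * (s : Matrix (Fin n) (Fin n) F) ∈ K) :
    s ∈ St K := by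
  intro x
  refine ⟨fun hx => ?_, h1 x⟩
  have := h2 _ hx
  rwa [← mul_assoc, ← mul_assoc, sl_inv_mul, one_mul, mul_assoc, sl_inv_mul, mul_one] at this

/-- transvections -/
def tv (u φ : Fin n → F) (h : φ ⬝ᵥ u = 0) : Matrix.SpecialLinearGroup (Fin n) F :=
  ⟨1 + vecMulVec u φ, by
    rw [vecMulVec_eq Unit, det_one_add_replicateCol_mul_replicateRow, h, add_zero]⟩

theorem coe_tv (u φ : Fin n → F) (h : φ ⬝ᵥ u = 0) :
    ((tv u φ h : Matrix.SpecialLinearGroup (Fin n) F) : Matrix (Fin n) (Fin n) F) = 1 + vecMulVec u φ := rfl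

theorem tv_inv (u φ : Fin n → F) (h : φ ⬝ᵥ u = 0) :
    (((tv u φ h)⁻¹ : Matrix.SpecialLinearGroup (Fin n) F) : Matrix (Fin n) (Fin n) F) = 1 - vecMulVec u φ := by
  have h1 : (tv u φ h)⁻¹ = tv (-u) φ (by rw [dotProduct_neg, h, neg_zero]) := by
    apply inv_eq_of_mul_eq_one_right
    apply Subtype.ext
    rw [Matrix.SpecialLinearGroup.coe_mul, coe_tv, coe_tv, Matrix.SpecialLinearGroup.coe_one, neg_vecMulVec, mul_add,
      mul_one, add_mul, one_mul, mul_neg, vm_mul_vm, h, zero_smul]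
    abel
  rw [h1, coe_tv, neg_vecMulVec, sub_eq_add_neg]

/-- a matrix of rank one and square zero normalizing `K` -/
theorem tv_mem_St {u φ : Fin n → F} (h : φ ⬝ᵥ u = 0)
    (h1 : ∀ x ∈ K, vecMulVec u φ * x ∈ K) (h2 : ∀ x ∈ K, x * vecMulVec u φ ∈ K) : tv u φ h ∈ St K := by
  apply mem_St_of
  · intro x hx
    rw [tv_inv, coe_tv, add_mul, one_mul, mul_sub, mul_one]
    refine K.sub_mem (K.add_mem hx (h1 x hx)) ?_
    rw [add_mul]
    exact K.add_mem (h2 x hx) (h2 _ (h1 x hx))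
  · intro x hx
    rw [tv_inv, coe_tv, sub_mul, one_mul, mul_add, mul_one]
    refine K.add_mem (K.sub_mem hx (h1 x hx)) ?_
    rw [sub_mul]
    exact K.sub_mem (h2 x hx) (h2 _ (h1 x hx))

namespace Inn

theorem Ul_vecMul (hK : Inn K) {ψ : Fin n → F} (hψ : ψ ∈ Ul K) {x : Matrix (Fin n) (Fin n) F} (hx : x ∈ K) :
    ψ ᵥ* x = 0 := by
  induction hψ using Submodule.span_induction with
  | mem w hw =>
    obtain ⟨y, hy, z, rfl⟩ := hw
    rw [vecMul_vecMul, hK.sq y hy x hx, vecMul_zero]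
  | zero => rw [zero_vecMul]
  | add a b _ _ ha hb => rw [add_vecMul, ha, hb, add_zero]
  | smul c a _ ha => rw [smul_vecMul, ha, smul_zero]

/-- first family: `u ∈ U K` -/
theorem tv_mem₁ (hK : Inn K) {u φ : Fin n → F} (h : φ ⬝ᵥ u = 0) (hu : u ∈ U K) : tv u φ h ∈ St K := by
  apply tv_mem_St h
  · intro x hx
    rw [vecMulVec_mul]
    exact hK.vm_mem hu (mem_Ul hx _)
  · intro x hx
    rw [mul_vecMulVec, hK.U_le hu x hx, zero_vecMulVec]
    exact K.zero_mem

/-- second family: `ψ ∈ Ul K` -/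
theorem tv_mem₂ (hK : Inn K) {v ψ : Fin n → F} (h : ψ ⬝ᵥ v = 0) (hψ : ψ ∈ Ul K) : tv v ψ h ∈ St K := by
  apply tv_mem_St h
  · intro x hx
    rw [vecMulVec_mul, hK.Ul_vecMul hψ hx, vecMulVec_zero]
    exact K.zero_mem
  · intro x hx
    rw [mul_vecMulVec]
    exact hK.vm_mem (mem_U hx _) hψ

/-- third family: `v ∈ An K`, `φ` vanishes on `U K` -/
theorem tv_mem₃ (hK : Inn K) {v φ : Fin n → F} (h : φ ⬝ᵥ v = 0) (hv : v ∈ An K) (hφ : ∀ u ∈ U K, φ ⬝ᵥ u = 0) :
    tv v φ h ∈ St K := by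
  apply tv_mem_St h
  · intro x hx
    have : φ ᵥ* x = 0 := by
      ext j
      have := hφ _ (mem_U hx (Pi.single j 1))
      rwa [dotProduct_mulVec, dotProduct_single_one] at this
    rw [vecMulVec_mul, this, vecMulVec_zero]
    exact K.zero_mem
  · intro x hx
    rw [mul_vecMulVec, hv x hx, zero_vecMulVec]
    exact K.zero_mem

end Inn

/-- `M` is invariant under the subgroup `H` -/
def IsInv (H : Subgroup (Matrix.SpecialLinearGroup (Fin n) F)) (M : Submodule F (Fin n → F)) : Prop :=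
  ∀ s ∈ H, ∀ m ∈ M, (s : Matrix (Fin n) (Fin n) F) *ᵥ m ∈ M

theorem step {P Q M : Submodule F (Fin n → F)} (hPM : P ≤ M) (hne : ¬ M ≤ P)
    (h : ∀ v ∈ Q, ∀ φ : Fin n → F, (∀ p ∈ P, φ ⬝ᵥ p = 0) → φ ⬝ᵥ v = 0 → ∀ m ∈ M, (φ ⬝ᵥ m) • v ∈ M) : Q ≤ M := by
  obtain ⟨m, hm, hmP⟩ := SetLike.not_le_iff_exists.1 hne
  intro v hv
  by_cases hmv : m ∈ P ⊔ Submodule.span F {v}
  · obtain ⟨p, hp, w, hw, rfl⟩ := Submodule.mem_sup.1 hmv
    obtain ⟨c, rfl⟩ := Submodule.mem_span_singleton.1 hw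
    have hc : c ≠ 0 := by
      rintro rfl
      rw [zero_smul, add_zero] at hmP
      exact hmP hp
    have : c • v ∈ M := by
      have := M.sub_mem hm (hPM hp)
      rwa [add_sub_cancel_left] at this
    exact (M.smul_mem_iff hc).1 this
  · obtain ⟨φ, h1, h2⟩ := exists_sep _ hmv
    have := h v hv φ (fun p hp => h1 p (Submodule.mem_sup_left hp))
      (h1 v (Submodule.mem_sup_right (Submodule.mem_span_singleton_self v))) m hm
    rwa [h2, one_smul] at this

theorem Inn.step' (hK : Inn K) {M : Submodule F (Fin n → F)} (hM : IsInv (St K) M) {v φ : Fin n → F}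
    (h : φ ⬝ᵥ v = 0) (hs : tv v φ h ∈ St K) {m : Fin n → F} (hm : m ∈ M) : (φ ⬝ᵥ m) • v ∈ M := by
  have := hM _ hs m hm
  rw [coe_tv, add_mulVec, one_mulVec, vm_mulVec] at this
  have := M.sub_mem this hm
  rwa [add_sub_cancel_left] at this

/-- the invariant subspaces of `St K` -/
theorem Inn.inv_cases (hK : Inn K) {M : Submodule F (Fin n → F)} (hM : IsInv (St K) M) :
    M = ⊥ ∨ M = U K ∨ M = An K ∨ M = ⊤ := by
  by_cases h0 : M ≤ ⊥
  · exact Or.inl (le_bot_iff.1 h0)
  right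
  have h1 : U K ≤ M := step bot_le h0 fun v hv φ _ hφv m hm => hK.step' hM hφv (hK.tv_mem₁ hφv hv) hm
  by_cases h2 : M ≤ U K
  · exact Or.inl (le_antisymm h2 h1)
  right
  have h3 : An K ≤ M := step h1 h2 fun v hv φ hφ hφv m hm => hK.step' hM hφv (hK.tv_mem₃ hφv hv hφ) hm
  by_cases h4 : M ≤ An K
  · exact Or.inl (le_antisymm h4 h3)
  right
  have h5 : ⊤ ≤ M := step h3 h4 fun v _ φ hφ hφv m hm => hK.step' hM hφv (hK.tv_mem₂ hφv (mem_Ul_of hφ)) hm
  exact le_antisymm le_top h5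

theorem Inn.U_ne_bot (hK : Inn K) : U K ≠ ⊥ := by
  intro h
  obtain ⟨x, hx, hx0⟩ := K.ne_bot_iff.1 hK.ne
  apply hx0
  apply Matrix.toLin'.injective
  ext1 j
  apply LinearMap.ext
  intro c
  have : x *ᵥ (LinearMap.single F (fun _ => F) j c) ∈ U K := mem_U hx _
  rw [h, Submodule.mem_bot] at this
  simpa using this

theorem Inn.An_ne_top (hK : Inn K) : An K ≠ ⊤ := by
  intro h
  apply hK.U_ne_bot
  rw [U, Submodule.span_eq_bot]
  rintro _ ⟨x, hx, v, rfl⟩
  have : v ∈ An K := by rw [h]; trivial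
  exact this x hx

theorem inv_U : IsInv (St K) (U K) := by
  intro s hs m hm
  induction hm using Submodule.span_induction with
  | mem w hw =>
    obtain ⟨x, hx, v, rfl⟩ := hw
    have h1 : (s : Matrix (Fin n) (Fin n) F) *ᵥ (x *ᵥ v) = ((s : Matrix (Fin n) (Fin n) F) * x *
        ((s⁻¹ : Matrix.SpecialLinearGroup (Fin n) F) : Matrix (Fin n) (Fin n) F)) *ᵥ ((s : Matrix (Fin n) (Fin n) F) *ᵥ v) := by
      rw [mulVec_mulVec, mulVec_mulVec, mul_assoc _ _ (s : Matrix (Fin n) (Fin n) F), sl_inv_mul, mul_one]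
    rw [h1]
    exact mem_U ((hs x).2 hx) _
  | zero => rw [mulVec_zero]; exact (U K).zero_mem
  | add a b _ _ ha hb => rw [mulVec_add]; exact (U K).add_mem ha hb
  | smul c a _ ha => rw [mulVec_smul]; exact (U K).smul_mem c ha

theorem inv_An : IsInv (St K) (An K) := by
  intro s hs m hm x hx
  have h1 := ((St K).inv_mem hs x).2 hx
  rw [inv_inv] at h1
  have h2 : x *ᵥ ((s : Matrix (Fin n) (Fin n) F) *ᵥ m) = (s : Matrix (Fin n) (Fin n) F) *ᵥ
      ((((s⁻¹ : Matrix.SpecialLinearGroup (Fin n) F) : Matrix (Fin n) (Fin n) F) * x * (s : Matrix (Fin n) (Fin n) F)) *ᵥ m) := by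
    rw [mulVec_mulVec, mulVec_mulVec, ← mul_assoc, ← mul_assoc, sl_mul_inv, one_mul]
  rw [h2, hm _ h1, mulVec_zero]

/-- a square-zero inner ideal is determined by its stabilizer -/
theorem Inn.uniq (hK : Inn K) (hL : Inn L) (h : St K = St L) : K = L := by
  have a1 := hK.inv_cases (M := U L) (by rw [h]; exact inv_U)
  have a2 := hK.inv_cases (M := An L) (by rw [h]; exact inv_An)
  have b1 := hL.inv_cases (M := U K) (by rw [← h]; exact inv_U)
  have b2 := hL.inv_cases (M := An K) (by rw [← h]; exact inv_An)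
  have k1 := hK.U_ne_bot
  have k2 := hK.An_ne_top
  have l1 := hL.U_ne_bot
  have l2 := hL.An_ne_top
  have kk := hK.U_le
  have ll := hL.U_le
  have k3 : U K ≠ ⊤ := fun e => k2 (top_le_iff.1 (e ▸ kk))
  have l3 : U L ≠ ⊤ := fun e => l2 (top_le_iff.1 (e ▸ ll))
  have k4 : An K ≠ ⊥ := fun e => k1 (le_bot_iff.1 (e ▸ kk))
  have l4 : An L ≠ ⊥ := fun e => l1 (le_bot_iff.1 (e ▸ ll))
  have a1' : U L = U K ∨ U L = An K := by rcases a1 with h | h | h | h <;> [exact absurd h l1; exact Or.inl h; exact Or.inr h; exact absurd h l3]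
  have a2' : An L = U K ∨ An L = An K := by rcases a2 with h | h | h | h <;> [exact absurd h l4; exact Or.inl h; exact Or.inr h; exact absurd h l2]
  have b1' : U K = U L ∨ U K = An L := by rcases b1 with h | h | h | h <;> [exact absurd h k1; exact Or.inl h; exact Or.inr h; exact absurd h k3]
  have b2' : An K = U L ∨ An K = An L := by rcases b2 with h | h | h | h <;> [exact absurd h k4; exact Or.inl h; exact Or.inr h; exact absurd h k2]
  apply hK.eq_of hL
  · apply le_antisymm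
    · rcases a1' with e | e
      · exact e.ge
      · rw [e]; exact kk
    · rcases b1' with e | e
      · exact e.ge
      · rw [e]; exact ll
  · apply le_antisymm
    · rcases a2' with e | e
      · rcases b2' with e' | e'
        · rw [e']; exact ll
        · exact e'.le
      · exact e.ge
    · rcases b2' with e | e
      · rcases a2' with e' | e'
        · rw [e']; exact kk
        · exact e'.le
      · exact e.ge

end Cfsg.Agent.H801.Sims
end

-- part: H801/Sims/KJ
section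
/-!
# The square-zero inner ideal `KK J` attached to a subspace `J`

`KK J = J M ⊓ M J ⊓ {x | J x = 0} ⊓ {x | x J = 0}`, `M = M_n(F)`.
-/

set_option autoImplicit false
set_option linter.unusedVariables false

namespace Cfsg.Agent.H801.Sims

open Matrix

variable {F : Type*} [Field F] {n : ℕ} {K L J Q : Submodule F (Matrix (Fin n) (Fin n) F)}

theorem mem_mul_top {x : Matrix (Fin n) (Fin n) F} : x ∈ J * ⊤ ↔ ∀ v, x *ᵥ v ∈ U J := by
  constructor
  · intro hx v
    induction hx using Submodule.mul_induction_on' with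
    | mem_mul_mem y hy z hz => rw [← mulVec_mulVec]; exact mem_U hy _
    | add a _ b _ ha hb => rw [add_mulVec]; exact (U J).add_mem ha hb
  · intro h
    refine mem_of_vm (P := U J) (Q := ⊤) (fun u hu φ _ => ?_) h fun _ => trivial
    induction hu using Submodule.span_induction with
    | mem w hw =>
      obtain ⟨y, hy, z, rfl⟩ := hw
      rw [← mul_vecMulVec]
      exact Submodule.mul_mem_mul hy trivial
    | zero => rw [zero_vecMulVec]; exact Submodule.zero_mem _
    | add a b _ _ ha hb => rw [add_vecMulVec]; exact Submodule.add_mem _ ha hb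
    | smul c a _ ha => rw [smul_vecMulVec]; exact Submodule.smul_mem _ c ha

theorem mem_top_mul {x : Matrix (Fin n) (Fin n) F} : x ∈ (⊤ : Submodule F _) * J ↔ ∀ v ∈ An J, x *ᵥ v = 0 := by
  constructor
  · intro hx v hv
    induction hx using Submodule.mul_induction_on' with
    | mem_mul_mem y hy z hz => rw [← mulVec_mulVec, hv z hz, mulVec_zero]
    | add a _ b _ ha hb => rw [add_mulVec, ha, hb, add_zero]
  · intro h
    refine mem_of_vm (P := ⊤) (Q := Ul J) (fun u _ φ hφ => ?_) (fun _ => trivial) fun v => ?_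
    · induction hφ using Submodule.span_induction with
      | mem w hw =>
        obtain ⟨y, hy, z, rfl⟩ := hw
        rw [← vecMulVec_mul]
        exact Submodule.mul_mem_mul trivial hy
      | zero => rw [vecMulVec_zero]; exact Submodule.zero_mem _
      | add a b _ _ ha hb => rw [vecMulVec_add]; exact Submodule.add_mem _ ha hb
      | smul c a _ ha => rw [vecMulVec_smul]; exact Submodule.smul_mem _ c ha
    · apply mem_Ul_of
      intro w hw
      rw [← dotProduct_mulVec, h w hw, dotProduct_zero]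

/-- right annihilator -/
def rann (J : Submodule F (Matrix (Fin n) (Fin n) F)) : Submodule F (Matrix (Fin n) (Fin n) F) where
  carrier := {x | ∀ y ∈ J, y * x = 0}
  add_mem' := by intro a b ha hb y hy; rw [mul_add, ha y hy, hb y hy, add_zero]
  zero_mem' := by intro y _; rw [mul_zero]
  smul_mem' := by intro c a ha y hy; rw [mul_smul_comm, ha y hy, smul_zero]

/-- left annihilator -/
def lann (J : Submodule F (Matrix (Fin n) (Fin n) F)) : Submodule F (Matrix (Fin n) (Fin n) F) where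
  carrier := {x | ∀ y ∈ J, x * y = 0}
  add_mem' := by intro a b ha hb y hy; rw [add_mul, ha y hy, hb y hy, add_zero]
  zero_mem' := by intro y _; rw [zero_mul]
  smul_mem' := by intro c a ha y hy; rw [smul_mul_assoc, ha y hy, smul_zero]

theorem ext_mulVec {x y : Matrix (Fin n) (Fin n) F} (h : ∀ v, x *ᵥ v = y *ᵥ v) : x = y := by
  apply Matrix.toLin'.injective
  apply LinearMap.ext
  intro v
  rw [Matrix.toLin'_apply, Matrix.toLin'_apply, h v]

theorem mem_rann {x : Matrix (Fin n) (Fin n) F} : x ∈ rann J ↔ ∀ v, x *ᵥ v ∈ An J := by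
  constructor
  · intro hx v y hy
    rw [mulVec_mulVec, hx y hy, zero_mulVec]
  · intro h y hy
    apply ext_mulVec
    intro v
    rw [← mulVec_mulVec, h v y hy, zero_mulVec]

theorem mem_lann {x : Matrix (Fin n) (Fin n) F} : x ∈ lann J ↔ ∀ v ∈ U J, x *ᵥ v = 0 := by
  constructor
  · intro hx v hv
    induction hv using Submodule.span_induction with
    | mem w hw =>
      obtain ⟨y, hy, z, rfl⟩ := hw
      rw [mulVec_mulVec, hx y hy, zero_mulVec]
    | zero => rw [mulVec_zero]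
    | add a b _ _ ha hb => rw [mulVec_add, ha, hb, add_zero]
    | smul c a _ ha => rw [mulVec_smul, ha, smul_zero]
  · intro h y hy
    apply ext_mulVec
    intro v
    rw [← mulVec_mulVec, h _ (mem_U hy v), zero_mulVec]

/-- the inner ideal attached to `J` -/
def KK (J : Submodule F (Matrix (Fin n) (Fin n) F)) : Submodule F (Matrix (Fin n) (Fin n) F) :=
  J * ⊤ ⊓ ⊤ * J ⊓ rann J ⊓ lann J

def K1 (J : Submodule F (Matrix (Fin n) (Fin n) F)) : Submodule F (Matrix (Fin n) (Fin n) F) :=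
  rann J ⊓ ⊤ * J

def K2 (J : Submodule F (Matrix (Fin n) (Fin n) F)) : Submodule F (Matrix (Fin n) (Fin n) F) :=
  J * ⊤ ⊓ lann J

theorem KK_le_K1 : KK J ≤ K1 J := fun _ hx => ⟨hx.1.2, hx.1.1.2⟩

theorem KK_le_K2 : KK J ≤ K2 J := fun _ hx => ⟨hx.1.1.1, hx.2⟩

theorem mem_KK {x : Matrix (Fin n) (Fin n) F} : x ∈ KK J ↔
    (∀ v, x *ᵥ v ∈ U J) ∧ (∀ v, x *ᵥ v ∈ An J) ∧ (∀ v ∈ U J, x *ᵥ v = 0) ∧ ∀ v ∈ An J, x *ᵥ v = 0 := by
  rw [← mem_mul_top, ← mem_rann, ← mem_lann, ← mem_top_mul]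
  constructor
  · rintro ⟨⟨⟨h1, h2⟩, h3⟩, h4⟩; exact ⟨h1, h3, h4, h2⟩
  · rintro ⟨h1, h3, h4, h2⟩; exact ⟨⟨⟨h1, h2⟩, h3⟩, h4⟩

theorem mem_K1 {x : Matrix (Fin n) (Fin n) F} : x ∈ K1 J ↔ (∀ v, x *ᵥ v ∈ An J) ∧ ∀ v ∈ An J, x *ᵥ v = 0 := by
  rw [← mem_rann, ← mem_top_mul]; rfl

theorem mem_K2 {x : Matrix (Fin n) (Fin n) F} : x ∈ K2 J ↔ (∀ v, x *ᵥ v ∈ U J) ∧ ∀ v ∈ U J, x *ᵥ v = 0 := by
  rw [← mem_lann, ← mem_mul_top]; rfl

theorem inn_K1 (h : K1 J ≠ ⊥) : Inn (K1 J) := by
  refine ⟨h, fun x hx y hy => ?_, fun x hx r y hy => ?_⟩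
  · rw [mem_K1] at hx hy
    apply ext_mulVec
    intro v
    rw [← mulVec_mulVec, hx.2 _ (hy.1 v), zero_mulVec]
  · rw [mem_K1] at hx hy ⊢
    refine ⟨fun v => ?_, fun v hv => ?_⟩
    · rw [← mulVec_mulVec, ← mulVec_mulVec]; exact hx.1 _
    · rw [← mulVec_mulVec, hy.2 v hv, mulVec_zero]

theorem inn_K2 (h : K2 J ≠ ⊥) : Inn (K2 J) := by
  refine ⟨h, fun x hx y hy => ?_, fun x hx r y hy => ?_⟩
  · rw [mem_K2] at hx hy
    apply ext_mulVec
    intro v
    rw [← mulVec_mulVec, hx.2 _ (hy.1 v), zero_mulVec]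
  · rw [mem_K2] at hx hy ⊢
    refine ⟨fun v => ?_, fun v hv => ?_⟩
    · rw [← mulVec_mulVec, ← mulVec_mulVec]; exact hx.1 _
    · rw [← mulVec_mulVec, hy.2 v hv, mulVec_zero]

theorem inn_KK (h : KK J ≠ ⊥) : Inn (KK J) := by
  refine ⟨h, fun x hx y hy => ?_, fun x hx r y hy => ?_⟩
  · rw [mem_KK] at hx hy
    apply ext_mulVec
    intro v
    rw [← mulVec_mulVec, hx.2.2.1 _ (hy.1 v), zero_mulVec]
  · rw [mem_KK] at hx hy ⊢
    refine ⟨fun v => ?_, fun v => ?_, fun v hv => ?_, fun v hv => ?_⟩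
    · rw [← mulVec_mulVec, ← mulVec_mulVec]; exact hx.1 _
    · rw [← mulVec_mulVec, ← mulVec_mulVec]; exact hx.2.1 _
    · rw [← mulVec_mulVec, hy.2.2.1 v hv, mulVec_zero]
    · rw [← mulVec_mulVec, hy.2.2.2 v hv, mulVec_zero]

theorem exists_row (hJ : J ≠ ⊥) : ∃ ψ ∈ Ul J, ∃ w, ψ ⬝ᵥ w = 1 := by
  obtain ⟨y, hy, hy0⟩ := J.ne_bot_iff.1 hJ
  obtain ⟨i, j, hij⟩ : ∃ i j, y i j ≠ 0 := by
    by_contra hcon
    push Not at hcon
    exact hy0 (by ext i j; exact hcon i j)
  refine ⟨Pi.single i 1 ᵥ* y, mem_Ul hy _, Pi.single j (y i j)⁻¹, ?_⟩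
  rw [single_one_vecMul, dotProduct_single]
  exact mul_inv_cancel₀ hij

/-- in case all three inner ideals agree -/
theorem U_eq_An (h0 : KK J ≠ ⊥) (h1 : K1 J = KK J) (h2 : K2 J = KK J) : U J = An J := by
  have hJ : J ≠ ⊥ := by
    rintro rfl
    apply h0
    rw [eq_bot_iff]
    intro x hx
    have := hx.1.1.1
    rwa [Submodule.bot_mul] at this
  obtain ⟨ψ, hψ, w, hw⟩ := exists_row hJ
  obtain ⟨φ, hφ, z, hz⟩ := exists_row h0
  apply le_antisymm
  · intro v hv
    have : vecMulVec v φ ∈ KK J := by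
      rw [← h2, mem_K2]
      refine ⟨fun a => ?_, fun a ha => ?_⟩
      · rw [vm_mulVec]; exact (U J).smul_mem _ hv
      · rw [vm_mulVec, Ul_An hφ (fun x hx => (mem_KK.1 hx).2.2.1 a ha), zero_smul]
    have := (mem_KK.1 this).2.1 z
    rwa [vm_mulVec, hz, one_smul] at this
  · intro v hv
    have : vecMulVec v ψ ∈ KK J := by
      rw [← h1, mem_K1]
      refine ⟨fun a => ?_, fun a ha => ?_⟩
      · rw [vm_mulVec]; exact (An J).smul_mem _ hv
      · rw [vm_mulVec, Ul_An hψ ha, zero_smul]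
    have := (mem_KK.1 this).1 w
    rwa [vm_mulVec, hw, one_smul] at this

theorem U_mono (h : J ≤ Q) : U J ≤ U Q := by
  apply Submodule.span_mono
  rintro _ ⟨x, hx, v, rfl⟩
  exact ⟨x, h hx, v, rfl⟩

theorem An_anti (h : J ≤ Q) : An Q ≤ An J := fun v hv x hx => hv x (h hx)

theorem KK_le_of_An_le (h : An J ≤ U J) (hJQ : J ≤ Q) : KK Q ≤ KK J := by
  intro x hx
  rw [mem_KK] at hx ⊢
  refine ⟨fun v => h (An_anti hJQ (hx.2.1 v)), fun v => An_anti hJQ (hx.2.1 v), fun v hv => hx.2.2.1 v (U_mono hJQ hv),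
    fun v hv => hx.2.2.1 v (U_mono hJQ (h hv))⟩

theorem KK_eq_of_U_eq_An (h1 : U J = An J) (h2 : U Q = An Q) (hJQ : J ≤ Q) : KK J = KK Q := by
  have e : U J = U Q := le_antisymm (U_mono hJQ) (by rw [h2, h1]; exact An_anti hJQ)
  have e' : An J = An Q := by rw [← h1, ← h2, e]
  ext x
  rw [mem_KK, mem_KK, e, e']

/-- if `St (KK J)` normalizes `J` then `U J` and `An J` are comparable -/
theorem comparable (h0 : KK J ≠ ⊥) (hst : St (KK J) ≤ St J) : An J ≤ U J ∨ U J ≤ An J := by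
  have hK := inn_KK h0
  have hJ : J ≠ ⊥ := by
    rintro rfl
    apply h0
    rw [eq_bot_iff]
    intro x hx
    have := hx.1.1.1
    rwa [Submodule.bot_mul] at this
  obtain ⟨ψ, hψ, w, hw⟩ := exists_row hJ
  obtain ⟨φ, hφ, z, hz⟩ := exists_row h0
  have a := hK.inv_cases (M := U J) (fun s hs => inv_U s (hst hs))
  have b := hK.inv_cases (M := An J) (fun s hs => inv_An s (hst hs))
  have hKU : U (KK J) ≤ U J := by
    rw [U, Submodule.span_le]
    rintro _ ⟨x, hx, v, rfl⟩
    exact (mem_KK.1 hx).1 v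
  have hKA : U (KK J) ≤ An J := by
    rw [U, Submodule.span_le]
    rintro _ ⟨x, hx, v, rfl⟩
    exact (mem_KK.1 hx).2.1 v
  have hAU : U J ≤ An (KK J) := fun v hv x hx => (mem_KK.1 hx).2.2.1 v hv
  have hAA : An J ≤ An (KK J) := fun v hv x hx => (mem_KK.1 hx).2.2.2 v hv
  have k1 := hK.U_ne_bot
  have k2 := hK.An_ne_top
  rcases a with h | h | h | h
  · exact absurd (le_bot_iff.1 (h ▸ hKU)) k1
  · right; rw [h]; exact hKA
  · left; rw [h]; exact hAA
  · exact absurd (top_le_iff.1 (h ▸ hAU)) k2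

theorem le_KK (h : U J ≤ An J) : J ≤ KK J := by
  intro x hx
  rw [mem_KK]
  exact ⟨fun v => mem_U hx v, fun v => h (mem_U hx v), fun v hv => h hv x hx, fun v hv => hv x hx⟩

/-- a nonzero subspace of `K` normalized by `St K` is `K` -/
theorem Inn.le_of_St (hK : Inn K) (hJ0 : J ≠ ⊥) (hJK : J ≤ K) (hst : St K ≤ St J) : K ≤ J := by
  -- closure under rank one matrices, first the nilpotent ones
  have a1 : ∀ u ∈ U K, ∀ φ : Fin n → F, φ ⬝ᵥ u = 0 → ∀ j ∈ J, vecMulVec u (φ ᵥ* j) ∈ J := by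
    intro u hu φ h j hj
    have h1 := (hst (hK.tv_mem₁ h hu) j).2 hj
    rw [tv_inv, coe_tv, add_mul, one_mul, mul_sub, mul_one, add_mul, mul_vecMulVec,
      hK.U_le hu j (hJK hj), zero_vecMulVec, mul_assoc, mul_vecMulVec, hK.U_le hu j (hJK hj), zero_vecMulVec, mul_zero,
      add_zero, sub_zero, vecMulVec_mul] at h1
    have := J.sub_mem h1 hj
    rwa [add_sub_cancel_left] at this
  have a2 : ∀ ψ ∈ Ul K, ∀ v : Fin n → F, ψ ⬝ᵥ v = 0 → ∀ j ∈ J, vecMulVec (j *ᵥ v) ψ ∈ J := by
    intro ψ hψ v h j hj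
    have h1 := (hst (hK.tv_mem₂ h hψ) j).2 hj
    rw [tv_inv, coe_tv, add_mul, one_mul, vecMulVec_mul, hK.Ul_vecMul hψ (hJK hj), vecMulVec_zero, add_zero, mul_sub, mul_one,
      mul_vecMulVec] at h1
    have := J.sub_mem hj h1
    rwa [sub_sub_cancel] at this
  have b1 : ∀ u ∈ U K, ∀ φ : Fin n → F, ∀ j ∈ J, vecMulVec u (φ ᵥ* j) ∈ J := by
    intro u hu φ j hj
    by_cases h0 : φ ⬝ᵥ u = 0
    · exact a1 u hu φ h0 j hj
    by_cases h1 : ∃ w ∈ U K, w ≠ 0 ∧ φ ⬝ᵥ w = 0
    · obtain ⟨w, hw, hw0, hφw⟩ := h1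
      have hwu : w ∉ Submodule.span F {u} := by
        intro h
        obtain ⟨c, rfl⟩ := Submodule.mem_span_singleton.1 h
        rw [dotProduct_smul, smul_eq_mul] at hφw
        rcases mul_eq_zero.1 hφw with hc | hc
        · exact hw0 (by rw [hc, zero_smul])
        · exact h0 hc
      obtain ⟨φ₁, h2, h3⟩ := exists_sep _ hwu
      have h4 := a1 w hw φ hφw j hj
      have h5 := a1 u hu φ₁ (h2 u (Submodule.mem_span_singleton_self u)) _ h4
      rwa [vecMul_vecMulVec, h3, one_smul] at h5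
    · push Not at h1
      have : vecMulVec u (φ ᵥ* j) = (φ ⬝ᵥ u) • j := by
        apply ext_mulVec
        intro v
        rw [vm_mulVec, smul_mulVec, ← dotProduct_mulVec]
        by_contra hne
        refine h1 ((φ ⬝ᵥ (j *ᵥ v)) • u - (φ ⬝ᵥ u) • (j *ᵥ v)) ?_ (sub_ne_zero.2 hne) ?_
        · exact (U K).sub_mem ((U K).smul_mem _ hu) ((U K).smul_mem _ (mem_U (hJK hj) v))
        · rw [dotProduct_sub, dotProduct_smul, dotProduct_smul, smul_eq_mul, smul_eq_mul, mul_comm, sub_self]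
      rw [this]
      exact J.smul_mem _ hj
  have b2 : ∀ ψ ∈ Ul K, ∀ v : Fin n → F, ∀ j ∈ J, vecMulVec (j *ᵥ v) ψ ∈ J := by
    intro ψ hψ v j hj
    by_cases h0 : ψ ⬝ᵥ v = 0
    · exact a2 ψ hψ v h0 j hj
    by_cases h1 : ∃ χ ∈ Ul K, χ ≠ 0 ∧ χ ⬝ᵥ v = 0
    · obtain ⟨χ, hχ, hχ0, hχv⟩ := h1
      have hχψ : χ ∉ Submodule.span F {ψ} := by
        intro h
        obtain ⟨c, rfl⟩ := Submodule.mem_span_singleton.1 h
        rw [smul_dotProduct, smul_eq_mul] at hχv
        rcases mul_eq_zero.1 hχv with hc | hc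
        · exact hχ0 (by rw [hc, zero_smul])
        · exact h0 hc
      obtain ⟨v₁, h2, h3⟩ := exists_sep _ hχψ
      rw [dotProduct_comm] at h3
      have h2' := h2 ψ (Submodule.mem_span_singleton_self ψ)
      rw [dotProduct_comm] at h2'
      have h4 := a2 χ hχ v hχv j hj
      have h5 := a2 ψ hψ v₁ h2' _ h4
      rwa [vm_mulVec, h3, one_smul] at h5
    · push Not at h1
      have hrow : ∀ z, (ψ ⬝ᵥ v) • (z ᵥ* j) = ((z ᵥ* j) ⬝ᵥ v) • ψ := by
        intro z
        by_contra hne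
        refine h1 ((ψ ⬝ᵥ v) • (z ᵥ* j) - ((z ᵥ* j) ⬝ᵥ v) • ψ) ?_ (sub_ne_zero.2 hne) ?_
        · exact (Ul K).sub_mem ((Ul K).smul_mem _ (mem_Ul (hJK hj) z)) ((Ul K).smul_mem _ hψ)
        · rw [sub_dotProduct, smul_dotProduct, smul_dotProduct, smul_eq_mul, smul_eq_mul, mul_comm, sub_self]
      have : vecMulVec (j *ᵥ v) ψ = (ψ ⬝ᵥ v) • j := by
        ext a b
        have := congrFun (hrow (Pi.single a 1)) b
        rw [single_one_vecMul] at this
        simp only [Pi.smul_apply, smul_eq_mul] at this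
        rw [vecMulVec_apply, Matrix.smul_apply, smul_eq_mul]
        exact this.symm
      rw [this]
      exact J.smul_mem _ hj
  obtain ⟨ψ₀, hψ₀, w, hw⟩ := exists_row hJ0
  -- find `j`, `φ`, `v` with `φ j v = 1`
  obtain ⟨j, hj, φ, v, hφ⟩ : ∃ j ∈ J, ∃ φ v : Fin n → F, (φ ᵥ* j) ⬝ᵥ v = 1 := by
    obtain ⟨y, hy, hy0⟩ := J.ne_bot_iff.1 hJ0
    obtain ⟨a, b, hab⟩ : ∃ a b, y a b ≠ 0 := by
      by_contra hcon
      push Not at hcon
      exact hy0 (by ext a b; exact hcon a b)
    refine ⟨y, hy, Pi.single a 1, Pi.single b (y a b)⁻¹, ?_⟩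
    rw [single_one_vecMul, dotProduct_single]
    exact mul_inv_cancel₀ hab
  intro x hx
  refine mem_of_vm (P := U K) (Q := Ul K) (fun u hu ψ hψ => ?_) (fun v => mem_U hx v) (fun v => mem_Ul hx v)
  have h1 := b1 u hu φ j hj
  have h2 := b2 ψ hψ v _ h1
  rwa [vm_mulVec, hφ, one_smul] at h2

end Cfsg.Agent.H801.Sims
end

-- part: H801/Sims/Prod
section
/-!
# Products of inner ideals
-/

set_option autoImplicit false
set_option linter.unusedVariables false

namespace Cfsg.Agent.H801.Sims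

open Matrix

variable {F : Type*} [Field F] {n : ℕ} {K L J Q : Submodule F (Matrix (Fin n) (Fin n) F)}

theorem mm {A B C D : Submodule F (Matrix (Fin n) (Fin n) F)} (h : A ≤ B) (h' : C ≤ D) : A * C ≤ B * D :=
  Submodule.mul_le.2 fun _ hx _ hy => Submodule.mul_mem_mul (h hx) (h' hy)

theorem mml {A B C : Submodule F (Matrix (Fin n) (Fin n) F)} (h : A ≤ B) : A * C ≤ B * C := mm h le_rfl

theorem mmr {A B C : Submodule F (Matrix (Fin n) (Fin n) F)} (h : A ≤ B) : C * A ≤ C * B := mm le_rfl h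

/-- `M_n(F)` is simple -/
theorem top_mul_top (hJ : J ≠ ⊥) : (⊤ : Submodule F (Matrix (Fin n) (Fin n) F)) * J * ⊤ = ⊤ := by
  rw [eq_top_iff]
  obtain ⟨y, hy, hy0⟩ := J.ne_bot_iff.1 hJ
  obtain ⟨a, b, hab⟩ : ∃ a b, y a b ≠ 0 := by
    by_contra hcon
    push Not at hcon
    exact hy0 (by ext a b; exact hcon a b)
  intro x _
  refine mem_of_vm (P := ⊤) (Q := ⊤) (fun u _ φ _ => ?_) (fun _ => trivial) (fun _ => trivial)
  have : vecMulVec u φ = vecMulVec u (Pi.single a 1) * y * vecMulVec (Pi.single b (y a b)⁻¹) φ := by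
    rw [vecMulVec_mul, single_one_vecMul, vm_mul_vm, dotProduct_single]
    change vecMulVec u φ = (y a b * (y a b)⁻¹) • vecMulVec u φ
    rw [mul_inv_cancel₀ hab, one_smul]
  rw [this]
  exact Submodule.mul_mem_mul (Submodule.mul_mem_mul trivial hy) trivial

theorem le_mul_top (K : Submodule F (Matrix (Fin n) (Fin n) F)) : K ≤ K * ⊤ := fun x hx => by
  have := Submodule.mul_mem_mul hx (Submodule.mem_top (x := (1 : Matrix (Fin n) (Fin n) F)) (R := F))
  rwa [mul_one] at this

theorem le_top_mul (K : Submodule F (Matrix (Fin n) (Fin n) F)) : K ≤ ⊤ * K := fun x hx => by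
  have := Submodule.mul_mem_mul (Submodule.mem_top (x := (1 : Matrix (Fin n) (Fin n) F)) (R := F)) hx
  rwa [one_mul] at this

theorem Inn.le_KTK (hK : Inn K) : K ≤ K * ⊤ * K := by
  intro x hx
  refine mem_of_vm (P := U K) (Q := Ul K) (fun u hu φ hφ => ?_) (fun v => mem_U hx v) (fun v => mem_Ul hx v)
  induction hu using Submodule.span_induction with
  | mem w hw =>
    obtain ⟨x, hx, z, rfl⟩ := hw
    induction hφ using Submodule.span_induction with
    | mem w' hw' =>
      obtain ⟨y, hy, z', rfl⟩ := hw'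
      rw [← mul_vecMulVec, ← vecMulVec_mul, ← mul_assoc]
      exact Submodule.mul_mem_mul (Submodule.mul_mem_mul hx trivial) hy
    | zero => rw [vecMulVec_zero]; exact Submodule.zero_mem _
    | add a b _ _ ha hb => rw [vecMulVec_add]; exact Submodule.add_mem _ ha hb
    | smul c a _ ha => rw [vecMulVec_smul]; exact Submodule.smul_mem _ c ha
  | zero => rw [zero_vecMulVec]; exact Submodule.zero_mem _
  | add a b _ _ ha hb => rw [add_vecMulVec]; exact Submodule.add_mem _ ha hb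
  | smul c a _ ha => rw [smul_vecMulVec]; exact Submodule.smul_mem _ c ha

theorem Inn.KTK_le (hK : Inn K) : K * ⊤ * K ≤ K := by
  rw [Submodule.mul_le]
  intro x hx y hy
  induction hx using Submodule.mul_induction_on' with
  | mem_mul_mem a ha b hb => exact hK.inn a ha b y hy
  | add a _ b _ ha hb => rw [add_mul]; exact K.add_mem ha hb

theorem Inn.mul_self (hK : Inn K) : K * K = ⊥ := by
  rw [eq_bot_iff, Submodule.mul_le]
  intro x hx y hy
  rw [hK.sq x hx y hy]
  exact Submodule.zero_mem _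

theorem eq_of_card [Finite F] {A B : Submodule F (Matrix (Fin n) (Fin n) F)} (h : A ≤ B) (hc : Nat.card A = Nat.card B) :
    A = B := by
  apply SetLike.coe_injective
  have hfin : (B : Set (Matrix (Fin n) (Fin n) F)).Finite := Set.toFinite _
  refine Set.eq_of_subset_of_ncard_le h ?_ hfin
  exact le_of_eq hc.symm

/-- if `L` lies in the normalizer algebra of `K` and the one-sided ideals have the same size, then `L K = K L = 0` -/
theorem mul_eq_bot [Finite F] (hK : Inn K) (hL : Inn L) (h1 : L * K ≤ K * ⊤) (h2 : K * L ≤ ⊤ * K)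
    (c1 : Nat.card ↥(L * (⊤ : Submodule F (Matrix (Fin n) (Fin n) F))) = Nat.card ↥(K * (⊤ : Submodule F (Matrix (Fin n) (Fin n) F))))
    (c2 : Nat.card ↥((⊤ : Submodule F (Matrix (Fin n) (Fin n) F)) * L) = Nat.card ↥((⊤ : Submodule F (Matrix (Fin n) (Fin n) F)) * K)) :
    L * K = ⊥ ∧ K * L = ⊥ := by
  have tt : ∀ A : Submodule F (Matrix (Fin n) (Fin n) F), A * ⊤ * ⊤ ≤ A * ⊤ := fun A => by
    rw [mul_assoc]; exact mmr le_top
  have tt' : ∀ A : Submodule F (Matrix (Fin n) (Fin n) F), ⊤ * (⊤ * A) ≤ ⊤ * A := fun A => by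
    rw [← mul_assoc]; exact mml le_top
  constructor
  · by_contra hne
    have h3 := top_mul_top hne
    have h4 : L * ⊤ ≤ K * ⊤ := by
      calc L * ⊤ = L * (⊤ * (L * K) * ⊤) := by rw [h3]
        _ = (L * ⊤ * L) * (K * ⊤) := by simp only [mul_assoc]
        _ ≤ L * (K * ⊤) := mml hL.KTK_le
        _ = (L * K) * ⊤ := by rw [mul_assoc]
        _ ≤ (K * ⊤) * ⊤ := mml h1
        _ ≤ K * ⊤ := tt K
    have h5 := eq_of_card h4 c1
    apply hne
    rw [eq_bot_iff]
    calc L * K ≤ L * (K * ⊤) := mmr (le_mul_top K)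
      _ = (L * L) * ⊤ := by rw [← h5, mul_assoc]
      _ = ⊥ := by rw [hL.mul_self, Submodule.bot_mul]
      _ ≤ ⊥ := le_rfl
  · by_contra hne
    have h3 := top_mul_top hne
    have h4 : ⊤ * L ≤ ⊤ * K := by
      calc ⊤ * L = (⊤ * (K * L) * ⊤) * L := by rw [h3]
        _ = (⊤ * K) * (L * ⊤ * L) := by simp only [mul_assoc]
        _ ≤ (⊤ * K) * L := mmr hL.KTK_le
        _ = ⊤ * (K * L) := by rw [mul_assoc]
        _ ≤ ⊤ * (⊤ * K) := mmr h2
        _ ≤ ⊤ * K := tt' K
    have h5 := eq_of_card h4 c2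
    apply hne
    rw [eq_bot_iff]
    calc K * L ≤ (⊤ * K) * L := mml (le_top_mul K)
      _ = ⊤ * (L * L) := by rw [← h5, mul_assoc]
      _ = ⊥ := by rw [hL.mul_self, Submodule.mul_bot]
      _ ≤ ⊥ := le_rfl

/-- `Q M Q` for a subspace `Q ≠ 0` with `Q² = 0` -/
theorem inn_QTQ (hQ : Q * Q = ⊥) (hK : Inn K) (hKQ : K ≤ Q) : Inn (Q * ⊤ * Q) ∧ K ≤ Q * ⊤ * Q := by
  have hle : K ≤ Q * ⊤ * Q := hK.le_KTK.trans (mm (mml hKQ) hKQ)
  refine ⟨⟨fun h => hK.ne (le_bot_iff.1 (h ▸ hle)), fun x hx y hy => ?_, fun x hx r y hy => ?_⟩, hle⟩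
  · have h1 : x * y ∈ (Q * ⊤ * Q) * (Q * ⊤ * Q) := Submodule.mul_mem_mul hx hy
    have h2 : (Q * ⊤ * Q) * (Q * ⊤ * Q) = ⊥ := by
      calc (Q * ⊤ * Q) * (Q * ⊤ * Q) = Q * ⊤ * (Q * Q) * (⊤ * Q) := by simp only [mul_assoc]
        _ = ⊥ := by rw [hQ, Submodule.mul_bot, Submodule.bot_mul]
    rw [h2] at h1
    exact h1
  · have h1 : x * r * y ∈ (Q * ⊤ * Q) * ⊤ * (Q * ⊤ * Q) := Submodule.mul_mem_mul (Submodule.mul_mem_mul hx trivial) hy
    refine (?_ : (Q * ⊤ * Q) * ⊤ * (Q * ⊤ * Q) ≤ Q * ⊤ * Q) h1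
    calc (Q * ⊤ * Q) * ⊤ * (Q * ⊤ * Q) = Q * (⊤ * Q * ⊤ * Q * ⊤) * Q := by simp only [mul_assoc]
      _ ≤ Q * ⊤ * Q := mml (mmr le_top)

end Cfsg.Agent.H801.Sims
end

-- part: H801/Sims/Tau
section
/-!
# Semilinear automorphisms and antiautomorphisms of `M_n(F)` acting on inner ideals
-/

set_option autoImplicit false
set_option linter.unusedVariables false

namespace Cfsg.Agent.H801.Sims

open Matrix Cfsg.Agent.H607.TW

variable {F : Type} [Field F] {n : ℕ} {K L J Q : Submodule F (Matrix (Fin n) (Fin n) F)}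
  {τ τ' : Matrix (Fin n) (Fin n) F ≃+ Matrix (Fin n) (Fin n) F}

def IsMul (τ : Matrix (Fin n) (Fin n) F ≃+ Matrix (Fin n) (Fin n) F) : Prop := ∀ x y, τ (x * y) = τ x * τ y

def IsAnti (τ : Matrix (Fin n) (Fin n) F ≃+ Matrix (Fin n) (Fin n) F) : Prop := ∀ x y, τ (x * y) = τ y * τ x

/-- semilinear, multiplicative or antimultiplicative -/
structure Semi (τ : Matrix (Fin n) (Fin n) F ≃+ Matrix (Fin n) (Fin n) F) : Prop where
  smul : ∃ σ : F ≃+* F, ∀ (c : F) (x : Matrix (Fin n) (Fin n) F), τ (c • x) = σ c • τ x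
  mul : IsMul τ ∨ IsAnti τ

theorem Semi.one (h : Semi τ) : τ 1 = 1 := by
  rcases h.mul with h1 | h1
  · obtain ⟨y, hy⟩ := τ.surjective 1
    have := h1 1 y
    rw [one_mul, hy, mul_one] at this
    exact this.symm
  · obtain ⟨y, hy⟩ := τ.surjective 1
    have := h1 y 1
    rw [mul_one, hy, mul_one] at this
    exact this.symm

theorem tauP_mul (B : Matrix.GeneralLinearGroup (Fin n) F) (σ : F ≃+* F) : IsMul (tauP B σ) := by
  intro x y
  rw [tauP_apply, tauP_apply, tauP_apply]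
  have h1 : ((B⁻¹ : Matrix.GeneralLinearGroup (Fin n) F) : Matrix (Fin n) (Fin n) F) * (B : Matrix (Fin n) (Fin n) F) = 1 := by
    rw [← Units.val_mul, inv_mul_cancel, Units.val_one]
  have h2 : (x * y).map σ = x.map σ * y.map σ := by
    ext i j
    simp only [Matrix.mul_apply, _root_.Matrix.map_apply, _root_.map_sum, _root_.map_mul]
  rw [h2]
  calc _ = (B : Matrix (Fin n) (Fin n) F) * x.map σ * 1 * y.map σ *
      ((B⁻¹ : Matrix.GeneralLinearGroup (Fin n) F) : Matrix (Fin n) (Fin n) F) := by simp only [mul_assoc, mul_one, one_mul]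
    _ = _ := by rw [← h1]; simp only [mul_assoc]

theorem tauP_smul (B : Matrix.GeneralLinearGroup (Fin n) F) (σ : F ≃+* F) (c : F) (x : Matrix (Fin n) (Fin n) F) :
    tauP B σ (c • x) = σ c • tauP B σ x := by
  rw [tauP_apply, tauP_apply]
  have h2 : (c • x).map σ = σ c • x.map σ := by
    ext i j
    simp
  rw [h2, mul_smul_comm, smul_mul_assoc]

theorem tauP_semi (B : Matrix.GeneralLinearGroup (Fin n) F) (σ : F ≃+* F) : Semi (tauP B σ) :=
  ⟨⟨σ, tauP_smul B σ⟩, Or.inl (tauP_mul B σ)⟩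

theorem tauM_eq (B : Matrix.GeneralLinearGroup (Fin n) F) (σ : F ≃+* F) (x : Matrix (Fin n) (Fin n) F) :
    tauM B σ x = tauP B σ xᵀ := rfl

theorem tauM_anti (B : Matrix.GeneralLinearGroup (Fin n) F) (σ : F ≃+* F) : IsAnti (tauM B σ) := by
  intro x y
  rw [tauM_eq, tauM_eq, tauM_eq, transpose_mul, tauP_mul]

theorem tauM_semi (B : Matrix.GeneralLinearGroup (Fin n) F) (σ : F ≃+* F) : Semi (tauM B σ) := by
  refine ⟨⟨σ, fun c x => ?_⟩, Or.inr (tauM_anti B σ)⟩
  rw [tauM_eq, tauM_eq, transpose_smul, tauP_smul]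

/-- the image of a subspace -/
def img (τ : Matrix (Fin n) (Fin n) F ≃+ Matrix (Fin n) (Fin n) F) (K : Submodule F (Matrix (Fin n) (Fin n) F)) :
    Submodule F (Matrix (Fin n) (Fin n) F) := Submodule.span F (τ '' K)

theorem mem_img (h : Semi τ) {x : Matrix (Fin n) (Fin n) F} : x ∈ img τ K ↔ ∃ y ∈ K, τ y = x := by
  constructor
  · intro hx
    obtain ⟨σ, hσ⟩ := h.smul
    induction hx using Submodule.span_induction with
    | mem w hw => obtain ⟨y, hy, rfl⟩ := hw; exact ⟨y, hy, rfl⟩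
    | zero => exact ⟨0, K.zero_mem, map_zero τ⟩
    | add a b _ _ ha hb =>
      obtain ⟨y, hy, rfl⟩ := ha
      obtain ⟨z, hz, rfl⟩ := hb
      exact ⟨y + z, K.add_mem hy hz, map_add τ y z⟩
    | smul c a _ ha =>
      obtain ⟨y, hy, rfl⟩ := ha
      exact ⟨σ.symm c • y, K.smul_mem _ hy, by rw [hσ, RingEquiv.apply_symm_apply]⟩
  · rintro ⟨y, hy, rfl⟩
    exact Submodule.subset_span ⟨y, hy, rfl⟩

theorem mem_img' (h : Semi τ) {x : Matrix (Fin n) (Fin n) F} : τ x ∈ img τ K ↔ x ∈ K := by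
  rw [mem_img h]
  constructor
  · rintro ⟨y, hy, hyx⟩
    rwa [τ.injective hyx] at hy
  · exact fun hx => ⟨x, hx, rfl⟩

theorem card_img (h : Semi τ) : Nat.card ↥(img τ K) = Nat.card ↥K := by
  have h1 : ((img τ K : Submodule F _) : Set (Matrix (Fin n) (Fin n) F)) = τ '' K := by
    ext x
    rw [SetLike.mem_coe, mem_img h]
    rfl
  have h2 := Nat.card_image_of_injective τ.injective (K : Set (Matrix (Fin n) (Fin n) F))
  rw [← h1] at h2
  exact h2

theorem img_ne_bot (h : Semi τ) (hK : K ≠ ⊥) : img τ K ≠ ⊥ := by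
  obtain ⟨x, hx, hx0⟩ := K.ne_bot_iff.1 hK
  rw [Submodule.ne_bot_iff]
  exact ⟨τ x, (mem_img' h).2 hx, fun h0 => hx0 (τ.injective (by rw [h0, map_zero]))⟩

theorem img_top (h : Semi τ) : img τ (⊤ : Submodule F (Matrix (Fin n) (Fin n) F)) = ⊤ := by
  rw [eq_top_iff]
  intro x _
  rw [mem_img h]
  exact ⟨τ.symm x, trivial, τ.apply_symm_apply x⟩

theorem img_mul (h : Semi τ) (hm : IsMul τ) : img τ (K * L) = img τ K * img τ L := by
  apply le_antisymm
  · intro x hx
    obtain ⟨y, hy, rfl⟩ := (mem_img h).1 hx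
    induction hy using Submodule.mul_induction_on' with
    | mem_mul_mem a ha b hb =>
      rw [hm]
      exact Submodule.mul_mem_mul ((mem_img' h).2 ha) ((mem_img' h).2 hb)
    | add a ha' b hb' ha hb =>
      rw [map_add]
      exact Submodule.add_mem _ (ha ((mem_img' h).2 ha')) (hb ((mem_img' h).2 hb'))
  · rw [Submodule.mul_le]
    intro x hx y hy
    obtain ⟨a, ha, rfl⟩ := (mem_img h).1 hx
    obtain ⟨b, hb, rfl⟩ := (mem_img h).1 hy
    rw [← hm, mem_img' h]
    exact Submodule.mul_mem_mul ha hb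

theorem img_mul' (h : Semi τ) (hm : IsAnti τ) : img τ (K * L) = img τ L * img τ K := by
  apply le_antisymm
  · intro x hx
    obtain ⟨y, hy, rfl⟩ := (mem_img h).1 hx
    induction hy using Submodule.mul_induction_on' with
    | mem_mul_mem a ha b hb =>
      rw [hm]
      exact Submodule.mul_mem_mul ((mem_img' h).2 hb) ((mem_img' h).2 ha)
    | add a ha' b hb' ha hb =>
      rw [map_add]
      exact Submodule.add_mem _ (ha ((mem_img' h).2 ha')) (hb ((mem_img' h).2 hb'))
  · rw [Submodule.mul_le]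
    intro x hx y hy
    obtain ⟨a, ha, rfl⟩ := (mem_img h).1 hx
    obtain ⟨b, hb, rfl⟩ := (mem_img h).1 hy
    rw [← hm, mem_img' h]
    exact Submodule.mul_mem_mul hb ha

theorem img_inn (h : Semi τ) (hK : Inn K) : Inn (img τ K) := by
  refine ⟨img_ne_bot h hK.ne, fun x hx y hy => ?_, fun x hx r y hy => ?_⟩
  · obtain ⟨a, ha, rfl⟩ := (mem_img h).1 hx
    obtain ⟨b, hb, rfl⟩ := (mem_img h).1 hy
    rcases h.mul with hm | hm
    · rw [← hm, hK.sq a ha b hb, map_zero]
    · rw [← hm, hK.sq b hb a ha, map_zero]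
  · obtain ⟨a, ha, rfl⟩ := (mem_img h).1 hx
    obtain ⟨b, hb, rfl⟩ := (mem_img h).1 hy
    obtain ⟨s, rfl⟩ := τ.surjective r
    rcases h.mul with hm | hm
    · rw [← hm, ← hm, mem_img' h]
      exact hK.inn a ha s b hb
    · rw [← hm, ← hm, mem_img' h, ← mul_assoc]
      exact hK.inn b hb s a ha

theorem mem_rann' {x : Matrix (Fin n) (Fin n) F} : x ∈ rann J ↔ ∀ y ∈ J, y * x = 0 := Iff.rfl
theorem mem_lann' {x : Matrix (Fin n) (Fin n) F} : x ∈ lann J ↔ ∀ y ∈ J, x * y = 0 := Iff.rfl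

theorem img_rann (h : Semi τ) (hm : IsMul τ) : img τ (rann J) = rann (img τ J) := by
  ext x
  obtain ⟨x, rfl⟩ := τ.surjective x
  rw [mem_img' h, mem_rann', mem_rann']
  constructor
  · intro hx y hy
    obtain ⟨b, hb, rfl⟩ := (mem_img h).1 hy
    rw [← hm, hx b hb, map_zero]
  · intro hx y hy
    have := hx (τ y) ((mem_img' h).2 hy)
    rw [← hm] at this
    exact τ.injective (by rw [this, map_zero])

theorem img_lann (h : Semi τ) (hm : IsMul τ) : img τ (lann J) = lann (img τ J) := by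
  ext x
  obtain ⟨x, rfl⟩ := τ.surjective x
  rw [mem_img' h, mem_lann', mem_lann']
  constructor
  · intro hx y hy
    obtain ⟨b, hb, rfl⟩ := (mem_img h).1 hy
    rw [← hm, hx b hb, map_zero]
  · intro hx y hy
    have := hx (τ y) ((mem_img' h).2 hy)
    rw [← hm] at this
    exact τ.injective (by rw [this, map_zero])

theorem img_rann' (h : Semi τ) (hm : IsAnti τ) : img τ (rann J) = lann (img τ J) := by
  ext x
  obtain ⟨x, rfl⟩ := τ.surjective x
  rw [mem_img' h, mem_rann', mem_lann']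
  constructor
  · intro hx y hy
    obtain ⟨b, hb, rfl⟩ := (mem_img h).1 hy
    rw [← hm, hx b hb, map_zero]
  · intro hx y hy
    have := hx (τ y) ((mem_img' h).2 hy)
    rw [← hm] at this
    exact τ.injective (by rw [this, map_zero])

theorem img_lann' (h : Semi τ) (hm : IsAnti τ) : img τ (lann J) = rann (img τ J) := by
  ext x
  obtain ⟨x, rfl⟩ := τ.surjective x
  rw [mem_img' h, mem_lann', mem_rann']
  constructor
  · intro hx y hy
    obtain ⟨b, hb, rfl⟩ := (mem_img h).1 hy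
    rw [← hm, hx b hb, map_zero]
  · intro hx y hy
    have := hx (τ y) ((mem_img' h).2 hy)
    rw [← hm] at this
    exact τ.injective (by rw [this, map_zero])

theorem img_inf (h : Semi τ) : img τ (K ⊓ L) = img τ K ⊓ img τ L := by
  ext x
  obtain ⟨x, rfl⟩ := τ.surjective x
  rw [mem_img' h, Submodule.mem_inf, Submodule.mem_inf, mem_img' h, mem_img' h]

theorem img_KK (h : Semi τ) : img τ (KK J) = KK (img τ J) := by
  rw [KK, KK, img_inf h, img_inf h, img_inf h]
  rcases h.mul with hm | hm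
  · rw [img_mul h hm, img_mul h hm, img_top h, img_rann h hm, img_lann h hm]
  · rw [img_mul' h hm, img_mul' h hm, img_top h, img_rann' h hm, img_lann' h hm]
    ac_rfl

theorem img_K1 (h : Semi τ) (hm : IsMul τ) : img τ (K1 J) = K1 (img τ J) := by
  rw [K1, K1, img_inf h, img_mul h hm, img_top h, img_rann h hm]

theorem img_K2 (h : Semi τ) (hm : IsMul τ) : img τ (K2 J) = K2 (img τ J) := by
  rw [K2, K2, img_inf h, img_mul h hm, img_top h, img_lann h hm]

theorem img_span (h : Semi τ) (s : Set (Matrix (Fin n) (Fin n) F)) :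
    img τ (Submodule.span F s) = Submodule.span F (τ '' s) := by
  apply le_antisymm
  · intro x hx
    obtain ⟨y, hy, rfl⟩ := (mem_img h).1 hx
    clear hx
    obtain ⟨σ, hσ⟩ := h.smul
    induction hy using Submodule.span_induction with
    | mem w hw => exact Submodule.subset_span ⟨w, hw, rfl⟩
    | zero => rw [map_zero]; exact Submodule.zero_mem _
    | add a b _ _ ha hb => rw [map_add]; exact Submodule.add_mem _ ha hb
    | smul c a _ ha => rw [hσ]; exact Submodule.smul_mem _ _ ha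
  · exact Submodule.span_mono (Set.image_mono Submodule.subset_span)

theorem Semi.symm (h : Semi τ) : Semi τ.symm := by
  obtain ⟨⟨σ, hσ⟩, hm⟩ := h
  refine ⟨⟨σ.symm, fun c x => ?_⟩, ?_⟩
  · apply τ.injective
    rw [hσ, AddEquiv.apply_symm_apply, AddEquiv.apply_symm_apply, RingEquiv.apply_symm_apply]
  · rcases hm with hm | hm
    · left
      intro x y
      apply τ.injective
      rw [hm, AddEquiv.apply_symm_apply, AddEquiv.apply_symm_apply, AddEquiv.apply_symm_apply]
    · right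
      intro x y
      apply τ.injective
      rw [hm, AddEquiv.apply_symm_apply, AddEquiv.apply_symm_apply, AddEquiv.apply_symm_apply]

theorem Semi.trans (h : Semi τ) (h' : Semi τ') : Semi (τ.trans τ') := by
  obtain ⟨⟨σ, hσ⟩, hm⟩ := h
  obtain ⟨⟨σ', hσ'⟩, hm'⟩ := h'
  refine ⟨⟨σ.trans σ', fun c x => ?_⟩, ?_⟩
  · rw [AddEquiv.trans_apply, AddEquiv.trans_apply, hσ, hσ', RingEquiv.trans_apply]
  · rcases hm with hm | hm <;> rcases hm' with hm' | hm'
    · left; intro x y
      rw [AddEquiv.trans_apply, AddEquiv.trans_apply, AddEquiv.trans_apply, hm, hm']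
    · right; intro x y
      rw [AddEquiv.trans_apply, AddEquiv.trans_apply, AddEquiv.trans_apply, hm, hm']
    · right; intro x y
      rw [AddEquiv.trans_apply, AddEquiv.trans_apply, AddEquiv.trans_apply, hm, hm']
    · left; intro x y
      rw [AddEquiv.trans_apply, AddEquiv.trans_apply, AddEquiv.trans_apply, hm, hm']

end Cfsg.Agent.H801.Sims
end

-- part: H801/Sims/Grp
section
/-!
# The subspace `JJ X` attached to an `r`-subgroup `X` of `N`, characteristic `r`
-/

set_option autoImplicit false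
set_option linter.unusedVariables false

namespace Cfsg.Agent.H801.Sims

open Matrix Cfsg.Agent.H607.TW Subgroup

universe u

variable {G : Type u} [Group G] {N A C : Subgroup G} {r : ℕ}
  {F : Type} [Field F] {n : ℕ} {K L J Q : Submodule F (Matrix (Fin n) (Fin n) F)}
  {τ τ' : Matrix (Fin n) (Fin n) F ≃+ Matrix (Fin n) (Fin n) F}
  {π : Matrix.SpecialLinearGroup (Fin n) F →* G}

theorem mt_SL (s : Matrix.SpecialLinearGroup (Fin n) F) : _root_.Cfsg.Agent.H607.TW.mt (iSL n F) s = (s : Matrix (Fin n) (Fin n) F) := rfl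

theorem ind_rel {g : G} (h : Ind (iSL n F) π g τ) (s : Matrix.SpecialLinearGroup (Fin n) F) :
    ∃ s' : Matrix.SpecialLinearGroup (Fin n) F, (s' : Matrix (Fin n) (Fin n) F) = τ (s : Matrix (Fin n) (Fin n) F) ∧
      (π s' = g * π s * g⁻¹ ∨ (π s')⁻¹ = g * π s * g⁻¹) := by
  rcases h with ⟨-, h⟩ | ⟨-, h⟩
  · obtain ⟨s', h1, h2⟩ := h s
    exact ⟨s', h1, Or.inl h2⟩
  · obtain ⟨s', h1, h2⟩ := h s
    exact ⟨s', h1, Or.inr h2⟩

theorem exists_lift (hM : Model N (iSL n F) π) (g : G) : ∃ τ, Semi τ ∧ Ind (iSL n F) π g τ := by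
  obtain ⟨B, σ, h | h⟩ := hM.lift g
  · exact ⟨_, tauP_semi B σ, h⟩
  · exact ⟨_, tauM_semi B σ, h⟩

theorem map_pow (h : Semi τ) (x : Matrix (Fin n) (Fin n) F) (m : ℕ) : τ (x ^ m) = τ x ^ m := by
  induction m with
  | zero => rw [pow_zero, pow_zero, h.one]
  | succ m ih =>
    rcases h.mul with hm | hm
    · rw [pow_succ, pow_succ, hm, ih]
    · rw [pow_succ', pow_succ, hm, ih]

theorem ind_comp {g g' : G} (h : Ind (iSL n F) π g τ) (h' : Ind (iSL n F) π g' τ') :
    Ind (iSL n F) π (g' * g) (τ.trans τ') := by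
  rcases h with ⟨hm, h⟩ | ⟨hm, h⟩ <;> rcases h' with ⟨hm', h'⟩ | ⟨hm', h'⟩
  · left
    refine ⟨fun x y => by rw [AddEquiv.trans_apply, AddEquiv.trans_apply, AddEquiv.trans_apply, hm, hm'], fun s => ?_⟩
    obtain ⟨s', h1, h2⟩ := h s
    obtain ⟨s'', h3, h4⟩ := h' s'
    refine ⟨s'', by rw [h3, h1, AddEquiv.trans_apply], by rw [h4, h2]; group⟩
  · right
    refine ⟨fun x y => by rw [AddEquiv.trans_apply, AddEquiv.trans_apply, AddEquiv.trans_apply, hm, hm'], fun s => ?_⟩
    obtain ⟨s', h1, h2⟩ := h s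
    obtain ⟨s'', h3, h4⟩ := h' s'
    refine ⟨s'', by rw [h3, h1, AddEquiv.trans_apply], by rw [h4, h2]; group⟩
  · right
    refine ⟨fun x y => by rw [AddEquiv.trans_apply, AddEquiv.trans_apply, AddEquiv.trans_apply, hm, hm'], fun s => ?_⟩
    obtain ⟨s', h1, h2⟩ := h s
    obtain ⟨s'', h3, h4⟩ := h' s'
    refine ⟨s'', by rw [h3, h1, AddEquiv.trans_apply], ?_⟩
    have h5 : π s' = (g * π s * g⁻¹)⁻¹ := by rw [← h2, inv_inv]
    rw [h4, h5]; group
  · left
    refine ⟨fun x y => by rw [AddEquiv.trans_apply, AddEquiv.trans_apply, AddEquiv.trans_apply, hm, hm'], fun s => ?_⟩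
    obtain ⟨s', h1, h2⟩ := h s
    obtain ⟨s'', h3, h4⟩ := h' s'
    refine ⟨s'', by rw [h3, h1, AddEquiv.trans_apply], ?_⟩
    have h5 : π s' = (g * π s * g⁻¹)⁻¹ := by rw [← h2, inv_inv]
    have h6 : π s'' = (g' * π s' * g'⁻¹)⁻¹ := by rw [← h4, inv_inv]
    rw [h6, h5]; group

/-- surjectivity: the elements of `SL_n` come from elements of `SL_n` -/
theorem ind_surj [Finite F] {P : Matrix.SpecialLinearGroup (Fin n) F → Matrix.SpecialLinearGroup (Fin n) F → Prop}
    (h : ∀ s, ∃ s' : Matrix.SpecialLinearGroup (Fin n) F, _root_.Cfsg.Agent.H607.TW.mt (iSL n F) s' = τ (_root_.Cfsg.Agent.H607.TW.mt (iSL n F) s) ∧ P s s') :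
    ∀ s' : Matrix.SpecialLinearGroup (Fin n) F, ∃ s, _root_.Cfsg.Agent.H607.TW.mt (iSL n F) s' = τ (_root_.Cfsg.Agent.H607.TW.mt (iSL n F) s) ∧ P s s' := by
  choose f hf using h
  have hinj : Function.Injective f := by
    intro a b hab
    apply Subtype.ext
    apply τ.injective
    have h1 := (hf a).1
    have h2 := (hf b).1
    rw [hab] at h1
    exact h1.symm.trans h2
  have hfin : Finite (Matrix.SpecialLinearGroup (Fin n) F) := inferInstance
  intro s'
  obtain ⟨s, rfl⟩ := Finite.surjective_of_injective hinj s'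
  exact ⟨s, hf s⟩

theorem ind_symm [Finite F] {g : G} (h : Ind (iSL n F) π g τ) : Ind (iSL n F) π g⁻¹ τ.symm := by
  rcases h with ⟨hm, h⟩ | ⟨hm, h⟩
  · left
    refine ⟨fun x y => ?_, fun s' => ?_⟩
    · apply τ.injective
      rw [hm, AddEquiv.apply_symm_apply, AddEquiv.apply_symm_apply, AddEquiv.apply_symm_apply]
    · obtain ⟨s, h1, h2⟩ := ind_surj (P := fun s s' => π s' = g * π s * g⁻¹) h s'
      refine ⟨s, ?_, ?_⟩
      · rw [h1, AddEquiv.symm_apply_apply]
      · rw [h2]; group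
  · right
    refine ⟨fun x y => ?_, fun s' => ?_⟩
    · apply τ.injective
      rw [hm, AddEquiv.apply_symm_apply, AddEquiv.apply_symm_apply, AddEquiv.apply_symm_apply]
    · obtain ⟨s, h1, h2⟩ := ind_surj (P := fun s s' => (π s')⁻¹ = g * π s * g⁻¹) h s'
      refine ⟨s, ?_, ?_⟩
      · rw [h1, AddEquiv.symm_apply_apply]
      · have h3 : π s' = (g * π s * g⁻¹)⁻¹ := by rw [← h2, inv_inv]
        rw [h3]; group

/-- conjugation by an element of `SL_n` -/
theorem ind_conj (t : Matrix.SpecialLinearGroup (Fin n) F) : Ind (iSL n F) π (π t) (tauP (iSL n F t) 1) := by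
  left
  refine ⟨tauP_mul _ _, fun s => ⟨t * s * t⁻¹, ?_, ?_⟩⟩
  · rw [tauP_apply]
    change ((t * s * t⁻¹ : Matrix.SpecialLinearGroup (Fin n) F) : Matrix (Fin n) (Fin n) F) =
      (t : Matrix (Fin n) (Fin n) F) * (s : Matrix (Fin n) (Fin n) F) *
        ((t⁻¹ : Matrix.SpecialLinearGroup (Fin n) F) : Matrix (Fin n) (Fin n) F)
    rw [Matrix.SpecialLinearGroup.coe_mul, Matrix.SpecialLinearGroup.coe_mul]
  · rw [map_mul, map_mul, map_inv]

theorem tauP_conj (t : Matrix.SpecialLinearGroup (Fin n) F) (x : Matrix (Fin n) (Fin n) F) :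
    tauP (iSL n F t) 1 x = (t : Matrix (Fin n) (Fin n) F) * x * ((t⁻¹ : Matrix.SpecialLinearGroup (Fin n) F) : Matrix (Fin n) (Fin n) F) := by
  rw [tauP_apply, ← map_inv]
  rfl

/-- the `r`-elements over `X` -/
def Xh (π : Matrix.SpecialLinearGroup (Fin n) F →* G) (X : Subgroup G) (r : ℕ) :
    Set (Matrix.SpecialLinearGroup (Fin n) F) := {s | π s ∈ X ∧ ∃ k : ℕ, s ^ r ^ k = 1}

/-- the span of the `s - 1` -/
def JJ (π : Matrix.SpecialLinearGroup (Fin n) F →* G) (X : Subgroup G) (r : ℕ) :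
    Submodule F (Matrix (Fin n) (Fin n) F) :=
  Submodule.span F {x | ∃ s ∈ Xh π X r, x = (s : Matrix (Fin n) (Fin n) F) - 1}

theorem JJ_mono {X Y : Subgroup G} (h : X ≤ Y) : JJ π X r ≤ JJ π Y r := by
  apply Submodule.span_mono
  rintro _ ⟨s, hs, rfl⟩
  exact ⟨s, ⟨h hs.1, hs.2⟩, rfl⟩

theorem mem_Xh_of {g : G} {X : Subgroup G} (h : Semi τ) {s s' : Matrix.SpecialLinearGroup (Fin n) F}
    (hs : s ∈ Xh π X r) (h1 : (s' : Matrix (Fin n) (Fin n) F) = τ (s : Matrix (Fin n) (Fin n) F))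
    (h2 : π s' = g * π s * g⁻¹ ∨ (π s')⁻¹ = g * π s * g⁻¹) : s' ∈ Xh π (X.map (MulAut.conj g).toMonoidHom) r := by
  obtain ⟨hsX, k, hk⟩ := hs
  refine ⟨?_, k, ?_⟩
  · have h3 : g * π s * g⁻¹ ∈ X.map (MulAut.conj g).toMonoidHom := ⟨π s, hsX, rfl⟩
    rcases h2 with h2 | h2
    · rw [h2]; exact h3
    · rw [← h2] at h3; exact (inv_mem_iff (H := X.map (MulAut.conj g).toMonoidHom)).1 h3
  · apply Subtype.ext
    rw [Matrix.SpecialLinearGroup.coe_pow, Matrix.SpecialLinearGroup.coe_one, h1, ← map_pow h,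
      ← Matrix.SpecialLinearGroup.coe_pow, hk, Matrix.SpecialLinearGroup.coe_one, h.one]

theorem img_JJ_le {g : G} {X : Subgroup G} (h : Semi τ) (hi : Ind (iSL n F) π g τ) :
    img τ (JJ π X r) ≤ JJ π (X.map (MulAut.conj g).toMonoidHom) r := by
  rw [JJ, img_span h]
  apply Submodule.span_mono
  rintro _ ⟨_, ⟨s, hs, rfl⟩, rfl⟩
  obtain ⟨s', h1, h2⟩ := ind_rel hi s
  refine ⟨s', mem_Xh_of h hs h1 h2, ?_⟩
  rw [map_sub, h.one, h1]

theorem img_JJ [Finite F] {g : G} {X : Subgroup G} (h : Semi τ) (hi : Ind (iSL n F) π g τ) :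
    img τ (JJ π X r) = JJ π (X.map (MulAut.conj g).toMonoidHom) r := by
  apply eq_of_card (img_JJ_le h hi)
  apply le_antisymm
  · have : Finite ↥(JJ π (X.map (MulAut.conj g).toMonoidHom) r) := inferInstance
    exact Nat.card_mono (Set.toFinite _) (img_JJ_le h hi)
  · rw [card_img h, ← card_img (K := JJ π (X.map (MulAut.conj g).toMonoidHom) r) h.symm]
    have h1 : (X.map (MulAut.conj g).toMonoidHom).map (MulAut.conj g⁻¹).toMonoidHom = X := by
      rw [Subgroup.map_map]
      convert Subgroup.map_id X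
      ext x
      simp only [mul_assoc, _root_.map_inv, _root_.MulEquiv.toMonoidHom_eq_coe, _root_.MonoidHom.coe_comp, _root_.MonoidHom.coe_coe, _root_.MulAut.coe_inv, _root_.Function.comp_apply, _root_.MulAut.conj_apply, _root_.MulAut.conj_symm_apply, _root_.inv_mul_cancel_left, _root_.inv_mul_cancel, _root_.mul_one, _root_.MonoidHom.id_apply]
    have h2 := img_JJ_le (r := r) (X := X.map (MulAut.conj g).toMonoidHom) h.symm (ind_symm hi)
    rw [h1] at h2
    exact Nat.card_mono (Set.toFinite _) h2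

theorem map_conj_of_norm [Finite G] {X : Subgroup G} (hX : A ≤ normalizer (X : Set G)) {a : G} (ha : a ∈ A) :
    X.map (MulAut.conj a).toMonoidHom = X := by
  apply Subgroup.eq_of_le_of_card_ge
  · rintro _ ⟨x, hx, rfl⟩
    exact conj_mem_of_norm hX ha hx
  · rw [Subgroup.card_map_of_injective (MulAut.conj a).injective]

theorem img_JJ_of_norm [Finite F] [Finite G] {X : Subgroup G} (hX : A ≤ normalizer (X : Set G)) {a : G} (ha : a ∈ A) (h : Semi τ)
    (hi : Ind (iSL n F) π a τ) : img τ (JJ π X r) = JJ π X r := by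
  rw [img_JJ h hi, map_conj_of_norm hX ha]

/-- the stabilizer contains the preimage of `A` -/
theorem le_St (hinv : ∀ a ∈ A, ∀ τ, Semi τ → Ind (iSL n F) π a τ → img τ K = K) : A.comap π ≤ St K := by
  intro s hs
  have h1 := hinv (π s) hs _ (tauP_semi (iSL n F s) 1) (ind_conj s)
  intro x
  rw [← tauP_conj, ← mem_img' (K := K) (tauP_semi (iSL n F s) 1) (x := x), h1]

theorem St_ne_top (hM : Model N (iSL n F) π) (hK : Inn K) : St K ≠ ⊤ := by
  intro h
  have h1 : ∀ x : Matrix (Fin n) (Fin n) F, ∀ m ∈ U K, x *ᵥ m ∈ U K := by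
    intro x m hm
    have hx : x ∈ Submodule.span F (Set.range (_root_.Cfsg.Agent.H607.TW.mt (iSL n F))) := by rw [hM.span]; trivial
    induction hx using Submodule.span_induction with
    | mem w hw =>
      obtain ⟨s, rfl⟩ := hw
      exact inv_U s (by rw [h]; trivial) m hm
    | zero => rw [zero_mulVec]; exact (U K).zero_mem
    | add a b _ _ ha hb => rw [add_mulVec]; exact (U K).add_mem ha hb
    | smul c a _ ha => rw [smul_mulVec]; exact (U K).smul_mem c ha
  obtain ⟨m, hm, hm0⟩ := (U K).ne_bot_iff.1 hK.U_ne_bot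
  obtain ⟨φ, -, hφ⟩ := exists_sep (⊥ : Submodule F (Fin n → F)) (v := m) hm0
  apply hK.An_ne_top
  rw [eq_top_iff]
  intro v _
  apply hK.U_le
  have := h1 (vecMulVec v φ) m hm
  rwa [vm_mulVec, hφ, one_smul] at this

/-- the preimage of `A` is the stabilizer of every invariant square-zero inner ideal -/
theorem comap_eq_St [Finite G] [Finite F] (h : Loc N A r) (hM : Model N (iSL n F) π) (hK : Inn K)
    (hinv : ∀ a ∈ A, ∀ τ, Semi τ → Ind (iSL n F) π a τ → img τ K = K) : A.comap π = St K := by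
  apply le_antisymm (le_St hinv)
  rw [← Subgroup.map_le_iff_le_comap]
  apply h.le_of_norm'
  · rw [← hM.range]
    exact Subgroup.map_le_range _ _
  · intro hN
    apply St_ne_top hM hK
    rw [eq_top_iff]
    intro s _
    have h1 : π s ∈ (St K).map π := by rw [hN, ← hM.range]; exact ⟨s, rfl⟩
    obtain ⟨t, ht, hts⟩ := h1
    have h2 : π (t⁻¹ * s) = 1 := by rw [map_mul, map_inv, hts, inv_mul_cancel]
    obtain ⟨c, hc⟩ := (hM.ker _).1 h2
    have h3 : t⁻¹ * s ∈ St K := by
      have h4 : ∀ x : Matrix (Fin n) (Fin n) F, ((t⁻¹ * s : Matrix.SpecialLinearGroup (Fin n) F) : Matrix (Fin n) (Fin n) F) * x *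
          (((t⁻¹ * s)⁻¹ : Matrix.SpecialLinearGroup (Fin n) F) : Matrix (Fin n) (Fin n) F) = x := by
        intro x
        have h5 : ((t⁻¹ * s : Matrix.SpecialLinearGroup (Fin n) F) : Matrix (Fin n) (Fin n) F) * x =
            x * ((t⁻¹ * s : Matrix.SpecialLinearGroup (Fin n) F) : Matrix (Fin n) (Fin n) F) := by
          rw [← mt_SL, hc, smul_mul_assoc, one_mul, mul_smul_comm, mul_one]
        rw [h5, mul_assoc, sl_mul_inv, mul_one]
      intro x
      rw [h4]
    have := (St K).mul_mem ht h3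
    rwa [mul_inv_cancel_left] at this
  · apply le_normalizer_of_conj
    rintro a ha _ ⟨s, hs, rfl⟩
    obtain ⟨τ, hτ, hi⟩ := exists_lift hM a
    obtain ⟨s', h1, h2⟩ := ind_rel hi s
    have hK' := hinv a ha τ hτ hi
    have h3 : s' ∈ St K := by
      have h4 : τ (s : Matrix (Fin n) (Fin n) F) * τ ((s⁻¹ : Matrix.SpecialLinearGroup (Fin n) F) : Matrix (Fin n) (Fin n) F) = 1 := by
        rcases hτ.mul with hm | hm
        · rw [← hm, sl_mul_inv, hτ.one]
        · rw [← hm, sl_inv_mul, hτ.one]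
      have h5 : ((s'⁻¹ : Matrix.SpecialLinearGroup (Fin n) F) : Matrix (Fin n) (Fin n) F) =
          τ ((s⁻¹ : Matrix.SpecialLinearGroup (Fin n) F) : Matrix (Fin n) (Fin n) F) := by
        calc ((s'⁻¹ : Matrix.SpecialLinearGroup (Fin n) F) : Matrix (Fin n) (Fin n) F)
            = ((s'⁻¹ : Matrix.SpecialLinearGroup (Fin n) F) : Matrix (Fin n) (Fin n) F) *
              (τ (s : Matrix (Fin n) (Fin n) F) * τ ((s⁻¹ : Matrix.SpecialLinearGroup (Fin n) F) : Matrix (Fin n) (Fin n) F)) := by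
              rw [h4, mul_one]
          _ = _ := by rw [← h1, ← mul_assoc, sl_inv_mul, one_mul]
      have hs' := (St K).inv_mem hs
      apply mem_St_of
      · intro x hx
        rw [← hK', mem_img hτ] at hx
        obtain ⟨y, hy, rfl⟩ := hx
        rw [h1, h5, ← hK']
        rcases hτ.mul with hm | hm
        · rw [← hm, ← hm, mem_img' hτ]
          exact (hs y).2 hy
        · rw [← hm, ← hm, mem_img' hτ, ← mul_assoc]
          have := (hs' y).2 hy
          rwa [inv_inv] at this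
      · intro x hx
        rw [← hK', mem_img hτ] at hx
        obtain ⟨y, hy, rfl⟩ := hx
        rw [h1, h5, ← hK']
        rcases hτ.mul with hm | hm
        · rw [← hm, ← hm, mem_img' hτ]
          have := (hs' y).2 hy
          rwa [inv_inv] at this
        · rw [← hm, ← hm, mem_img' hτ, ← mul_assoc]
          exact (hs y).2 hy
    rcases h2 with h2 | h2
    · rw [← h2]; exact ⟨s', h3, rfl⟩
    · rw [← h2]; exact (Subgroup.inv_mem _ ⟨s', h3, rfl⟩)

end Cfsg.Agent.H801.Sims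
end

-- part: H801/Sims/Chr
section
/-!
# Characteristic `r`: the `r`-subgroups of `N` lift to unipotent subgroups, and `KK (JJ X) ≠ 0`
-/

set_option autoImplicit false
set_option linter.unusedVariables false

namespace Cfsg.Agent.H801.Sims

open Matrix Cfsg.Agent.H607.TW Subgroup

universe u

variable {G : Type u} [Group G] {N A C : Subgroup G} {r : ℕ}
  {F : Type} [Field F] {n : ℕ} {K L J Q : Submodule F (Matrix (Fin n) (Fin n) F)}
  {τ τ' : Matrix (Fin n) (Fin n) F ≃+ Matrix (Fin n) (Fin n) F}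
  {π : Matrix.SpecialLinearGroup (Fin n) F →* G}

theorem ker_central (hM : Model N (iSL n F) π) {s t : Matrix.SpecialLinearGroup (Fin n) F} (hs : π s = 1) : s * t = t * s := by
  obtain ⟨c, hc⟩ := (hM.ker s).1 hs
  apply Subtype.ext
  change (s : Matrix (Fin n) (Fin n) F) * (t : Matrix (Fin n) (Fin n) F) = (t : Matrix (Fin n) (Fin n) F) * (s : Matrix (Fin n) (Fin n) F)
  rw [← mt_SL s, hc, smul_mul_assoc, one_mul, mul_smul_comm, mul_one]

/-- the `r`-elements over an `r`-subgroup `X` of `N` form a subgroup mapping onto `X` -/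
theorem exists_P [Finite G] [Finite F] [Fact r.Prime] (hM : Model N (iSL n F) π) {X : Subgroup G} (hX : IsPGroup r ↥X)
    (hXN : X ≤ N) : ∃ P : Subgroup (Matrix.SpecialLinearGroup (Fin n) F), IsPGroup r ↥P ∧ (∀ s, s ∈ P ↔ s ∈ Xh π X r) ∧
      P.map π = X := by
  have hfin : Finite (Matrix.SpecialLinearGroup (Fin n) F) := inferInstance
  set Y := X.comap π with hY
  let f : ↥Y →* ↥X := π.subgroupComap X
  have hf : Function.Surjective f := by
    rintro ⟨x, hx⟩
    have : x ∈ π.range := by rw [hM.range]; exact hXN hx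
    obtain ⟨s, hs⟩ := this
    exact ⟨⟨s, by rw [hY, mem_comap, hs]; exact hx⟩, Subtype.ext hs⟩
  have hX' : Group.IsNilpotent ↥X := hX.isNilpotent
  have hY' : Group.IsNilpotent ↥Y := by
    refine Subgroup.isNilpotent_of_ker_le_center f ?_
    intro s hs
    rw [mem_center_iff]
    intro t
    apply Subtype.ext
    have h1 : π (s : Matrix.SpecialLinearGroup (Fin n) F) = 1 := congrArg Subtype.val hs
    exact (ker_central hM h1).symm
  let P₀ : Sylow r ↥Y := default
  have hP₀ : (P₀ : Subgroup ↥Y).Normal := inferInstance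
  refine ⟨(P₀ : Subgroup ↥Y).map Y.subtype, P₀.2.map _, fun s => ⟨?_, ?_⟩, ?_⟩
  · rintro ⟨⟨s, hs⟩, hsP, rfl⟩
    obtain ⟨k, hk⟩ := P₀.2 ⟨_, hsP⟩
    refine ⟨hs, k, ?_⟩
    have := congrArg (fun x => ((x : ↥Y) : Matrix.SpecialLinearGroup (Fin n) F)) (congrArg Subtype.val hk)
    simpa only [_root_.Subgroup.subtype_apply, _root_.SubmonoidClass.mk_pow, _root_.OneMemClass.coe_one] using this
  · rintro ⟨hs, k, hk⟩
    refine ⟨⟨s, hs⟩, ?_, rfl⟩
    have h1 : IsPGroup r ↥(zpowers (⟨s, hs⟩ : ↥Y)) := by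
      rw [IsPGroup.iff_orderOf]
      rintro ⟨x, hx⟩
      have h2 : orderOf x ∣ r ^ k := by
        obtain ⟨j, rfl⟩ := mem_zpowers_iff.1 hx
        apply orderOf_dvd_of_pow_eq_one
        apply Subtype.ext
        push_cast
        rw [← zpow_natCast, ← _root_.zpow_mul, mul_comm, _root_.zpow_mul, zpow_natCast, hk, _root_.one_zpow]
      obtain ⟨m, -, hm⟩ := (Nat.dvd_prime_pow (Fact.out : r.Prime)).1 h2
      exact ⟨m, by rw [Subgroup.orderOf_mk, hm]⟩
    have h2 : IsPGroup r ↥((P₀ : Subgroup ↥Y) ⊔ zpowers (⟨s, hs⟩ : ↥Y)) := P₀.2.to_sup_of_normal_left h1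
    have h3 := P₀.3 h2 le_sup_left
    have h4 : (⟨s, hs⟩ : ↥Y) ∈ (P₀ : Subgroup ↥Y) ⊔ zpowers (⟨s, hs⟩ : ↥Y) :=
      mem_sup_right (mem_zpowers _)
    rw [h3] at h4
    exact h4
  · have h1 : ((P₀.mapSurjective hf : Sylow r ↥X) : Subgroup ↥X) = ⊤ := by
      have := (P₀.mapSurjective hf).3 (Q := ⊤) (by
        intro x
        obtain ⟨k, hk⟩ := hX (x : ↥X)
        exact ⟨k, Subtype.ext hk⟩) le_top
      exact this.symm
    rw [Sylow.coe_mapSurjective] at h1
    ext x
    constructor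
    · rintro ⟨_, ⟨s, hs, rfl⟩, rfl⟩
      exact s.2
    · intro hx
      have h2 : (⟨x, hx⟩ : ↥X) ∈ (P₀ : Subgroup ↥Y).map f := by rw [h1]; trivial
      obtain ⟨s, hs, hsx⟩ := h2
      exact ⟨s, ⟨s, hs, rfl⟩, congrArg Subtype.val hsx⟩

theorem JJ_mul_mem {s : Matrix.SpecialLinearGroup (Fin n) F} {X : Subgroup G} (hs : s ∈ Xh π X r) :
    (s : Matrix (Fin n) (Fin n) F) - 1 ∈ JJ π X r := Submodule.subset_span ⟨s, hs, rfl⟩

theorem JJ_ne_bot [Finite G] [Finite F] [Fact r.Prime] (hM : Model N (iSL n F) π) {X : Subgroup G} (hX : IsPGroup r ↥X)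
    (hXN : X ≤ N) (hne : X ≠ ⊥) : JJ π X r ≠ ⊥ := by
  obtain ⟨P, hP, hPm, hPX⟩ := exists_P hM hX hXN
  obtain ⟨⟨x, hx⟩, hx1'⟩ := X.ne_bot_iff_exists_ne_one.1 hne
  have hx1 : x ≠ 1 := fun h => hx1' (Subtype.ext h)
  have hx' := hx
  rw [← hPX] at hx'
  obtain ⟨s, hs, rfl⟩ := hx'
  rw [Submodule.ne_bot_iff]
  refine ⟨_, JJ_mul_mem ((hPm s).1 hs), fun h => hx1 ?_⟩
  have : s = 1 := Subtype.ext (sub_eq_zero.1 h)
  rw [this, map_one]

/-- the fixed point theorem for a group of matrices `P` acting on a right ideal -/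
theorem exists_fixed [Finite F] [Fact r.Prime] (hr : r ∣ Nat.card F) {P : Subgroup (Matrix.SpecialLinearGroup (Fin n) F)}
    (hP : IsPGroup r ↥P) {I : Submodule F (Matrix (Fin n) (Fin n) F)} (hI : I ≠ ⊥)
    (f : ↥P →* (Matrix (Fin n) (Fin n) F →ₗ[F] Matrix (Fin n) (Fin n) F)) (hf : ∀ s x, x ∈ I → f s x ∈ I) :
    ∃ x ∈ I, x ≠ 0 ∧ ∀ s, f s x = x := by
  let _ : MulAction ↥P ↥I :=
    { smul := fun s x => ⟨f s x, hf s x x.2⟩
      one_smul := fun x => Subtype.ext (by
        change f 1 (x : Matrix (Fin n) (Fin n) F) = x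
        rw [map_one]; rfl)
      mul_smul := fun s t x => Subtype.ext (by
        change f (s * t) (x : Matrix (Fin n) (Fin n) F) = f s (f t x)
        rw [map_mul]; rfl) }
  have hsm : ∀ (s : ↥P) (x : ↥I), ((s • x : ↥I) : Matrix (Fin n) (Fin n) F) = f s x := fun _ _ => rfl
  have hc : r ∣ Nat.card ↥I := by
    have h1 : Nat.card ↥I = Nat.card F ^ Module.finrank F ↥I := Module.natCard_eq_pow_finrank
    rw [h1]
    apply dvd_pow hr
    intro h0
    exact hI (Submodule.finrank_eq_zero.1 h0)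
  have h0 : (0 : ↥I) ∈ MulAction.fixedPoints ↥P ↥I := by
    intro s
    apply Subtype.ext
    rw [hsm]
    exact map_zero _
  obtain ⟨b, hb, hb0⟩ := hP.exists_fixed_point_of_prime_dvd_card_of_fixed_point ↥I hc h0
  refine ⟨b, b.2, fun h => hb0 (Subtype.ext h.symm), fun s => ?_⟩
  have := congrArg Subtype.val (hb s)
  rwa [hsm] at this

theorem KK_ne_bot [Finite G] [Finite F] [Fact r.Prime] (hr : r ∣ Nat.card F) (hM : Model N (iSL n F) π) {X : Subgroup G}
    (hX : IsPGroup r ↥X) (hXN : X ≤ N) (hne : X ≠ ⊥) : KK (JJ π X r) ≠ ⊥ := by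
  obtain ⟨P, hP, hPm, hPX⟩ := exists_P hM hX hXN
  have hJ := JJ_ne_bot hM hX hXN hne
  set J := JJ π X r with hJdef
  -- left multiplication
  have hJT : J * ⊤ ≠ ⊥ := fun h => hJ (le_bot_iff.1 (h ▸ le_mul_top J))
  have hTJ : ⊤ * J ≠ ⊥ := fun h => hJ (le_bot_iff.1 (h ▸ le_top_mul J))
  let fl : ↥P →* (Matrix (Fin n) (Fin n) F →ₗ[F] Matrix (Fin n) (Fin n) F) :=
    { toFun := fun s => LinearMap.mulLeft F ((s : Matrix.SpecialLinearGroup (Fin n) F) : Matrix (Fin n) (Fin n) F)
      map_one' := by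
        ext x
        simp only [_root_.OneMemClass.coe_one, _root_.Matrix.SpecialLinearGroup.coe_one, _root_.LinearMap.mulLeft_one, _root_.LinearMap.id_coe, _root_.id_eq, _root_.Module.End.one_apply]
      map_mul' := fun s t => by
        apply LinearMap.ext
        intro x
        change (((s * t : ↥P) : Matrix.SpecialLinearGroup (Fin n) F) : Matrix (Fin n) (Fin n) F) * x = _ * (_ * x)
        rw [← mul_assoc]
        rfl }
  let fr : ↥P →* (Matrix (Fin n) (Fin n) F →ₗ[F] Matrix (Fin n) (Fin n) F) :=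
    { toFun := fun s => LinearMap.mulRight F ((s⁻¹ : Matrix.SpecialLinearGroup (Fin n) F) : Matrix (Fin n) (Fin n) F)
      map_one' := by
        ext x
        simp only [_root_.OneMemClass.coe_one, _root_.inv_one, _root_.Matrix.SpecialLinearGroup.coe_one, _root_.LinearMap.mulRight_one, _root_.LinearMap.id_coe, _root_.id_eq, _root_.Module.End.one_apply]
      map_mul' := fun s t => by
        apply LinearMap.ext
        intro x
        change x * ((((s * t : ↥P) : Matrix.SpecialLinearGroup (Fin n) F)⁻¹ : Matrix.SpecialLinearGroup (Fin n) F) : Matrix (Fin n) (Fin n) F) =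
          (x * _) * _
        rw [mul_assoc, Subgroup.coe_mul, _root_.mul_inv_rev, Matrix.SpecialLinearGroup.coe_mul] }
  obtain ⟨x₀, hx₀, hx₀0, hx₀f⟩ := exists_fixed hr hP hJT fl (by
    intro s x hx
    change ((s : Matrix.SpecialLinearGroup (Fin n) F) : Matrix (Fin n) (Fin n) F) * x ∈ _
    have h1 : (((s : Matrix.SpecialLinearGroup (Fin n) F) : Matrix (Fin n) (Fin n) F) - 1) * x ∈ J * ⊤ :=
      Submodule.mul_mem_mul (JJ_mul_mem ((hPm _).1 s.2)) trivial
    have h2 := Submodule.add_mem _ h1 hx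
    rwa [sub_mul, one_mul, sub_add_cancel] at h2)
  obtain ⟨y₀, hy₀, hy₀0, hy₀f⟩ := exists_fixed hr hP hTJ fr (by
    intro s x hx
    change x * ((s⁻¹ : Matrix.SpecialLinearGroup (Fin n) F) : Matrix (Fin n) (Fin n) F) ∈ _
    have h1 : x * (((s⁻¹ : Matrix.SpecialLinearGroup (Fin n) F) : Matrix (Fin n) (Fin n) F) - 1) ∈ ⊤ * J :=
      Submodule.mul_mem_mul trivial (JJ_mul_mem ((hPm _).1 (P.inv_mem s.2)))
    have h2 := Submodule.add_mem _ h1 hx
    rwa [mul_sub, mul_one, sub_add_cancel] at h2)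
  have hxr : x₀ ∈ rann J := by
    intro y hy
    rw [hJdef] at hy
    induction hy using Submodule.span_induction with
    | mem w hw =>
      obtain ⟨s, hs, rfl⟩ := hw
      have := hx₀f ⟨s, (hPm s).2 hs⟩
      change (s : Matrix (Fin n) (Fin n) F) * x₀ = x₀ at this
      rw [sub_mul, one_mul, this, sub_self]
    | zero => rw [zero_mul]
    | add a b _ _ ha hb => rw [add_mul, ha, hb, add_zero]
    | smul c a _ ha => rw [smul_mul_assoc, ha, smul_zero]
  have hyl : y₀ ∈ lann J := by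
    intro y hy
    rw [hJdef] at hy
    induction hy using Submodule.span_induction with
    | mem w hw =>
      obtain ⟨s, hs, rfl⟩ := hw
      have h1 := hy₀f ⟨s⁻¹, P.inv_mem ((hPm s).2 hs)⟩
      change y₀ * (((s⁻¹)⁻¹ : Matrix.SpecialLinearGroup (Fin n) F) : Matrix (Fin n) (Fin n) F) = y₀ at h1
      rw [inv_inv] at h1
      rw [mul_sub, mul_one, h1, sub_self]
    | zero => rw [mul_zero]
    | add a b _ _ ha hb => rw [mul_add, ha, hb, add_zero]
    | smul c a _ ha => rw [mul_smul_comm, ha, smul_zero]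
  -- `x₀ z y₀ ≠ 0` for some `z`
  obtain ⟨a, b, hab⟩ : ∃ a b, x₀ a b ≠ 0 := by
    by_contra hcon
    push Not at hcon
    exact hx₀0 (by ext a b; exact hcon a b)
  obtain ⟨c, d, hcd⟩ : ∃ a b, y₀ a b ≠ 0 := by
    by_contra hcon
    push Not at hcon
    exact hy₀0 (by ext a b; exact hcon a b)
  rw [Submodule.ne_bot_iff]
  refine ⟨x₀ * vecMulVec (Pi.single b 1) (Pi.single c 1) * y₀, ?_, ?_⟩
  · refine ⟨⟨⟨?_, ?_⟩, ?_⟩, ?_⟩
    · have h1 : x₀ * vecMulVec (Pi.single b 1) (Pi.single c 1) * y₀ ∈ J * ⊤ * ⊤ :=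
        Submodule.mul_mem_mul (by
          have := Submodule.mul_mem_mul hx₀ (Submodule.mem_top (x := vecMulVec (Pi.single b (1 : F)) (Pi.single c (1 : F))) (R := F))
          rw [mul_assoc] at this
          exact (mmr le_top) this) trivial
      rw [mul_assoc] at h1
      exact (mmr le_top) h1
    · have h1 : x₀ * vecMulVec (Pi.single b 1) (Pi.single c 1) * y₀ ∈ ⊤ * (⊤ * J) :=
        Submodule.mul_mem_mul trivial hy₀
      rw [← mul_assoc] at h1
      exact (mml le_top) h1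
    · intro y hy
      rw [← mul_assoc, ← mul_assoc, hxr y hy, zero_mul, zero_mul]
    · intro y hy
      rw [mul_assoc, hyl y hy, mul_zero]
  · intro h0
    have h1 := congrFun (congrFun h0 a) d
    rw [mul_vecMulVec, vecMulVec_mul, vecMulVec_apply, single_one_vecMul, mulVec_single_one, Matrix.zero_apply] at h1
    rcases mul_eq_zero.1 h1 with h2 | h2
    · exact hab h2
    · exact hcd h2

end Cfsg.Agent.H801.Sims
end

-- part: H801/Sims/Cent
section
/-!
# `C_G(A ∩ N) ≤ N` and `O_r(A) ∩ N ≠ 1` in characteristic `r`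
-/

set_option autoImplicit false
set_option linter.unusedVariables false

namespace Cfsg.Agent.H801.Sims

open Matrix Cfsg.Agent.H607.TW Subgroup

universe u

variable {G : Type u} [Group G] {N A C : Subgroup G} {r : ℕ}
  {F : Type} [Field F] {n : ℕ} {K L J Q : Submodule F (Matrix (Fin n) (Fin n) F)}
  {τ τ' : Matrix (Fin n) (Fin n) F ≃+ Matrix (Fin n) (Fin n) F}
  {π : Matrix.SpecialLinearGroup (Fin n) F →* G}

theorem charP_of_dvd [Finite F] (hp : r.Prime) (hr : r ∣ Nat.card F) : CharP F r := by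
  have := Fintype.ofFinite F
  obtain ⟨p, hchar⟩ := CharP.exists F
  obtain ⟨m, hprime, hcard⟩ := FiniteField.card F p
  rw [Nat.card_eq_fintype_card, hcard] at hr
  have := (Nat.prime_dvd_prime_iff_eq hp hprime).1 (hp.dvd_of_dvd_pow hr)
  rw [this]
  exact hchar

theorem one_add_pow [Fact r.Prime] [CharP F r] {y : Matrix (Fin n) (Fin n) F} (hy : y * y = 0) : (1 + y) ^ r = 1 := by
  have hr := (Fact.out : r.Prime)
  have h1 : (1 + y) ^ r = 1 ^ r + y ^ r := by
    rcases Nat.eq_zero_or_pos n with rfl | hn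
    · exact Subsingleton.elim _ _
    · have : Nonempty (Fin n) := ⟨⟨0, hn⟩⟩
      have : CharP (Matrix (Fin n) (Fin n) F) r := inferInstance
      exact add_pow_char_of_commute (R := Matrix (Fin n) (Fin n) F) (p := r) (Commute.one_left y)
  have h2 : y ^ r = 0 := by
    obtain ⟨m, hm⟩ := Nat.exists_eq_add_of_le hr.two_le
    rw [hm, pow_add, pow_two, hy, zero_mul]
  rw [h1, h2, one_pow, add_zero]

theorem det_one_add [Fact r.Prime] [CharP F r] {y : Matrix (Fin n) (Fin n) F} (hy : y * y = 0) : (1 + y).det = 1 := by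
  have h1 := congrArg Matrix.det (one_add_pow (r := r) hy)
  rw [det_pow, det_one] at h1
  have h2 : ((1 + y).det - 1) ^ r = 0 := by
    rw [sub_pow_char, h1, one_pow, sub_self]
  exact sub_eq_zero.1 (pow_eq_zero_iff (Fact.out : r.Prime).ne_zero |>.1 h2)

theorem vm_sq {u φ : Fin n → F} (h : φ ⬝ᵥ u = 0) : vecMulVec u φ * vecMulVec u φ = 0 := by
  rw [vm_mul_vm, h, zero_smul]

/-- `r` divides the order of `N` -/
theorem dvd_card_N [Finite G] [Fact r.Prime] [CharP F r] (hM : Model N (iSL n F) π) : r ∣ Nat.card ↥N := by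
  have h2 := hM.two
  set a : Fin n := ⟨0, by omega⟩
  set b : Fin n := ⟨1, by omega⟩
  have hab : b ≠ a := by
    intro h
    have := congrArg Fin.val h
    simp [a, b] at this
  have h0 : (Pi.single b (1 : F) : Fin n → F) ⬝ᵥ Pi.single a 1 = 0 := by
    rw [dotProduct_single, Pi.single_eq_of_ne hab.symm, zero_mul]
  set t := tv (Pi.single a (1 : F)) (Pi.single b 1) h0 with ht
  have htr : t ^ r = 1 := by
    apply Subtype.ext
    rw [Matrix.SpecialLinearGroup.coe_pow, ht, coe_tv, one_add_pow (vm_sq h0), Matrix.SpecialLinearGroup.coe_one]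
  have hx : π t ∈ N := by rw [← hM.range]; exact ⟨t, rfl⟩
  have hx1 : π t ≠ 1 := by
    intro h
    obtain ⟨c, hc⟩ := (hM.ker t).1 h
    have h3 := congrFun (congrFun hc a) b
    rw [mt_SL, ht, coe_tv] at h3
    simp only [Matrix.add_apply, Matrix.smul_apply, Matrix.one_apply_ne hab.symm, vecMulVec_apply, Pi.single_eq_same,
      smul_eq_mul, mul_zero, zero_add, mul_one] at h3
    exact one_ne_zero h3
  have h4 : orderOf (⟨π t, hx⟩ : ↥N) = r := by
    apply orderOf_eq_prime
    · apply Subtype.ext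
      change π t ^ r = 1
      rw [← _root_.map_pow, htr, map_one]
    · intro h
      exact hx1 (congrArg Subtype.val h)
  rw [← h4]
  exact _root_.orderOf_dvd_natCard _

theorem OO_inf_ne_bot [Finite G] [Finite F] (h : Loc N A r) (hr : r ∣ Nat.card F) (hM : Model N (iSL n F) π)
    (hA : A ≠ ⊥) : OO r A ⊓ N ≠ ⊥ := by
  intro h0
  have := h.fact
  have := charP_of_dvd h.prime hr
  have hN := h.normal
  -- `A ∩ N = 1`
  have hAN : A ⊓ N = ⊥ := by
    rw [eq_bot_iff]
    rintro y ⟨hyA, hyN⟩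
    have h1 : y ∈ OO r A := by
      apply h.mem_OO_of_comm hyA
      intro x hx
      have h2 : y * x * y⁻¹ * x⁻¹ ∈ OO r A ⊓ N := by
        refine mem_inf.2 ⟨(OO r A).mul_mem (conj_mem_OO hyA hx) ((OO r A).inv_mem hx), ?_⟩
        have h3 : x * y⁻¹ * x⁻¹ ∈ N := hN.conj_mem _ (N.inv_mem hyN) x
        have := N.mul_mem hyN h3
        simpa only [mul_assoc] using this
      rw [h0, mem_bot] at h2
      have := mul_inv_eq_one.1 h2
      exact mul_inv_eq_iff_eq_mul.1 this
    rw [← h0]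
    exact ⟨h1, hyN⟩
  have hQ := h.OO_ne_bot hA
  -- `C_N(Q) = 1`
  have hC : N ⊓ centralizer (OO r A : Set G) = ⊥ := by
    rw [eq_bot_iff, ← hAN]
    have h1 : N ⊓ centralizer (OO r A : Set G) ≤ A := by
      apply h.le_of_norm' inf_le_left
      · intro h2
        apply hQ
        rw [eq_bot_iff]
        intro x hx
        rw [mem_bot]
        apply h.eq_one_of_comm
        intro y hy
        rw [← h2] at hy
        exact (mem_centralizer_iff.1 hy.2 x hx)
      · apply le_normalizer_of_conj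
        rintro a ha x ⟨hxN, hxc⟩
        refine mem_inf.2 ⟨hN.conj_mem _ hxN a, ?_⟩
        rw [mem_centralizer_iff]
        intro y hy
        have h3 : a⁻¹ * y * a ∈ OO r A := by
          have := conj_mem_OO (A.inv_mem ha) hy
          rwa [inv_inv] at this
        have h4 := mem_centralizer_iff.1 hxc _ h3
        calc y * (a * x * a⁻¹) = a * ((a⁻¹ * y * a) * x) * a⁻¹ := by group
          _ = a * (x * (a⁻¹ * y * a)) * a⁻¹ := by rw [h4]
          _ = a * x * a⁻¹ * y := by group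
    exact fun x hx => ⟨h1 hx, hx.1⟩
  -- the fixed point theorem
  let _ : MulAction ↥(OO r A) ↥N :=
    { smul := fun s x => ⟨(s : G) * x * (s : G)⁻¹, hN.conj_mem _ x.2 _⟩
      one_smul := fun x => Subtype.ext (by
        change ((1 : ↥(OO r A)) : G) * (x : G) * ((1 : ↥(OO r A)) : G)⁻¹ = x
        simp only [_root_.OneMemClass.coe_one, _root_.one_mul, _root_.inv_one, _root_.mul_one])
      mul_smul := fun s t x => Subtype.ext (by
        change ((s * t : ↥(OO r A)) : G) * (x : G) * ((s * t : ↥(OO r A)) : G)⁻¹ = (s : G) * ((t : G) * x * (t : G)⁻¹) * (s : G)⁻¹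
        rw [Subgroup.coe_mul]; group) }
  have hsm : ∀ (s : ↥(OO r A)) (x : ↥N), ((s • x : ↥N) : G) = (s : G) * x * (s : G)⁻¹ := fun _ _ => rfl
  have h1 : (1 : ↥N) ∈ MulAction.fixedPoints ↥(OO r A) ↥N := by
    intro s
    apply Subtype.ext
    rw [hsm]
    simp
  obtain ⟨b, hb, hb1⟩ := (isPGroup_OO r A).exists_fixed_point_of_prime_dvd_card_of_fixed_point ↥N (dvd_card_N hM) h1
  apply hb1
  have h2 : (b : G) ∈ N ⊓ centralizer (OO r A : Set G) := by
    refine mem_inf.2 ⟨b.2, ?_⟩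
    rw [mem_centralizer_iff]
    intro y hy
    have := congrArg Subtype.val (hb ⟨y, hy⟩)
    rw [hsm] at this
    exact mul_inv_eq_iff_eq_mul.1 this
  rw [hC, mem_bot] at h2
  exact Subtype.ext h2.symm

/-- an element commuting with a transvection: lift of the first kind -/
theorem tauP_tv (hM : Model N (iSL n F) π) {x : G} (hm : IsMul τ) (hs : Semi τ)
    (hi : ∀ s : Matrix.SpecialLinearGroup (Fin n) F, ∃ s' : Matrix.SpecialLinearGroup (Fin n) F,
      _root_.Cfsg.Agent.H607.TW.mt (iSL n F) s' = τ (_root_.Cfsg.Agent.H607.TW.mt (iSL n F) s) ∧ π s' = x * π s * x⁻¹)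
    {u φ : Fin n → F} (h : φ ⬝ᵥ u = 0) (hc : x * π (tv u φ h) = π (tv u φ h) * x) : τ (vecMulVec u φ) = vecMulVec u φ := by
  by_cases hu : u = 0
  · rw [hu, zero_vecMulVec, map_zero]
  obtain ⟨s', h1, h2⟩ := hi (tv u φ h)
  rw [hc, mul_inv_cancel_right] at h2
  have h3 : π ((tv u φ h)⁻¹ * s') = 1 := by rw [map_mul, map_inv, h2, inv_mul_cancel]
  obtain ⟨c, hcc⟩ := (hM.ker _).1 h3
  have h4 : (s' : Matrix (Fin n) (Fin n) F) = c • (1 + vecMulVec u φ) := by
    have h5 : (s' : Matrix (Fin n) (Fin n) F) = (tv u φ h : Matrix (Fin n) (Fin n) F) *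
        (((tv u φ h)⁻¹ * s' : Matrix.SpecialLinearGroup (Fin n) F) : Matrix (Fin n) (Fin n) F) := by
      rw [← Matrix.SpecialLinearGroup.coe_mul, mul_inv_cancel_left]
    rw [h5, ← mt_SL ((tv u φ h)⁻¹ * s'), hcc, mul_smul_comm, mul_one, coe_tv]
  rw [mt_SL, mt_SL, h4, coe_tv, map_add, hs.one] at h1
  -- `c (1 + y) = 1 + τ y`
  have h6 : τ (vecMulVec u φ) *ᵥ u = (c - 1) • u := by
    have h7 : τ (vecMulVec u φ) = c • (1 + vecMulVec u φ) - 1 := by rw [h1]; abel
    rw [h7, sub_mulVec, smul_mulVec, add_mulVec, one_mulVec, vm_mulVec, h, zero_smul, add_zero, sub_smul, one_smul]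
  have h8 : τ (vecMulVec u φ) * τ (vecMulVec u φ) = 0 := by rw [← hm, vm_sq h, map_zero]
  have h9 : (c - 1) * (c - 1) = 0 := by
    have h10 : (τ (vecMulVec u φ) * τ (vecMulVec u φ)) *ᵥ u = ((c - 1) * (c - 1)) • u := by
      rw [← mulVec_mulVec, h6, mulVec_smul, h6, smul_smul]
    rw [h8, zero_mulVec] at h10
    rcases smul_eq_zero.1 h10.symm with h11 | h11
    · exact h11
    · exact absurd h11 hu
  have hc1 : c = 1 := sub_eq_zero.1 (mul_self_eq_zero.1 h9)
  rw [hc1, one_smul] at h1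
  exact (add_left_cancel h1).symm

/-- an element commuting with a transvection: lift of the second kind -/
theorem tauM_tv (hM : Model N (iSL n F) π) {x : G} (hm : IsAnti τ) (hs : Semi τ)
    (hi : ∀ s : Matrix.SpecialLinearGroup (Fin n) F, ∃ s' : Matrix.SpecialLinearGroup (Fin n) F,
      _root_.Cfsg.Agent.H607.TW.mt (iSL n F) s' = τ (_root_.Cfsg.Agent.H607.TW.mt (iSL n F) s) ∧ (π s')⁻¹ = x * π s * x⁻¹)
    {u φ : Fin n → F} (h : φ ⬝ᵥ u = 0) (hc : x * π (tv u φ h) = π (tv u φ h) * x) : τ (vecMulVec u φ) = -vecMulVec u φ := by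
  by_cases hu : u = 0
  · rw [hu, zero_vecMulVec, map_zero, neg_zero]
  obtain ⟨s', h1, h2⟩ := hi (tv u φ h)
  rw [hc, mul_inv_cancel_right] at h2
  have h3 : π (s' * tv u φ h) = 1 := by rw [map_mul, ← h2, mul_inv_cancel]
  obtain ⟨c, hcc⟩ := (hM.ker _).1 h3
  have h4 : (s' : Matrix (Fin n) (Fin n) F) = c • (1 - vecMulVec u φ) := by
    have h5 : (s' : Matrix (Fin n) (Fin n) F) = ((s' * tv u φ h : Matrix.SpecialLinearGroup (Fin n) F) : Matrix (Fin n) (Fin n) F) *
        (((tv u φ h)⁻¹ : Matrix.SpecialLinearGroup (Fin n) F) : Matrix (Fin n) (Fin n) F) := by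
      rw [← Matrix.SpecialLinearGroup.coe_mul, mul_inv_cancel_right]
    rw [h5, ← mt_SL (s' * tv u φ h), hcc, smul_mul_assoc, one_mul, tv_inv]
  rw [mt_SL, mt_SL, h4, coe_tv, map_add, hs.one] at h1
  have h6 : τ (vecMulVec u φ) *ᵥ u = (c - 1) • u := by
    have h7 : τ (vecMulVec u φ) = c • (1 - vecMulVec u φ) - 1 := by rw [h1]; abel
    rw [h7, sub_mulVec, smul_mulVec, sub_mulVec, one_mulVec, vm_mulVec, h, zero_smul, sub_zero, sub_smul, one_smul]
  have h8 : τ (vecMulVec u φ) * τ (vecMulVec u φ) = 0 := by rw [← hm, vm_sq h, map_zero]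
  have h9 : (c - 1) * (c - 1) = 0 := by
    have h10 : (τ (vecMulVec u φ) * τ (vecMulVec u φ)) *ᵥ u = ((c - 1) * (c - 1)) • u := by
      rw [← mulVec_mulVec, h6, mulVec_smul, h6, smul_smul]
    rw [h8, zero_mulVec] at h10
    rcases smul_eq_zero.1 h10.symm with h11 | h11
    · exact h11
    · exact absurd h11 hu
  have hc1 : c = 1 := sub_eq_zero.1 (mul_self_eq_zero.1 h9)
  rw [hc1, one_smul, sub_eq_add_neg] at h1
  exact (add_left_cancel h1).symm

/-- first kind: the centralizer of `A ∩ N` lies in `N` -/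
theorem cent_P [Finite F] (h : Loc N A r) (hr : r ∣ Nat.card F) (hM : Model N (iSL n F) π) (hK : Inn K)
    (hSt : St K ≤ A.comap π) {x : G} (hx : ∀ y ∈ A ⊓ N, x * y = y * x) {B : Matrix.GeneralLinearGroup (Fin n) F} {σ : F ≃+* F}
    (hi : ∀ s : Matrix.SpecialLinearGroup (Fin n) F, ∃ s' : Matrix.SpecialLinearGroup (Fin n) F,
      _root_.Cfsg.Agent.H607.TW.mt (iSL n F) s' = tauP B σ (_root_.Cfsg.Agent.H607.TW.mt (iSL n F) s) ∧ π s' = x * π s * x⁻¹) : x ∈ N := by
  have := h.fact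
  have := charP_of_dvd h.prime hr
  have hcomm : ∀ {u φ : Fin n → F} (h : φ ⬝ᵥ u = 0), tv u φ h ∈ St K → tauP B σ (vecMulVec u φ) = vecMulVec u φ := by
    intro u φ h0 ht
    apply tauP_tv hM (tauP_mul B σ) (tauP_semi B σ) hi h0
    apply hx
    exact ⟨hSt ht, by rw [← hM.range]; exact ⟨_, rfl⟩⟩
  obtain ⟨ψ₀, hψ₀, w, hw⟩ := exists_row hK.ne
  obtain ⟨u₀, hu₀, hu₀0⟩ := (U K).ne_bot_iff.1 hK.U_ne_bot
  have hψ₀ne : ψ₀ ≠ 0 := by
    rintro rfl
    rw [zero_dotProduct] at hw
    exact zero_ne_one hw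
  -- `σ = 1`
  have hσ : ∀ c, σ c = c := by
    intro c
    have h0 : ψ₀ ⬝ᵥ u₀ = 0 := Ul_An hψ₀ (hK.U_le hu₀)
    have h0' : ψ₀ ⬝ᵥ (c • u₀) = 0 := Ul_An hψ₀ (hK.U_le ((U K).smul_mem c hu₀))
    have h1 := hcomm h0 (hK.tv_mem₁ h0 hu₀)
    have h2 := hcomm h0' (hK.tv_mem₁ h0' ((U K).smul_mem c hu₀))
    rw [smul_vecMulVec, tauP_smul, h1] at h2
    have h3 : (σ c - c) • vecMulVec u₀ ψ₀ = 0 := by rw [sub_smul, h2, sub_self]
    rcases smul_eq_zero.1 h3 with h4 | h4
    · exact sub_eq_zero.1 h4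
    · rcases vecMulVec_eq_zero.1 h4 with h5 | h5
      · exact absurd h5 hu₀0
      · exact absurd h5 hψ₀ne
  have hmap : ∀ y : Matrix (Fin n) (Fin n) F, y.map σ = y := fun y => by ext i j; exact hσ _
  have hBB : ((B⁻¹ : Matrix.GeneralLinearGroup (Fin n) F) : Matrix (Fin n) (Fin n) F) * (B : Matrix (Fin n) (Fin n) F) = 1 := by
    rw [← Units.val_mul, inv_mul_cancel, Units.val_one]
  have hBB' : (B : Matrix (Fin n) (Fin n) F) * ((B⁻¹ : Matrix.GeneralLinearGroup (Fin n) F) : Matrix (Fin n) (Fin n) F) = 1 := by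
    rw [← Units.val_mul, mul_inv_cancel, Units.val_one]
  have hBcomm : ∀ y : Matrix (Fin n) (Fin n) F, tauP B σ y = y → (B : Matrix (Fin n) (Fin n) F) * y = y * B := by
    intro y hy
    rw [tauP_apply, hmap] at hy
    calc (B : Matrix (Fin n) (Fin n) F) * y = (B : Matrix (Fin n) (Fin n) F) * y * 1 := by rw [mul_one]
      _ = ((B : Matrix (Fin n) (Fin n) F) * y * ((B⁻¹ : Matrix.GeneralLinearGroup (Fin n) F) : Matrix (Fin n) (Fin n) F)) * B := by
        rw [← hBB]; simp only [mul_assoc]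
      _ = y * B := by rw [hy]
  set lam : F := (ψ₀ ᵥ* (B : Matrix (Fin n) (Fin n) F)) ⬝ᵥ w with hlam
  have hAn : ∀ v ∈ An K, (B : Matrix (Fin n) (Fin n) F) *ᵥ v = lam • v := by
    intro v hv
    have h0 : ψ₀ ⬝ᵥ v = 0 := Ul_An hψ₀ hv
    have h1 := hBcomm _ (hcomm h0 (hK.tv_mem₂ h0 hψ₀))
    rw [mul_vecMulVec, vecMulVec_mul] at h1
    have h2 := congrArg (fun M => M *ᵥ w) h1
    simp only [vm_mulVec] at h2
    rwa [hw, one_smul] at h2
  have hrow : ∀ φ : Fin n → F, (∀ u ∈ U K, φ ⬝ᵥ u = 0) → φ ᵥ* (B : Matrix (Fin n) (Fin n) F) = lam • φ := by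
    intro φ hφ
    have h0 := hφ u₀ hu₀
    have h1 := hBcomm _ (hcomm h0 (hK.tv_mem₁ h0 hu₀))
    rw [mul_vecMulVec, vecMulVec_mul, hAn u₀ (hK.U_le hu₀), smul_vecMulVec, ← vecMulVec_smul] at h1
    obtain ⟨i, hi0⟩ : ∃ i, u₀ i ≠ 0 := by
      by_contra hcon
      push Not at hcon
      exact hu₀0 (funext hcon)
    ext j
    have h2 := congrFun (congrFun h1 i) j
    rw [vecMulVec_apply, vecMulVec_apply] at h2
    exact (mul_left_cancel₀ hi0 h2).symm
  set D : Matrix (Fin n) (Fin n) F := (B : Matrix (Fin n) (Fin n) F) - lam • 1 with hD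
  have hDK : D ∈ K := by
    rw [hK.mem_iff]
    constructor
    · intro v
      apply mem_U_of
      intro φ hφ
      rw [dotProduct_mulVec, hD, vecMul_sub, hrow φ hφ, vecMul_smul, vecMul_one, sub_self, zero_dotProduct]
    · intro v hv
      rw [hD, sub_mulVec, hAn v hv, smul_mulVec, one_mulVec, sub_self]
  have hB : (B : Matrix (Fin n) (Fin n) F) = lam • 1 + D := by rw [hD]; abel
  have hn : 0 < n := by have := hM.two; omega
  have hne : Nonempty (Fin n) := ⟨⟨0, hn⟩⟩
  have hlam0 : lam ≠ 0 := by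
    intro h0
    rw [h0, zero_smul, zero_add] at hB
    have h1 : (B : Matrix (Fin n) (Fin n) F) * B = 0 := by rw [hB]; exact hK.sq D hDK D hDK
    have h2 : (1 : Matrix (Fin n) (Fin n) F) = 0 := by
      calc (1 : Matrix (Fin n) (Fin n) F) = ((B⁻¹ : Matrix.GeneralLinearGroup (Fin n) F) : Matrix (Fin n) (Fin n) F) *
            (((B⁻¹ : Matrix.GeneralLinearGroup (Fin n) F) : Matrix (Fin n) (Fin n) F) * (B : Matrix (Fin n) (Fin n) F)) * B := by
            rw [hBB, mul_one, hBB]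
        _ = ((B⁻¹ : Matrix.GeneralLinearGroup (Fin n) F) : Matrix (Fin n) (Fin n) F) *
            ((B⁻¹ : Matrix.GeneralLinearGroup (Fin n) F) : Matrix (Fin n) (Fin n) F) * (B * B) := by simp only [mul_assoc]
        _ = 0 := by rw [h1, mul_zero]
    exact one_ne_zero h2
  have hEE : (lam⁻¹ • D) * (lam⁻¹ • D) = 0 := hK.sq _ (K.smul_mem _ hDK) _ (K.smul_mem _ hDK)
  let s₀ : Matrix.SpecialLinearGroup (Fin n) F := ⟨1 + lam⁻¹ • D, det_one_add (r := r) hEE⟩
  have hs₀ : (B : Matrix (Fin n) (Fin n) F) = lam • (s₀ : Matrix (Fin n) (Fin n) F) := by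
    change _ = lam • (1 + lam⁻¹ • D)
    rw [smul_add, smul_smul, mul_inv_cancel₀ hlam0, one_smul, hB]
  have hx0 : (π s₀)⁻¹ * x = 1 := by
    apply h.eq_one_of_comm
    intro y hy
    rw [← hM.range] at hy
    obtain ⟨s, rfl⟩ := hy
    obtain ⟨s', h1, h2⟩ := hi s
    have h3 : s' = s₀ * s * s₀⁻¹ := by
      apply Subtype.ext
      change _root_.Cfsg.Agent.H607.TW.mt (iSL n F) s' = _
      rw [h1, tauP_apply, hmap, mt_SL]
      have h4 : (B : Matrix (Fin n) (Fin n) F) * (s : Matrix (Fin n) (Fin n) F) =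
          ((s₀ * s * s₀⁻¹ : Matrix.SpecialLinearGroup (Fin n) F) : Matrix (Fin n) (Fin n) F) * B := by
        rw [hs₀, smul_mul_assoc, mul_smul_comm, ← Matrix.SpecialLinearGroup.coe_mul, ← Matrix.SpecialLinearGroup.coe_mul,
          inv_mul_cancel_right]
      rw [h4, mul_assoc, hBB', mul_one]
    rw [h3, map_mul, map_mul, map_inv] at h2
    calc (π s₀)⁻¹ * x * π s = (π s₀)⁻¹ * (x * π s * x⁻¹) * x := by group
      _ = (π s₀)⁻¹ * (π s₀ * π s * (π s₀)⁻¹) * x := by rw [← h2]
      _ = π s * ((π s₀)⁻¹ * x) := by group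
  have hx1 : x = π s₀ := by
    rw [inv_mul_eq_one] at hx0
    exact hx0.symm
  rw [hx1, ← hM.range]
  exact ⟨s₀, rfl⟩

/-- second kind: impossible for `n ≥ 3` -/
theorem cent_M (hn : 3 ≤ n) (hM : Model N (iSL n F) π) (hK : Inn K)
    (hSt : St K ≤ A.comap π) {x : G} (hx : ∀ y ∈ A ⊓ N, x * y = y * x) {B : Matrix.GeneralLinearGroup (Fin n) F} {σ : F ≃+* F}
    (hi : ∀ s : Matrix.SpecialLinearGroup (Fin n) F, ∃ s' : Matrix.SpecialLinearGroup (Fin n) F,
      _root_.Cfsg.Agent.H607.TW.mt (iSL n F) s' = tauM B σ (_root_.Cfsg.Agent.H607.TW.mt (iSL n F) s) ∧ (π s')⁻¹ = x * π s * x⁻¹) : False := by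
  obtain ⟨ψ₀, hψ₀, w, hw⟩ := exists_row hK.ne
  set z : Fin n → F := (B : Matrix (Fin n) (Fin n) F) *ᵥ (fun i => σ (ψ₀ i)) with hz
  have key : ∀ v, ψ₀ ⬝ᵥ v = 0 → v ∈ Submodule.span F {z} := by
    intro v h0
    have ht := hK.tv_mem₂ h0 hψ₀
    have h1 : tauM B σ (vecMulVec v ψ₀) = -vecMulVec v ψ₀ := by
      apply tauM_tv hM (tauM_anti B σ) (tauM_semi B σ) hi h0
      apply hx
      exact ⟨hSt ht, by rw [← hM.range]; exact ⟨_, rfl⟩⟩
    have h2 : tauM B σ (vecMulVec v ψ₀) = vecMulVec z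
        ((fun i => σ (v i)) ᵥ* ((B⁻¹ : Matrix.GeneralLinearGroup (Fin n) F) : Matrix (Fin n) (Fin n) F)) := by
      rw [tauM_apply, transpose_vecMulVec]
      have h3 : (vecMulVec ψ₀ v).map σ = vecMulVec (fun i => σ (ψ₀ i)) (fun i => σ (v i)) := by
        ext i j
        rw [Matrix.map_apply, vecMulVec_apply, vecMulVec_apply, map_mul]
      rw [h3, mul_vecMulVec, vecMulVec_mul]
    rw [h2] at h1
    have h4 := congrArg (fun M => M *ᵥ w) h1
    simp only [vm_mulVec, neg_mulVec] at h4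
    rw [hw, one_smul] at h4
    rw [← neg_neg v, ← h4, ← neg_smul]
    exact Submodule.smul_mem _ _ (Submodule.mem_span_singleton_self z)
  let f : (Fin n → F) →ₗ[F] F :=
    { toFun := fun v => ψ₀ ⬝ᵥ v
      map_add' := fun a b => dotProduct_add _ _ _
      map_smul' := fun c a => dotProduct_smul _ _ _ }
  have h1 : LinearMap.ker f ≤ Submodule.span F {z} := fun v hv => key v (LinearMap.mem_ker.1 hv)
  have h2 := Submodule.finrank_mono h1
  have h3 : Module.finrank F ↥(Submodule.span F {z}) ≤ 1 := by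
    have := finrank_span_le_card (R := F) ({z} : Set (Fin n → F))
    rwa [Set.toFinset_singleton, Finset.card_singleton] at this
  have h4 := LinearMap.finrank_range_add_finrank_ker f
  have h5 : Module.finrank F ↥(LinearMap.range f) ≤ 1 := by
    have := Submodule.finrank_le (LinearMap.range f)
    rwa [Module.finrank_self] at this
  rw [Module.finrank_fin_fun] at h4
  have h6 : Module.finrank F ↥(Submodule.span F {z}) ≤ 1 := h3
  omega

end Cfsg.Agent.H801.Sims
end

-- part: H801/Sims/Main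
section
/-!
# S3694, task T7: the defining characteristic, linear case
-/

set_option autoImplicit false
set_option linter.unusedVariables false

namespace Cfsg.Agent.H801.Sims

open Matrix Cfsg.Agent.H607.TW Subgroup

universe u

section

variable {G : Type u} [Group G] {N A C : Subgroup G} {r : ℕ}
  {F : Type} [Field F] {n : ℕ} {K L J Q : Submodule F (Matrix (Fin n) (Fin n) F)}
  {τ τ' : Matrix (Fin n) (Fin n) F ≃+ Matrix (Fin n) (Fin n) F}
  {π : Matrix.SpecialLinearGroup (Fin n) F →* G}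

/-- the matrix `[[0, 1], [-1, 0]]` -/
def Jm (F : Type) [Field F] : Matrix.GeneralLinearGroup (Fin 2) F where
  val := !![0, 1; -1, 0]
  inv := !![0, -1; 1, 0]
  val_inv := by ext i j; (revert i j; simp only [Matrix.mul_apply, Fin.sum_univ_two, _root_.Fin.forall_fin_succ, _root_.Matrix.of_apply, _root_.Matrix.cons_val', _root_.Matrix.cons_val_fin_one, Fin.isValue, _root_.Matrix.cons_val_zero, _root_.Matrix.cons_val_one, _root_.MulZeroClass.mul_zero, _root_.mul_one, _root_.zero_add, _root_.Matrix.cons_val_succ, _root_.mul_neg, _root_.add_zero, _root_.IsEmpty.forall_iff, _root_.and_true, _root_.Matrix.one_apply_eq, _root_.neg_zero, Nat.reduceAdd, _root_.Fin.succ_zero_eq_one, _root_.ne_eq, _root_.zero_ne_one, _root_.not_false_eq_true, _root_.Matrix.one_apply_ne, _root_.and_self, _root_.Fin.succ_ne_zero, _root_.neg_neg, _root_.true_and])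
  inv_val := by ext i j; (revert i j; simp only [Matrix.mul_apply, Fin.sum_univ_two, _root_.Fin.forall_fin_succ, _root_.Matrix.of_apply, _root_.Matrix.cons_val', _root_.Matrix.cons_val_fin_one, Fin.isValue, _root_.Matrix.cons_val_zero, _root_.Matrix.cons_val_one, _root_.MulZeroClass.mul_zero, _root_.mul_neg, _root_.mul_one, _root_.zero_add, _root_.Matrix.cons_val_succ, _root_.add_zero, _root_.IsEmpty.forall_iff, _root_.and_true, _root_.neg_neg, _root_.Matrix.one_apply_eq, Nat.reduceAdd, _root_.Fin.succ_zero_eq_one, _root_.ne_eq, _root_.zero_ne_one, _root_.not_false_eq_true, _root_.Matrix.one_apply_ne, _root_.and_self, _root_.neg_zero, _root_.Fin.succ_ne_zero, _root_.true_and])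

/-- for `n = 2` a lift of the second kind can be replaced by one of the first kind -/
theorem conv_two {π : Matrix.SpecialLinearGroup (Fin 2) F →* G} {x : G} {B : Matrix.GeneralLinearGroup (Fin 2) F} {σ : F ≃+* F}
    (hi : ∀ s : Matrix.SpecialLinearGroup (Fin 2) F, ∃ s' : Matrix.SpecialLinearGroup (Fin 2) F,
      _root_.Cfsg.Agent.H607.TW.mt (iSL 2 F) s' = tauM B σ (_root_.Cfsg.Agent.H607.TW.mt (iSL 2 F) s) ∧ (π s')⁻¹ = x * π s * x⁻¹) :
    ∀ s : Matrix.SpecialLinearGroup (Fin 2) F, ∃ s' : Matrix.SpecialLinearGroup (Fin 2) F,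
      _root_.Cfsg.Agent.H607.TW.mt (iSL 2 F) s' = tauP (B * Jm F) σ (_root_.Cfsg.Agent.H607.TW.mt (iSL 2 F) s) ∧ π s' = x * π s * x⁻¹ := by
  intro s
  obtain ⟨s', h1, h2⟩ := hi s⁻¹
  refine ⟨s', ?_, ?_⟩
  · rw [h1, tauM_apply, tauP_apply, mt_SL, mt_SL, _root_.mul_inv_rev, Units.val_mul, Units.val_mul]
    have h3 : (((s⁻¹ : Matrix.SpecialLinearGroup (Fin 2) F) : Matrix (Fin 2) (Fin 2) F)ᵀ).map σ =
        ((Jm F : Matrix.GeneralLinearGroup (Fin 2) F) : Matrix (Fin 2) (Fin 2) F) * (s : Matrix (Fin 2) (Fin 2) F).map σ *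
          (((Jm F)⁻¹ : Matrix.GeneralLinearGroup (Fin 2) F) : Matrix (Fin 2) (Fin 2) F) := by
      rw [Matrix.SpecialLinearGroup.coe_inv, adjugate_fin_two]
      change _ = !![0, 1; -1, 0] * (s : Matrix (Fin 2) (Fin 2) F).map σ * !![0, -1; 1, 0]
      ext i j
      (revert i j; simp only [Matrix.mul_apply, Fin.sum_univ_two, Matrix.vecMul, dotProduct, _root_.Fin.forall_fin_succ, Fin.isValue, _root_.Matrix.map_apply, _root_.Matrix.transpose_apply, _root_.Matrix.of_apply, _root_.Matrix.cons_val', _root_.Matrix.cons_val_fin_one, _root_.Matrix.cons_mul, _root_.Nat.succ_eq_add_one, Nat.reduceAdd, _root_.Matrix.empty_mul, _root_.Equiv.symm_apply_apply, _root_.Matrix.cons_val_zero, _root_.MulZeroClass.zero_mul, _root_.Matrix.cons_val_one, _root_.one_mul, _root_.zero_add, _root_.neg_mul, _root_.add_zero, _root_.MulZeroClass.mul_zero, _root_.mul_one, _root_.Matrix.cons_val_succ, _root_.mul_neg, _root_.forall_const, _root_.map_neg, _root_.and_self, _root_.neg_neg,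 _root_.implies_true])
    rw [h3]
    simp only [mul_assoc]
  · have h3 : π s' = (x * π s⁻¹ * x⁻¹)⁻¹ := by rw [← h2, inv_inv]
    rw [h3, map_inv]; group

theorem not_both (hn : 2 ≤ n) (hm : IsMul τ) (ha : IsAnti τ) : False := by
  have hcomm : ∀ a b : Matrix (Fin n) (Fin n) F, a * b = b * a := by
    intro a b
    apply τ.injective
    rw [hm a b, ha b a]
  set a : Fin n := ⟨0, by omega⟩
  set b : Fin n := ⟨1, by omega⟩
  have hab : b ≠ a := by
    intro h
    have := congrArg Fin.val h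
    simp [a, b] at this
  have h1 := hcomm (vecMulVec (Pi.single a 1) (Pi.single b 1)) (vecMulVec (Pi.single b 1) (Pi.single a 1))
  rw [vm_mul_vm, vm_mul_vm, dotProduct_single, dotProduct_single, Pi.single_eq_same, Pi.single_eq_same, mul_one,
    one_smul, one_smul] at h1
  have h2 := congrFun (congrFun h1 a) a
  rw [vecMulVec_apply, vecMulVec_apply, Pi.single_eq_same, Pi.single_eq_of_ne hab.symm, mul_one, zero_mul] at h2
  exact one_ne_zero h2

/-- `C_G(A ∩ N) ≤ N` -/
theorem cent_le [Finite F] (h : Loc N A r) (hr : r ∣ Nat.card F) (hM : Model N (iSL n F) π) (hK : Inn K)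
    (hSt : St K ≤ A.comap π) {x : G} (hx : ∀ y ∈ A ⊓ N, x * y = y * x) : x ∈ N := by
  obtain ⟨B, σ, hi | hi⟩ := hM.lift x
  · rcases hi with ⟨-, hi⟩ | ⟨hm, hi⟩
    · exact cent_P h hr hM hK hSt hx hi
    · exact (not_both hM.two (tauP_mul B σ) hm).elim
  · rcases hi with ⟨hm, hi⟩ | ⟨-, hi⟩
    · exact (not_both hM.two hm (tauM_anti B σ)).elim
    · rcases Nat.lt_or_ge 2 n with hn | hn
      · exact (cent_M hn hM hK hSt hx hi).elim
      · have hn2 : n = 2 := le_antisymm hn hM.two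
        subst hn2
        exact cent_P h hr hM hK hSt hx (conv_two hi)

/-- the structure of `A ∩ N` -/
theorem loc_St [Finite G] [Finite F] (h : Loc N A r) (hr : r ∣ Nat.card F) (hM : Model N (iSL n F) π) {X : Subgroup G}
    (hXp : IsPGroup r ↥X) (hXN : X ≤ N) (hXn : A ≤ normalizer (X : Set G)) (hX1 : X ≠ ⊥) :
    Inn (KK (JJ π X r)) ∧ A.comap π = St (KK (JJ π X r)) := by
  have := h.fact
  have h1 := inn_KK (KK_ne_bot hr hM hXp hXN hX1)
  refine ⟨h1, comap_eq_St h hM h1 fun a ha τ hτ hi => ?_⟩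
  rw [img_KK hτ, img_JJ_of_norm hXn ha hτ hi]

theorem JJ_mul_le {Y : Subgroup G} (hY : Y ≤ A) (hSt : A.comap π ≤ St K) :
    JJ π Y r * K ≤ K * ⊤ ∧ K * JJ π Y r ≤ ⊤ * K := by
  constructor
  · rw [Submodule.mul_le]
    intro x hx k hk
    induction hx using Submodule.span_induction with
    | mem w hw =>
      obtain ⟨s, hs, rfl⟩ := hw
      have h1 := (hSt (show s ∈ A.comap π from hY hs.1) k).2 hk
      have h2 : ((s : Matrix (Fin n) (Fin n) F) - 1) * k = ((s : Matrix (Fin n) (Fin n) F) * k *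
          ((s⁻¹ : Matrix.SpecialLinearGroup (Fin n) F) : Matrix (Fin n) (Fin n) F)) * (s : Matrix (Fin n) (Fin n) F) - k := by
        rw [mul_assoc _ _ (s : Matrix (Fin n) (Fin n) F), sl_inv_mul, mul_one, sub_mul, one_mul]
      rw [h2]
      exact Submodule.sub_mem _ (Submodule.mul_mem_mul h1 trivial) (le_mul_top K hk)
    | zero => rw [zero_mul]; exact Submodule.zero_mem _
    | add a b _ _ ha hb => rw [add_mul]; exact Submodule.add_mem _ ha hb
    | smul c a _ ha => rw [smul_mul_assoc]; exact Submodule.smul_mem _ c ha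
  · rw [Submodule.mul_le]
    intro k hk x hx
    induction hx using Submodule.span_induction with
    | mem w hw =>
      obtain ⟨s, hs, rfl⟩ := hw
      have h1 := ((St K).inv_mem (hSt (show s ∈ A.comap π from hY hs.1)) k).2 hk
      rw [inv_inv] at h1
      have h2 : k * ((s : Matrix (Fin n) (Fin n) F) - 1) = (s : Matrix (Fin n) (Fin n) F) *
          (((s⁻¹ : Matrix.SpecialLinearGroup (Fin n) F) : Matrix (Fin n) (Fin n) F) * k * (s : Matrix (Fin n) (Fin n) F)) - k := by
        rw [mul_assoc _ k, ← mul_assoc, sl_mul_inv, one_mul, mul_sub, mul_one]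
      rw [h2]
      exact Submodule.sub_mem _ (Submodule.mul_mem_mul trivial h1) (le_top_mul K hk)
    | zero => rw [mul_zero]; exact Submodule.zero_mem _
    | add a b _ _ ha hb => rw [mul_add]; exact Submodule.add_mem _ ha hb
    | smul c a _ ha => rw [mul_smul_comm]; exact Submodule.smul_mem _ c ha

end

variable {G : Type u} [Group G] [Finite G] {N A C A₁ C₁ A₂ C₂ : Subgroup G} {r d : ℕ}
  {F : Type} [Field F] [Fintype F] {n : ℕ}

theorem semi_refl : Semi (AddEquiv.refl (Matrix (Fin n) (Fin n) F)) :=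
  ⟨⟨RingEquiv.refl F, fun _ _ => rfl⟩, Or.inl fun _ _ => rfl⟩

theorem ind_refl (π : Matrix.SpecialLinearGroup (Fin n) F →* G) : Ind (iSL n F) π 1 (AddEquiv.refl _) := by
  left
  refine ⟨fun _ _ => rfl, fun s => ⟨s, rfl, by simp⟩⟩

theorem char_false {π : Matrix.SpecialLinearGroup (Fin n) F →* G} (h : Sit N A C A₁ C₁ A₂ C₂ r d) (hr' : r ∣ Fintype.card F)
    (hM : Model N (iSL n F) π) : False := by
  classical
  have hr : r ∣ Nat.card F := by rwa [Nat.card_eq_fintype_card]
  have hfact := h.locA.fact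
  have hN := h.locA.normal
  -- `X = A₂ ∩ N ≠ 1`
  have hX1 : A₂ ⊓ N ≠ ⊥ := by
    intro h0
    have h1 := OO_inf_ne_bot h.locA hr hM h.A_ne_bot
    obtain ⟨hK, hSt⟩ := loc_St h.locA hr hM ((isPGroup_OO r A).to_le inf_le_left) inf_le_right h.locA.norm_OO_inf h1
    apply h.A₂_ne
    rw [eq_bot_iff, ← h0]
    intro x hx
    refine mem_inf.2 ⟨hx, cent_le h.locA hr hM hK hSt.ge fun y hy => ?_⟩
    have h2 : x * y * x⁻¹ * y⁻¹ ∈ A₂ ⊓ N := by
      refine mem_inf.2 ⟨?_, N.mul_mem (hN.conj_mem _ hy.2 x) (N.inv_mem hy.2)⟩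
      have h3 : y * x⁻¹ * y⁻¹ ∈ A₂ := conj_mem_of_norm h.A₂_norm hy.1 (A₂.inv_mem hx)
      have := A₂.mul_mem hx h3
      simpa only [mul_assoc] using this
    rw [h0, mem_bot] at h2
    have h3 := mul_inv_eq_one.1 h2
    exact mul_inv_eq_iff_eq_mul.1 h3
  set X := A₂ ⊓ N with hX
  have hXp : IsPGroup r ↥X := (isPGroup_OO r A).to_le (inf_le_left.trans h.A₂_OO_A)
  have hXn : A ≤ normalizer (X : Set G) := le_normalizer_inf' h.A₂_norm (_root_.Cfsg.Agent.H607.TW.le_normalizer_of_normal N hN)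
  obtain ⟨hKX, hStX⟩ := loc_St h.locA hr hM hXp inf_le_right hXn hX1
  set Q := OO r C ⊓ N with hQ
  have hXQ : X ≤ Q := inf_le_inf_right N h.A₂_OO
  have hQ1 : Q ≠ ⊥ := fun h0 => hX1 (le_bot_iff.1 (h0 ▸ hXQ))
  have hQn : C ≤ normalizer (Q : Set G) := h.locC.norm_OO_inf
  obtain ⟨hKQ, hStQ⟩ := loc_St h.locC hr hM ((isPGroup_OO r C).to_le inf_le_left) inf_le_right hQn hQ1
  have hJ : JJ π X r ≤ JJ π Q r := JJ_mono hXQ
  -- it is enough that the ideals agree
  have hfin : KK (JJ π X r) = KK (JJ π Q r) → False := by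
    intro he
    have h1 : A.comap π = C.comap π := by rw [hStX, hStQ, he]
    apply h.false_of_inf_eq (fun h0 => hX1 (le_bot_iff.1 (h0 ▸ inf_le_inf_right N h.A₂_le_A)))
    ext y
    constructor
    · rintro ⟨hyA, hyN⟩
      have hy' : y ∈ π.range := by rw [hM.range]; exact hyN
      obtain ⟨s, rfl⟩ := hy'
      have : s ∈ A.comap π := hyA
      rw [h1] at this
      exact ⟨this, hyN⟩
    · rintro ⟨hyA, hyN⟩
      have hy' : y ∈ π.range := by rw [hM.range]; exact hyN
      obtain ⟨s, rfl⟩ := hy'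
      have : s ∈ C.comap π := hyA
      rw [← h1] at this
      exact ⟨this, hyN⟩
  -- the cardinalities agree
  obtain ⟨g, hg⟩ := h.conj
  obtain ⟨τg, hτg, hig⟩ := exists_lift hM g
  have hcard : Nat.card ↥(KK (JJ π Q r)) = Nat.card ↥(KK (JJ π X r)) := by
    have h1 : C ≤ normalizer (X.map (MulAut.conj g).toMonoidHom : Set G) := by
      rw [hg]
      apply le_normalizer_of_conj
      rintro _ ⟨a, ha, rfl⟩ _ ⟨x, hx, rfl⟩
      refine ⟨a * x * a⁻¹, conj_mem_of_norm hXn ha hx, ?_⟩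
      simp only [mul_assoc, _root_.MulEquiv.toMonoidHom_eq_coe, _root_.MonoidHom.coe_coe, _root_.MulAut.conj_apply, _root_.inv_mul_cancel_left, _root_.mul_inv_rev, _root_.inv_inv]
    have h2 : X.map (MulAut.conj g).toMonoidHom ≤ N := by
      rintro _ ⟨x, hx, rfl⟩
      exact hN.conj_mem x (inf_le_right (a := A₂) hx) g
    have h3 : X.map (MulAut.conj g).toMonoidHom ≠ ⊥ := by
      intro h0
      exact hX1 ((Subgroup.map_eq_bot_iff_of_injective X (MulAut.conj g).injective).1 h0)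
    obtain ⟨hK3, hSt3⟩ := loc_St h.locC hr hM (hXp.map _) h2 h1 h3
    have h4 := hKQ.uniq hK3 (by rw [← hStQ, ← hSt3])
    rw [h4, ← img_JJ hτg hig, ← img_KK hτg, card_img hτg]
  by_cases hb : ∃ a ∈ A, ∃ τ : Matrix (Fin n) (Fin n) F ≃+ Matrix (Fin n) (Fin n) F, Semi τ ∧ Ind (iSL n F) π a τ ∧ IsAnti τ
  · obtain ⟨a₀, ha₀, τ₀, hτ₀, hi₀, hanti₀⟩ := hb
    have hstJ : St (KK (JJ π X r)) ≤ St (JJ π X r) := by
      rw [← hStX]
      exact le_St fun a ha τ hτ hi => img_JJ_of_norm hXn ha hτ hi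
    rcases comparable hKX.ne hstJ with hcmp | hcmp
    · exact hfin (eq_of_card (KK_le_of_An_le hcmp hJ) hcard).symm
    · -- `JJ X = KK (JJ X)`
      have hJK := le_KK hcmp
      have hKJ := hKX.le_of_St (JJ_ne_bot hM hXp inf_le_right hX1) hJK hstJ
      have heq : KK (JJ π X r) = JJ π X r := le_antisymm hKJ hJK
      set K := KK (JJ π X r) with hKdef
      have hinvK : ∀ a ∈ A, ∀ τ, Semi τ → Ind (iSL n F) π a τ → img τ K = K := fun a ha τ hτ hi => by
        rw [heq, img_JJ_of_norm hXn ha hτ hi]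
      have hK0 : img τ₀ K = K := hinvK a₀ ha₀ τ₀ hτ₀ hi₀
      have hcc : Nat.card ↥(K * (⊤ : Submodule F (Matrix (Fin n) (Fin n) F))) =
          Nat.card ↥((⊤ : Submodule F (Matrix (Fin n) (Fin n) F)) * K) := by
        rw [← card_img hτ₀ (K := K * ⊤), img_mul' hτ₀ hanti₀, img_top hτ₀, hK0]
      have claim : ∀ c ∈ C, ∀ τ, Semi τ → Ind (iSL n F) π c τ → img τ K * K = ⊥ ∧ K * img τ K = ⊥ := by
        intro c hc τ hτ hi
        have hY : X.map (MulAut.conj c).toMonoidHom ≤ A := by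
          rintro _ ⟨x, hx, rfl⟩
          exact h.C₁_le_A (conj_mem_of_norm h.C₁_norm hc (h.A₂_le_C₁ (inf_le_left (a := A₂) hx)))
        have hL : img τ K = JJ π (X.map (MulAut.conj c).toMonoidHom) r := by rw [heq, img_JJ hτ hi]
        obtain ⟨m1, m2⟩ := JJ_mul_le (r := r) (π := π) (K := K) hY hStX.le
        apply mul_eq_bot hKX (img_inn hτ hKX)
        · rw [hL]; exact m1
        · rw [hL]; exact m2
        · rcases hτ.mul with hm | hm
          · rw [← card_img hτ (K := K * ⊤), img_mul hτ hm, img_top hτ]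
          · rw [hcc, ← card_img hτ (K := ⊤ * K), img_mul' hτ hm, img_top hτ]
        · rcases hτ.mul with hm | hm
          · rw [← card_img hτ (K := ⊤ * K), img_mul hτ hm, img_top hτ]
          · rw [← hcc, ← card_img hτ (K := K * ⊤), img_mul' hτ hm, img_top hτ]
      -- the sum of the conjugates
      set S : Set (Matrix (Fin n) (Fin n) F) :=
        {x | ∃ c ∈ C, ∃ τ : Matrix (Fin n) (Fin n) F ≃+ Matrix (Fin n) (Fin n) F, Semi τ ∧ Ind (iSL n F) π c τ ∧ ∃ y ∈ K, x = τ y}
        with hS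
      set L := Submodule.span F S with hLdef
      have hKL : K ≤ L := fun x hx =>
        Submodule.subset_span ⟨1, C.one_mem, AddEquiv.refl _, semi_refl, ind_refl π, x, hx, rfl⟩
      have hLL : L * L = ⊥ := by
        rw [eq_bot_iff, Submodule.mul_le]
        intro x hx y hy
        rw [Submodule.mem_bot]
        induction hx using Submodule.span_induction with
        | mem x hx =>
          induction hy using Submodule.span_induction with
          | mem y hy =>
            obtain ⟨c, hc, τ, hτ, hi, a, ha, rfl⟩ := hx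
            obtain ⟨c', hc', τ', hτ', hi', b, hb, rfl⟩ := hy
            have h1 := ind_comp hi' (ind_symm hi)
            obtain ⟨z1, z2⟩ := claim _ (C.mul_mem (C.inv_mem hc) hc') _ (hτ'.trans hτ.symm) h1
            have hmem : (τ'.trans τ.symm) b ∈ img (τ'.trans τ.symm) K := (mem_img' (hτ'.trans hτ.symm)).2 hb
            have h2 : τ' b = τ ((τ'.trans τ.symm) b) := by
              rw [AddEquiv.trans_apply, AddEquiv.apply_symm_apply]
            rw [h2]
            rcases hτ.mul with hm | hm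
            · rw [← hm]
              have := Submodule.mul_mem_mul ha hmem
              rw [z2, Submodule.mem_bot] at this
              rw [this, map_zero]
            · rw [← hm]
              have := Submodule.mul_mem_mul hmem ha
              rw [z1, Submodule.mem_bot] at this
              rw [this, map_zero]
          | zero => rw [mul_zero]
          | add a b _ _ ha hb => rw [mul_add, ha, hb, add_zero]
          | smul c a _ ha => rw [mul_smul_comm, ha, smul_zero]
        | zero => rw [zero_mul]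
        | add a b _ _ ha hb => rw [add_mul, ha, hb, add_zero]
        | smul c a _ ha => rw [smul_mul_assoc, ha, smul_zero]
      have hLinv : ∀ c ∈ C, ∀ τ, Semi τ → Ind (iSL n F) π c τ → img τ L = L := by
        intro c hc τ hτ hi
        apply eq_of_card _ (card_img hτ)
        rw [hLdef, img_span hτ]
        apply Submodule.span_mono
        rintro _ ⟨_, ⟨c', hc', τ', hτ', hi', y, hy, rfl⟩, rfl⟩
        exact ⟨c * c', C.mul_mem hc hc', τ'.trans τ, hτ'.trans hτ, ind_comp hi' hi, y, hy, rfl⟩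
      obtain ⟨hM1, hM2⟩ := inn_QTQ hLL hKX hKL
      have hStM := comap_eq_St h.locC hM hM1 fun c hc τ hτ hi => by
        rcases hτ.mul with hm | hm
        · rw [img_mul hτ hm, img_mul hτ hm, img_top hτ, hLinv c hc τ hτ hi]
        · rw [img_mul' hτ hm, img_mul' hτ hm, img_top hτ, hLinv c hc τ hτ hi, mul_assoc]
      have h5 := hKQ.uniq hM1 (by rw [← hStQ, ← hStM])
      rw [← h5] at hM2
      exact hfin (eq_of_card hM2 hcard.symm)
  · -- all lifts are multiplicative
    have hmul : ∀ a ∈ A, ∀ τ : Matrix (Fin n) (Fin n) F ≃+ Matrix (Fin n) (Fin n) F, Semi τ → Ind (iSL n F) π a τ → IsMul τ := by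
      intro a ha τ hτ hi
      rcases hτ.mul with hm | hm
      · exact hm
      · exact absurd ⟨a, ha, τ, hτ, hi, hm⟩ hb
    have hmulC : ∀ a ∈ C, ∀ τ : Matrix (Fin n) (Fin n) F ≃+ Matrix (Fin n) (Fin n) F, Semi τ → Ind (iSL n F) π a τ → IsMul τ := by
      intro c hc τ hτ hi
      rcases hτ.mul with hm | hm
      · exact hm
      · exfalso
        rw [hg] at hc
        obtain ⟨a, ha, rfl⟩ := hc
        have h1 := ind_comp (ind_comp hig hi) (ind_symm hig)
        have h2 : g⁻¹ * ((MulAut.conj g).toMonoidHom a * g) = a := by simp [mul_assoc]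
        rw [h2] at h1
        apply hb
        refine ⟨a, ha, _, (hτg.trans hτ).trans hτg.symm, h1, fun x y => ?_⟩
        simp only [AddEquiv.trans_apply]
        rcases hτg.mul with hgm | hgm
        · apply τg.injective
          rw [hgm, hm, hgm]
          simp only [AddEquiv.apply_symm_apply]
        · apply τg.injective
          rw [hgm, hm, hgm]
          simp only [AddEquiv.apply_symm_apply]
    have key : ∀ (B Y : Subgroup G), Loc N B r →
        (∀ a ∈ B, ∀ τ : Matrix (Fin n) (Fin n) F ≃+ Matrix (Fin n) (Fin n) F, Semi τ → Ind (iSL n F) π a τ → IsMul τ) →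
        B ≤ normalizer (Y : Set G) → Inn (KK (JJ π Y r)) → B.comap π = St (KK (JJ π Y r)) → U (JJ π Y r) = An (JJ π Y r) := by
      intro B Y hB hBm hYn hKY hStY
      have i1 : Inn (K1 (JJ π Y r)) := inn_K1 fun h0 => hKY.ne (le_bot_iff.1 (h0 ▸ KK_le_K1))
      have i2 : Inn (K2 (JJ π Y r)) := inn_K2 fun h0 => hKY.ne (le_bot_iff.1 (h0 ▸ KK_le_K2))
      have s1 := comap_eq_St hB hM i1 fun a ha τ hτ hi => by
        rw [img_K1 hτ (hBm a ha τ hτ hi), img_JJ_of_norm hYn ha hτ hi]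
      have s2 := comap_eq_St hB hM i2 fun a ha τ hτ hi => by
        rw [img_K2 hτ (hBm a ha τ hτ hi), img_JJ_of_norm hYn ha hτ hi]
      exact U_eq_An hKY.ne (i1.uniq hKY (by rw [← s1, ← hStY])) (i2.uniq hKY (by rw [← s2, ← hStY]))
    exact hfin (KK_eq_of_U_eq_An (key A X h.locA hmul hXn hKX hStX) (key C Q h.locC hmulC hQn hKQ hStQ) hJ)

/-- task T7 -/
theorem char_sl {π : Matrix.SpecialLinearGroup (Fin n) F →* G} (h : Sit N A C A₁ C₁ A₂ C₂ r d) (hr : r ∣ Fintype.card F)
    (hM : Model N (iSL n F) π) : Nat.card A ≤ M d :=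
  (char_false h hr hM).elim

end Cfsg.Agent.H801.Sims
end

private theorem dce_a46fe9f44dba : _root_.True := by
  try have : _root_.True := by simp only [_root_.Cfsg.Agent.H801.Sims.KK.eq_1]
  try have : _root_.True := by simp only [_root_.Cfsg.Agent.H801.Sims.U.eq_1]
  try have : _root_.True := by simp only [_root_.Cfsg.Agent.H801.Sims.K2.eq_1]
  try have : _root_.True := by simp only [_root_.Cfsg.Agent.H801.Sims.JJ.eq_1]
  try have : _root_.True := by simp only [_root_.Cfsg.Agent.H801.Sims.K1.eq_1]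
  exact _root_.True.intro
end

-- part: H599/TW/CentBl
section
prune_inst 0x10000000000000000010000000000000
set_option linter.all false
open scoped Cfsg.Agent.FastGrp

-- part: H599/TW/Coord
section
/-!
# S3694: coordinates for frames (helper599)

* `cS P` : conjugation by `P ∈ GL_n(F)` as an endomorphism of `SL_n(F)`;
* `ind_cS`, `model_cS`, `frame_cS` : change of basis in `Ind`, `Model`, `Frame`;
* `exists_std` : every system of orthogonal idempotents is conjugate to a standard one.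
-/

set_option autoImplicit false
set_option linter.unusedSectionVars false
set_option linter.style.haveILetI false

namespace Cfsg.Agent.H599.TW

open Subgroup Cfsg.Agent.H607.TW

universe u

variable {F : Type} [Field F] {n : ℕ}

local notation "MM" => Matrix (Fin n) (Fin n) F
local notation "GLL" => Matrix.GeneralLinearGroup (Fin n) F
local notation "SLL" => Matrix.SpecialLinearGroup (Fin n) F

theorem coe_mul_inv (P : GLL) : (P : MM) * ((P⁻¹ : GLL) : MM) = 1 := by
  rw [← Units.val_mul, mul_inv_cancel, Units.val_one]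

theorem coe_inv_mul (P : GLL) : ((P⁻¹ : GLL) : MM) * (P : MM) = 1 := by
  rw [← Units.val_mul, inv_mul_cancel, Units.val_one]

/-- `x ↦ P x P⁻¹` on matrices. -/
def cM (P : GLL) : MM ≃+ MM := tauP P (RingEquiv.refl F)

theorem cM_apply (P : GLL) (x : MM) : cM P x = (P : MM) * x * ((P⁻¹ : GLL) : MM) := by
  have : x.map (RingEquiv.refl F) = x := by ext i j; simp
  rw [cM, tauP_apply, this]

theorem cM_mul (P : GLL) (x y : MM) : cM P (x * y) = cM P x * cM P y := by
  rw [cM_apply, cM_apply, cM_apply]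
  calc _ = (P : MM) * x * 1 * y * ((P⁻¹ : GLL) : MM) := by simp only [mul_assoc, one_mul]
    _ = _ := by rw [← coe_inv_mul P]; simp only [mul_assoc]

theorem cM_one (P : GLL) : cM P (1 : MM) = 1 := by
  rw [cM_apply, mul_one, coe_mul_inv]

theorem cM_smul (P : GLL) (c : F) (x : MM) : cM P (c • x) = c • cM P x := by
  rw [cM_apply, cM_apply, Matrix.mul_smul, Matrix.smul_mul]

theorem cM_inv_cM (P : GLL) (x : MM) : cM P⁻¹ (cM P x) = x := by
  rw [cM_apply, cM_apply, inv_inv]
  calc _ = (((P⁻¹ : GLL) : MM) * (P : MM)) * x * (((P⁻¹ : GLL) : MM) * (P : MM)) := by simp only [mul_assoc]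
    _ = x := by rw [coe_inv_mul, one_mul, mul_one]

theorem cM_cM_inv (P : GLL) (x : MM) : cM P (cM P⁻¹ x) = x := by
  have := cM_inv_cM P⁻¹ x
  rwa [inv_inv] at this

/-- Conjugation by `P` on `SL_n(F)`. -/
def cS (P : GLL) : SLL →* SLL where
  toFun s := ⟨cM P (s : MM), by
    rw [cM_apply, Matrix.det_mul, Matrix.det_mul, s.2, mul_one, ← Matrix.det_mul, coe_mul_inv, Matrix.det_one]⟩
  map_one' := by
    apply Subtype.ext
    change cM P ((1 : SLL) : MM) = 1
    rw [Matrix.SpecialLinearGroup.coe_one, cM_one]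
  map_mul' s t := by
    apply Subtype.ext
    change cM P ((s * t : SLL) : MM) = cM P (s : MM) * cM P (t : MM)
    rw [Matrix.SpecialLinearGroup.coe_mul, cM_mul]

theorem cS_coe (P : GLL) (s : SLL) : ((cS P s : SLL) : MM) = cM P (s : MM) := rfl

theorem mt_iSL (s : SLL) : _root_.Cfsg.Agent.H607.TW.mt (iSL n F) s = (s : MM) := rfl

theorem cS_inv_cS (P : GLL) (s : SLL) : cS P⁻¹ (cS P s) = s := by
  apply Subtype.ext
  change cM P⁻¹ (cM P (s : MM)) = _
  rw [cM_inv_cM]

theorem cS_cS_inv (P : GLL) (s : SLL) : cS P (cS P⁻¹ s) = s := by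
  have := cS_inv_cS P⁻¹ s
  rwa [inv_inv] at this

variable {G : Type u} [Group G] {N A : Subgroup G} {r : ℕ}

/-- `τ` in the new coordinates. -/
def tw (P : GLL) (τ : MM ≃+ MM) : MM ≃+ MM := ((cM P).trans τ).trans (cM P⁻¹)

theorem tw_apply (P : GLL) (τ : MM ≃+ MM) (x : MM) : tw P τ x = cM P⁻¹ (τ (cM P x)) := rfl

theorem comp_cS_inv (P : GLL) (π : SLL →* G) : (π.comp (cS P)).comp (cS P⁻¹) = π := by
  ext s
  simp only [MonoidHom.comp_apply, cS_cS_inv]

theorem ind_cS {π : SLL →* G} (P : GLL) {g : G} {τ : MM ≃+ MM} (h : Ind (iSL n F) π g τ) :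
    Ind (iSL n F) (π.comp (cS P)) g (tw P τ) := by
  rcases h with ⟨h1, h2⟩ | ⟨h1, h2⟩
  · left
    refine ⟨fun x y => ?_, fun s => ?_⟩
    · rw [tw_apply, tw_apply, tw_apply, cM_mul, h1, cM_mul]
    · obtain ⟨s', hs1, hs2⟩ := h2 (cS P s)
      refine ⟨cS P⁻¹ s', ?_, ?_⟩
      · rw [mt_iSL, cS_coe, tw_apply]
        rw [mt_iSL, mt_iSL, cS_coe] at hs1
        rw [hs1]
        rfl
      · rw [MonoidHom.comp_apply, MonoidHom.comp_apply, cS_cS_inv, hs2]
  · right
    refine ⟨fun x y => ?_, fun s => ?_⟩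
    · rw [tw_apply, tw_apply, tw_apply, cM_mul, h1, cM_mul]
    · obtain ⟨s', hs1, hs2⟩ := h2 (cS P s)
      refine ⟨cS P⁻¹ s', ?_, ?_⟩
      · rw [mt_iSL, cS_coe, tw_apply]
        rw [mt_iSL, mt_iSL, cS_coe] at hs1
        rw [hs1]
        rfl
      · rw [MonoidHom.comp_apply, MonoidHom.comp_apply, cS_cS_inv, hs2]

theorem ind_of_cS {π : SLL →* G} (P : GLL) {g : G} {τ : MM ≃+ MM} (h : Ind (iSL n F) (π.comp (cS P)) g τ) :
    Ind (iSL n F) π g (tw P⁻¹ τ) := by
  have := ind_cS P⁻¹ h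
  rwa [comp_cS_inv] at this

theorem map_inv_eq (P : GLL) (σ : F ≃+* F) :
    ((P : MM).map σ) * (((P⁻¹ : GLL) : MM).map σ) = 1 ∧ (((P⁻¹ : GLL) : MM).map σ) * ((P : MM).map σ) = 1 := by
  constructor
  · rw [← Matrix.map_mul, coe_mul_inv]
    ext i j
    by_cases hij : i = j
    · subst hij; simp
    · simp [Matrix.one_apply_ne hij]
  · rw [← Matrix.map_mul, coe_inv_mul]
    ext i j
    by_cases hij : i = j
    · subst hij; simp
    · simp [Matrix.one_apply_ne hij]

/-- `P ^ σ` -/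
def gmap (σ : F ≃+* F) (P : GLL) : GLL :=
  ⟨(P : MM).map σ, ((P⁻¹ : GLL) : MM).map σ, (map_inv_eq P σ).1, (map_inv_eq P σ).2⟩

/-- the transpose -/
def gtr (P : GLL) : GLL :=
  ⟨(P : MM).transpose, ((P⁻¹ : GLL) : MM).transpose, by
    rw [← Matrix.transpose_mul, coe_inv_mul, Matrix.transpose_one], by
    rw [← Matrix.transpose_mul, coe_mul_inv, Matrix.transpose_one]⟩

theorem tw_tauP (P B : GLL) (σ : F ≃+* F) : tw P (tauP B σ) = tauP (P⁻¹ * B * gmap σ P) σ := by
  ext x : 1
  rw [tw_apply, cM_apply, cM_apply, tauP_apply, tauP_apply, inv_inv]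
  have h1 : (((P⁻¹ * B * gmap σ P : GLL)) : MM) = ((P⁻¹ : GLL) : MM) * (B : MM) * (P : MM).map σ := rfl
  have h2 : (((P⁻¹ * B * gmap σ P)⁻¹ : GLL) : MM) =
      (((P⁻¹ : GLL) : MM).map σ) * ((B⁻¹ : GLL) : MM) * (P : MM) := by
    rw [mul_inv_rev, mul_inv_rev, inv_inv]
    rw [mul_assoc]
    rfl
  rw [h1, h2, Matrix.map_mul, Matrix.map_mul]
  simp only [mul_assoc]

theorem tw_tauM (P B : GLL) (σ : F ≃+* F) : tw P (tauM B σ) = tauM (P⁻¹ * B * gmap σ (gtr P⁻¹)) σ := by
  ext x : 1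
  rw [tw_apply, cM_apply, cM_apply, tauM_apply, tauM_apply, inv_inv]
  have h1 : (((P⁻¹ * B * gmap σ (gtr P⁻¹) : GLL)) : MM) =
      ((P⁻¹ : GLL) : MM) * (B : MM) * (((P⁻¹ : GLL) : MM).transpose).map σ := rfl
  have h2 : (((P⁻¹ * B * gmap σ (gtr P⁻¹))⁻¹ : GLL) : MM) =
      (((P : MM).transpose).map σ) * ((B⁻¹ : GLL) : MM) * (P : MM) := by
    rw [mul_inv_rev, mul_inv_rev, inv_inv]
    rw [mul_assoc]
    have : (((gmap σ (gtr P⁻¹))⁻¹ : GLL) : MM) = ((P : MM).transpose).map σ := by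
      change ((((P⁻¹)⁻¹ : GLL) : MM).transpose).map σ = _
      rw [inv_inv]
    rw [← this]
    rfl
  rw [h1, h2, Matrix.transpose_mul, Matrix.transpose_mul, Matrix.map_mul, Matrix.map_mul]
  simp only [mul_assoc]

theorem smul_one_cM (P : GLL) (x : MM) (c : F) : cM P x = c • (1 : MM) ↔ x = c • (1 : MM) := by
  constructor
  · intro h
    have := congrArg (cM P⁻¹) h
    rwa [cM_inv_cM, cM_smul, cM_one] at this
  · intro h
    rw [h, cM_smul, cM_one]

/-- The model in the new coordinates. -/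
theorem model_cS {π : SLL →* G} (P : GLL) (h : Model N (iSL n F) π) : Model N (iSL n F) (π.comp (cS P)) where
  two := h.two
  inj := h.inj
  range := by
    rw [← h.range]
    apply le_antisymm
    · rintro _ ⟨s, rfl⟩
      exact ⟨cS P s, rfl⟩
    · rintro _ ⟨s, rfl⟩
      exact ⟨cS P⁻¹ s, by rw [MonoidHom.comp_apply, cS_cS_inv]⟩
  ker := fun s => by
    rw [MonoidHom.comp_apply, h.ker (cS P s)]
    simp only [mt_iSL, cS_coe, smul_one_cM]
  det := h.det
  perfect := h.perfect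
  span := h.span
  lift := fun g => by
    obtain ⟨B, σ, h1 | h1⟩ := h.lift g
    · exact ⟨_, σ, Or.inl (by rw [← tw_tauP P B σ]; exact ind_cS P h1)⟩
    · exact ⟨_, σ, Or.inr (by rw [← tw_tauM P B σ]; exact ind_cS P h1)⟩

/-- The frame in the new coordinates. -/
theorem frame_cS {π : SLL →* G} (P : GLL) {t : ℕ} {e : Fin t → MM} (h : Frame (iSL n F) π A (fun i => cM P (e i))) :
    Frame (iSL n F) (π.comp (cS P)) A e where
  two := h.two
  idem := fun i => by
    apply (cM P).injective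
    rw [cM_mul]
    exact h.idem i
  ne := fun i hi => h.ne i (by rw [hi, map_zero])
  orth := fun i j hij => by
    apply (cM P).injective
    rw [cM_mul, map_zero]
    exact h.orth i j hij
  sum := by
    apply (cM P).injective
    rw [map_sum, cM_one]
    exact h.sum
  perm := fun a ha τ hτ i => by
    obtain ⟨j, hj⟩ := h.perm a ha _ (ind_of_cS P hτ) i
    refine ⟨j, ?_⟩
    apply (cM P).injective
    rw [← hj, tw_apply, inv_inv, cM_inv_cM]
  stab := fun s hs => by
    rw [MonoidHom.comp_apply]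
    apply h.stab
    intro i
    obtain ⟨j, hj⟩ := hs i
    refine ⟨j, ?_⟩
    rw [mt_iSL, cS_coe, ← cM_mul, ← cM_mul]
    exact congrArg _ hj

/-- Renumbering of a frame. -/
theorem frame_reindex {ι : SLL →* GLL} {π : SLL →* G} {t t' : ℕ} {e : Fin t → MM} (h : Frame ι π A e) (f : Fin t' ≃ Fin t) :
    Frame ι π A (fun i => e (f i)) where
  two := by
    have := h.two
    have := Fintype.card_congr f
    simp only [Fintype.card_fin] at this
    omega
  idem := fun i => h.idem _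
  ne := fun i => h.ne _
  orth := fun i j hij => h.orth _ _ (fun hh => hij (f.injective hh))
  sum := by rw [← h.sum]; exact Equiv.sum_comp f e
  perm := fun a ha τ hτ i => by
    obtain ⟨j, hj⟩ := h.perm a ha τ hτ (f i)
    exact ⟨f.symm j, by rw [hj, Equiv.apply_symm_apply]⟩
  stab := fun s hs => h.stab s fun i => by
    obtain ⟨j, hj⟩ := hs (f.symm i)
    rw [Equiv.apply_symm_apply] at hj
    exact ⟨f j, hj⟩

/-- The standard system of idempotents. -/
def blk {t : ℕ} (b : Fin n → Fin t) (i : Fin t) : MM := Matrix.diagonal fun k => if b k = i then 1 else 0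

/-- Simultaneous diagonalisation of orthogonal idempotents. -/
theorem exists_std {t : ℕ} {e : Fin t → MM} (hid : ∀ i, e i * e i = e i) (hor : ∀ i j, i ≠ j → e i * e j = 0)
    (hs : ∑ i, e i = 1) : ∃ (P : GLL) (b : Fin n → Fin t), ∀ i, e i = cM P (blk b i) := by
  classical
  let f : Fin t → ((Fin n → F) →ₗ[F] (Fin n → F)) := fun i => Matrix.toLin' (e i)
  let V : Fin t → Submodule F (Fin n → F) := fun i => LinearMap.range (f i)
  have hfi : ∀ i x, f i (f i x) = f i x := fun i x => by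
    change Matrix.toLin' (e i) (Matrix.toLin' (e i) x) = _
    rw [← Matrix.toLin'_mul_apply, hid]
  have hfo : ∀ i j, i ≠ j → ∀ x, f i (f j x) = 0 := fun i j hij x => by
    change Matrix.toLin' (e i) (Matrix.toLin' (e j) x) = _
    rw [← Matrix.toLin'_mul_apply, hor i j hij]
    simp only [_root_.map_zero, _root_.LinearMap.zero_apply]
  have hfs : ∀ x, ∑ i, f i x = x := fun x => by
    have : Matrix.toLin' (∑ i, e i) x = x := by rw [hs]; simp
    rw [map_sum, LinearMap.sum_apply] at this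
    exact this
  have hmem : ∀ i, ∀ v ∈ V i, f i v = v := by
    rintro i _ ⟨x, rfl⟩
    exact hfi i x
  have hmem0 : ∀ i j, i ≠ j → ∀ v ∈ V j, f i v = 0 := by
    rintro i j hij _ ⟨x, rfl⟩
    exact hfo i j hij x
  have hint : DirectSum.IsInternal V := by
    rw [DirectSum.isInternal_submodule_iff_iSupIndep_and_iSup_eq_top]
    constructor
    · rw [iSupIndep_iff_forall_dfinsupp]
      intro i x v hv
      have h1 : f i (x : Fin n → F) = x := hmem i _ x.2
      have h2 : f i ((DFinsupp.lsum ℕ fun i => (V i).subtype) (DFinsupp.erase i v)) = 0 := by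
        rw [DFinsupp.lsum_apply_apply, DFinsupp.sumAddHom_apply, DFinsupp.sum, map_sum]
        apply Finset.sum_eq_zero
        intro j hj
        have hji : j ≠ i := by
          intro hh
          subst hh
          simp at hj
        exact hmem0 i j hji.symm _ ((DFinsupp.erase i v) j).2
      rw [hv, h1] at h2
      exact Subtype.ext h2
    · rw [eq_top_iff]
      intro x _
      rw [← hfs x]
      exact Submodule.sum_mem _ fun i _ => (le_iSup V i) ⟨x, rfl⟩
  let bs : Module.Basis (Σ i, Fin (Module.finrank F (V i))) F (Fin n → F) :=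
    hint.collectedBasis (fun i => Module.finBasis F (V i))
  have hcard : Fintype.card (Σ i, Fin (Module.finrank F (V i))) = Fintype.card (Fin n) := by
    have := Module.finrank_eq_card_basis bs
    rw [Module.finrank_fin_fun] at this
    rw [← this, Fintype.card_fin]
  let E : (Σ i, Fin (Module.finrank F (V i))) ≃ Fin n := Fintype.equivOfCardEq hcard
  let bb : Module.Basis (Fin n) F (Fin n → F) := bs.reindex E
  let b : Fin n → Fin t := fun k => (E.symm k).1
  have hbb : ∀ i k, f i (bb k) = if b k = i then bb k else 0 := by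
    intro i k
    have hk : bb k ∈ V (b k) := by
      change bs.reindex E k ∈ _
      rw [Module.Basis.reindex_apply]
      exact hint.collectedBasis_mem (fun i => Module.finBasis F (V i)) (E.symm k)
    by_cases h : b k = i
    · rw [if_pos h]
      rw [h] at hk
      exact hmem i _ hk
    · rw [if_neg h]
      exact hmem0 i (b k) (fun hh => h hh.symm) _ hk
  let Pm : MM := (Pi.basisFun F (Fin n)).toMatrix bb
  let Qm : MM := bb.toMatrix (Pi.basisFun F (Fin n))
  have hPQ : Pm * Qm = 1 := Module.Basis.toMatrix_mul_toMatrix_flip _ _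
  have hQP : Qm * Pm = 1 := Module.Basis.toMatrix_mul_toMatrix_flip _ _
  let P : GLL := ⟨Pm, Qm, hPQ, hQP⟩
  refine ⟨P, b, fun i => ?_⟩
  have hP : ∀ a k, Pm a k = bb k a := fun a k => by
    change (Pi.basisFun F (Fin n)).toMatrix bb a k = _
    rw [Module.Basis.toMatrix_apply]
    simp
  have key : e i * Pm = Pm * blk b i := by
    ext a k
    rw [blk, Matrix.mul_diagonal]
    have h1 : (e i * Pm) a k = (f i (bb k)) a := by
      change _ = (Matrix.toLin' (e i) (bb k)) a
      rw [Matrix.toLin'_apply, Matrix.mul_apply, Matrix.mulVec, dotProduct]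
      exact Finset.sum_congr rfl fun j _ => by rw [hP]
    rw [h1, hbb i k, hP]
    split_ifs <;> simp
  rw [cM_apply]
  change e i = Pm * blk b i * Qm
  rw [← key, mul_assoc, hPQ, mul_one]

end Cfsg.Agent.H599.TW
end

-- part: H599/TW/Mon
section
/-!
# S3694: monomial matrices (helper599)
-/

set_option autoImplicit false
set_option linter.unusedSectionVars false
set_option linter.style.haveILetI false

namespace Cfsg.Agent.H599.TW

open Subgroup Cfsg.Agent.H607.TW

universe u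

variable {F : Type} [Field F] {n : ℕ}

local notation "MM" => Matrix (Fin n) (Fin n) F
local notation "GLL" => Matrix.GeneralLinearGroup (Fin n) F
local notation "SLL" => Matrix.SpecialLinearGroup (Fin n) F

/-- The monomial matrix with `e_k ↦ d_k e_{σ k}`. -/
def mon (σ : Equiv.Perm (Fin n)) (d : Fin n → F) : MM := Matrix.of fun i k => if i = σ k then d k else 0

theorem mon_apply (σ : Equiv.Perm (Fin n)) (d : Fin n → F) (i k : Fin n) : mon σ d i k = if i = σ k then d k else 0 := rfl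

theorem mon_mul (σ τ : Equiv.Perm (Fin n)) (d f : Fin n → F) :
    mon σ d * mon τ f = mon (σ * τ) (fun k => d (τ k) * f k) := by
  ext i k
  rw [Matrix.mul_apply, Finset.sum_eq_single (τ k)]
  · rw [mon_apply, mon_apply, mon_apply, if_pos rfl, Equiv.Perm.mul_apply]
    split_ifs <;> simp
  · intro j _ hj
    rw [mon_apply τ f j k, if_neg hj, mul_zero]
  · intro h
    exact absurd (Finset.mem_univ _) h

theorem mon_one (d : Fin n → F) : mon 1 d = Matrix.diagonal d := by
  ext i k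
  rw [mon_apply, Matrix.diagonal_apply, Equiv.Perm.one_apply]
  by_cases h : i = k
  · subst h; simp
  · simp [h]

theorem mon_inj {σ τ : Equiv.Perm (Fin n)} {d f : Fin n → F} (hd : ∀ k, d k ≠ 0) (h : mon σ d = mon τ f) :
    σ = τ ∧ d = f := by
  have h1 : ∀ k, σ k = τ k := fun k => by
    have h2 := congrFun (congrFun h (σ k)) k
    rw [mon_apply, mon_apply, if_pos rfl] at h2
    by_contra h3
    rw [if_neg h3] at h2
    exact hd k h2
  have h4 : σ = τ := Equiv.ext h1
  refine ⟨h4, funext fun k => ?_⟩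
  have h2 := congrFun (congrFun h (σ k)) k
  rw [mon_apply, mon_apply, if_pos rfl, if_pos (h1 k)] at h2
  exact h2

theorem det_mon (σ : Equiv.Perm (Fin n)) (d : Fin n → F) :
    (mon σ d).det = ((Equiv.Perm.sign σ : ℤˣ) : ℤ) * ∏ k, d k := by
  have : mon σ d = (Equiv.Perm.permMatrix F σ⁻¹) * Matrix.diagonal d := by
    ext i k
    rw [mon_apply, Matrix.mul_diagonal, Equiv.Perm.permMatrix, PEquiv.toMatrix_apply]
    by_cases h : i = σ k
    · subst h; simp
    · have h' : ¬ k = σ⁻¹ i := by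
        intro hk
        rw [hk] at h
        simp at h
      rw [if_neg h]
      rw [if_neg]
      · simp
      · intro hh
        apply h'
        simpa [Equiv.toPEquiv_apply, eq_comm] using hh
  rw [this, Matrix.det_mul, Matrix.det_diagonal, Matrix.det_permutation, Equiv.Perm.sign_inv]

/-- The stabilizer of the standard frame. -/
def IsMon (s : MM) : Prop := ∀ k, ∃ l, s * blk (id : Fin n → Fin n) k = blk (id : Fin n → Fin n) l * s

theorem mul_blk {t : ℕ} (b : Fin n → Fin t) (s : MM) (i : Fin t) (a k : Fin n) :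
    (s * blk b i : MM) a k = if b k = i then s a k else 0 := by
  rw [blk, Matrix.mul_diagonal]
  split_ifs <;> simp

theorem blk_mul {t : ℕ} (b : Fin n → Fin t) (s : MM) (i : Fin t) (a k : Fin n) :
    (blk b i * s : MM) a k = if b a = i then s a k else 0 := by
  rw [blk, Matrix.diagonal_mul]
  split_ifs <;> simp

theorem isMon_mon (σ : Equiv.Perm (Fin n)) (d : Fin n → F) : IsMon (mon σ d) := by
  intro k
  refine ⟨σ k, ?_⟩
  ext a c
  rw [mul_blk, blk_mul, mon_apply]
  simp only [id_eq]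
  by_cases h1 : a = σ c
  · subst h1
    by_cases h2 : c = k
    · subst h2; simp
    · rw [if_neg h2, if_neg (fun hh => h2 (σ.injective hh))]
  · rw [if_neg h1]; simp

theorem exists_mon {s : MM} (hs : IsMon s) (hd : s.det ≠ 0) : ∃ (σ : Equiv.Perm (Fin n)) (d : Fin n → F),
    s = mon σ d ∧ ∀ k, d k ≠ 0 := by
  classical
  choose f hf using hs
  have h1 : ∀ k a, a ≠ f k → s a k = 0 := fun k a ha => by
    have := congrFun (congrFun (hf k) a) k
    rw [mul_blk, blk_mul] at this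
    simp only [id_eq, if_true] at this
    rw [this, if_neg ha]
  have h2 : ∀ k, s (f k) k ≠ 0 := fun k hk => by
    apply hd
    apply Matrix.det_eq_zero_of_column_eq_zero k
    intro a
    by_cases ha : a = f k
    · rw [ha, hk]
    · exact h1 k a ha
  have h3 : Function.Injective f := fun k l hkl => by
    by_contra hne
    have := congrFun (congrFun (hf k) (f k)) l
    rw [mul_blk, blk_mul] at this
    simp only [id_eq, if_true] at this
    rw [if_neg (fun h => hne h.symm)] at this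
    rw [hkl] at this
    exact h2 l this.symm
  let σ : Equiv.Perm (Fin n) := Equiv.ofBijective f (Finite.injective_iff_bijective.mp h3)
  refine ⟨σ, fun k => s (f k) k, ?_, h2⟩
  ext a k
  rw [mon_apply]
  change s a k = if a = f k then _ else _
  split_ifs with h
  · rw [h]
  · exact h1 k a h

/-- The number of monomial matrices in `SL_n(F)`. -/
theorem card_isMon_le [Fintype F] : Nat.card {s : SLL // IsMon (s : MM)} ≤ n.factorial * Fintype.card F ^ n := by
  classical
  have hinj : ∃ f : {s : SLL // IsMon (s : MM)} → Equiv.Perm (Fin n) × (Fin n → F), Function.Injective f := by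
    have h1 : ∀ s : {s : SLL // IsMon (s : MM)}, ∃ p : Equiv.Perm (Fin n) × (Fin n → F), ((s : SLL) : MM) = mon p.1 p.2 := by
      rintro ⟨s, hs⟩
      obtain ⟨σ, d, h, _⟩ := exists_mon hs (by rw [s.2]; exact one_ne_zero)
      exact ⟨(σ, d), h⟩
    choose f hf using h1
    refine ⟨f, fun s s' hss => ?_⟩
    apply Subtype.ext
    apply Subtype.ext
    rw [hf s, hf s', hss]
  obtain ⟨f, hf⟩ := hinj
  have := Nat.card_le_card_of_injective f hf
  refine this.trans (le_of_eq ?_)
  rw [Nat.card_prod, Nat.card_perm, Nat.card_eq_fintype_card, Nat.card_eq_fintype_card, Fintype.card_fin,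
    Fintype.card_fun, Fintype.card_fin]

/-- A monomial matrix of determinant one with given permutation, entries `±1`. -/
theorem exists_mon_pm (hn : 0 < n) (σ : Equiv.Perm (Fin n)) :
    ∃ (s : SLL) (d : Fin n → F), (s : MM) = mon σ d ∧ ∀ k, d k = 1 ∨ d k = -1 := by
  classical
  have hs : (((Equiv.Perm.sign σ : ℤˣ) : ℤ) : F) * (((Equiv.Perm.sign σ : ℤˣ) : ℤ) : F) = 1 := by
    rw [← Int.cast_mul, ← Units.val_mul, Int.units_mul_self, Units.val_one, Int.cast_one]
  have hs0 : (((Equiv.Perm.sign σ : ℤˣ) : ℤ) : F) = 1 ∨ (((Equiv.Perm.sign σ : ℤˣ) : ℤ) : F) = -1 := by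
    rcases Int.units_eq_one_or (Equiv.Perm.sign σ) with h | h <;> rw [h] <;> simp
  let d : Fin n → F := Function.update (fun _ => (1 : F)) ⟨0, hn⟩ (((Equiv.Perm.sign σ : ℤˣ) : ℤ) : F)
  refine ⟨⟨mon σ d, ?_⟩, d, rfl, ?_⟩
  · rw [det_mon, Finset.prod_update_of_mem (Finset.mem_univ _)]
    simp only [hs, _root_.Finset.prod_const_one, _root_.mul_one]
  · intro k
    by_cases hk : k = ⟨0, hn⟩
    · subst hk
      simp only [d, Function.update_self]
      exact hs0
    · left
      simp only [d, Function.update_of_ne hk]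

/-- A monomial matrix of determinant one with given permutation. -/
theorem exists_mon_det (hn : 0 < n) (σ : Equiv.Perm (Fin n)) : ∃ (s : SLL) (d : Fin n → F), (s : MM) = mon σ d ∧ ∀ k, d k ≠ 0 := by
  obtain ⟨s, d, h1, h2⟩ := exists_mon_pm (F := F) hn σ
  refine ⟨s, d, h1, fun k => ?_⟩
  rcases h2 k with h | h <;> rw [h]
  · exact one_ne_zero
  · exact neg_ne_zero.mpr one_ne_zero

/-- The diagonal matrix with `x` at `i`, `x⁻¹` at `j`. -/
def tor (i j : Fin n) (x : F) : Fin n → F := fun k => if k = i then x else if k = j then x⁻¹ else 1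

theorem prod_tor {i j : Fin n} (hij : i ≠ j) {x : F} (hx : x ≠ 0) : ∏ k, tor i j x k = 1 := by
  classical
  rw [← Finset.mul_prod_erase Finset.univ _ (Finset.mem_univ i)]
  rw [← Finset.mul_prod_erase (Finset.univ.erase i) _ (Finset.mem_erase.mpr ⟨hij.symm, Finset.mem_univ j⟩)]
  rw [Finset.prod_eq_one]
  · simp [tor, hij.symm, mul_inv_cancel₀ hx]
  · intro k hk
    simp only [Finset.mem_erase] at hk
    simp [tor, hk.1, hk.2.1]

/-- The element of `SL_n(F)`. -/
def torS (i j : Fin n) (hij : i ≠ j) (x : F) (hx : x ≠ 0) : SLL :=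
  ⟨Matrix.diagonal (tor i j x), by rw [Matrix.det_diagonal, prod_tor hij hx]⟩

theorem torS_coe (i j : Fin n) (hij : i ≠ j) (x : F) (hx : x ≠ 0) :
    ((torS i j hij x hx : SLL) : MM) = Matrix.diagonal (tor i j x) := rfl

theorem tor_ne (i j k : Fin n) {x : F} (hx : x ≠ 0) : tor i j x k ≠ 0 := by
  unfold tor
  split_ifs
  · exact hx
  · exact inv_ne_zero hx
  · exact one_ne_zero

theorem isMon_diagonal (d : Fin n → F) : IsMon (Matrix.diagonal d) := by
  rw [← mon_one]; exact isMon_mon 1 d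

theorem mon_inv {s : SLL} {σ : Equiv.Perm (Fin n)} {d : Fin n → F} (h : (s : MM) = mon σ d) (hd : ∀ k, d k ≠ 0) :
    ((s⁻¹ : SLL) : MM) = mon σ⁻¹ (fun k => (d (σ⁻¹ k))⁻¹) := by
  have h1 : (s : MM) * mon σ⁻¹ (fun k => (d (σ⁻¹ k))⁻¹) = 1 := by
    rw [h, mon_mul, mul_inv_cancel, mon_one]
    rw [← Matrix.diagonal_one]
    congr 1
    funext k
    exact mul_inv_cancel₀ (hd _)
  have h2 : ((s⁻¹ : SLL) : MM) * (s : MM) = 1 := by
    rw [← Matrix.SpecialLinearGroup.coe_mul, inv_mul_cancel, Matrix.SpecialLinearGroup.coe_one]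
  calc ((s⁻¹ : SLL) : MM) = ((s⁻¹ : SLL) : MM) * ((s : MM) * mon σ⁻¹ (fun k => (d (σ⁻¹ k))⁻¹)) := by rw [h1, mul_one]
    _ = _ := by rw [← mul_assoc, h2, one_mul]

theorem mon_pow (σ : Equiv.Perm (Fin n)) (d : Fin n → F) (m : ℕ) : ∃ f : Fin n → F, mon σ d ^ m = mon (σ ^ m) f := by
  induction m with
  | zero => exact ⟨fun _ => 1, by rw [pow_zero, pow_zero, mon_one]; exact Matrix.diagonal_one.symm⟩
  | succ m ih =>
    obtain ⟨f, hf⟩ := ih
    exact ⟨_, by rw [pow_succ, hf, mon_mul, pow_succ]⟩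

theorem mon_smul (c : F) (σ : Equiv.Perm (Fin n)) (d : Fin n → F) : c • mon σ d = mon σ (fun k => c * d k) := by
  ext i k
  rw [Matrix.smul_apply, mon_apply, mon_apply, smul_eq_mul]
  split_ifs <;> simp

theorem smul_one_eq (c : F) : c • (1 : MM) = mon 1 (fun _ => c) := by
  rw [mon_one]
  ext i k
  by_cases h : i = k
  · subst h; simp
  · simp [h]

end Cfsg.Agent.H599.TW
end

-- part: H599/TW/One
section
/-!
# S3694: groups of monomial matrices, one frame (helper599)
-/

set_option autoImplicit false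
set_option linter.unusedSectionVars false
set_option linter.style.haveILetI false

namespace Cfsg.Agent.H599.TW

open Subgroup Cfsg.Agent.H607.TW

universe u

variable {F : Type} [Field F] {n : ℕ}

local notation "MM" => Matrix (Fin n) (Fin n) F
local notation "GLL" => Matrix.GeneralLinearGroup (Fin n) F
local notation "SLL" => Matrix.SpecialLinearGroup (Fin n) F

theorem inv_self' (σ : Equiv.Perm (Fin n)) (k : Fin n) : σ⁻¹ (σ k) = k := by simp

theorem self_inv' (σ : Equiv.Perm (Fin n)) (k : Fin n) : σ (σ⁻¹ k) = k := by simp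

theorem mon_data {s : SLL} (hs : IsMon (s : MM)) : ∃ (σ : Equiv.Perm (Fin n)) (d : Fin n → F),
    (s : MM) = mon σ d ∧ ∀ k, d k ≠ 0 := exists_mon hs (by rw [s.2]; exact one_ne_zero)

/-- `n ≥ 5`: a normal `r`-subgroup of the monomial group is diagonal. -/
theorem diag_of_five (hn : 5 ≤ n) {K : Subgroup SLL} {r : ℕ} (hr : r.Prime)
    (hnorm : ∀ s : SLL, IsMon (s : MM) → ∀ y ∈ K, s * y * s⁻¹ ∈ K)
    (hpow : ∀ y ∈ K, ∃ (k : ℕ) (c : F), ((y ^ r ^ k : SLL) : MM) = c • (1 : MM)) {y : SLL} (hy : y ∈ K)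
    {σ : Equiv.Perm (Fin n)} {d : Fin n → F} (hyd : (y : MM) = mon σ d) (hd : ∀ k, d k ≠ 0) : σ = 1 := by
  classical
  let Q : Subgroup (Equiv.Perm (Fin n)) :=
    { carrier := {σ | ∃ y ∈ K, ∃ d : Fin n → F, (∀ k, d k ≠ 0) ∧ (y : MM) = mon σ d}
      mul_mem' := by
        rintro σ τ ⟨y, hy, d, hd, h⟩ ⟨z, hz, f, hf, h'⟩
        exact ⟨y * z, K.mul_mem hy hz, _, fun k => mul_ne_zero (hd _) (hf _), by
          rw [Matrix.SpecialLinearGroup.coe_mul, h, h', mon_mul]⟩
      one_mem' := ⟨1, K.one_mem, fun _ => 1, fun _ => one_ne_zero, by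
        rw [Matrix.SpecialLinearGroup.coe_one, ← smul_one_eq, one_smul]⟩
      inv_mem' := by
        rintro σ ⟨y, hy, d, hd, h⟩
        exact ⟨y⁻¹, K.inv_mem hy, _, fun k => inv_ne_zero (hd _), mon_inv h hd⟩ }
  have hQn : Q.Normal := by
    refine ⟨?_⟩
    rintro σ ⟨y, hy, d, hd, h⟩ τ
    obtain ⟨s, f, hs, hf⟩ := exists_mon_det (F := F) (by omega : 0 < n) τ
    refine ⟨s * y * s⁻¹, hnorm s (by rw [hs]; exact isMon_mon _ _) y hy, _, ?_, by
      rw [Matrix.SpecialLinearGroup.coe_mul, Matrix.SpecialLinearGroup.coe_mul, mon_inv hs hf, hs, h, mon_mul, mon_mul]⟩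
    intro k
    exact mul_ne_zero (mul_ne_zero (hf _) (hd _)) (inv_ne_zero (hf _))
  have hQr : ∀ σ ∈ Q, ∃ k : ℕ, σ ^ r ^ k = 1 := by
    rintro σ ⟨y, hy, d, hd, h⟩
    obtain ⟨k, c, hk⟩ := hpow y hy
    refine ⟨k, ?_⟩
    obtain ⟨f, hf⟩ := mon_pow σ d (r ^ k)
    rw [Matrix.SpecialLinearGroup.coe_pow, h, hf, smul_one_eq] at hk
    have hc : c ≠ 0 := by
      intro hc
      have h0 : ((y ^ r ^ k : SLL) : MM).det = 1 := (y ^ r ^ k : SLL).2
      rw [Matrix.SpecialLinearGroup.coe_pow, h, hf, hk, det_mon] at h0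
      rw [hc] at h0
      rw [Finset.prod_const, Finset.card_univ, Fintype.card_fin, zero_pow (by omega), mul_zero] at h0
      exact zero_ne_one h0
    exact ((mon_inj (fun _ => hc) hk.symm).1).symm
  by_contra hne
  have hσQ : σ ∈ Q := ⟨y, hy, d, hd, hyd⟩
  have hnt : Nontrivial Q := ⟨⟨σ, hσQ⟩, 1, fun h => hne (congrArg Subtype.val h)⟩
  have hle : alternatingGroup (Fin n) ≤ Q :=
    Equiv.Perm.alternatingGroup_le_of_normal (by rw [Nat.card_eq_fintype_card, Fintype.card_fin]; exact hn) hnt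
  have h01 : (⟨0, by omega⟩ : Fin n) ≠ ⟨1, by omega⟩ := fun h => by simp at h
  have h02 : (⟨0, by omega⟩ : Fin n) ≠ ⟨2, by omega⟩ := fun h => by simp at h
  have h12 : (⟨1, by omega⟩ : Fin n) ≠ ⟨2, by omega⟩ := fun h => by simp at h
  have h23 : (⟨2, by omega⟩ : Fin n) ≠ ⟨3, by omega⟩ := fun h => by simp at h
  by_cases h2 : r = 2
  · subst h2
    -- a 3-cycle
    let c : Equiv.Perm (Fin n) := Equiv.swap ⟨0, by omega⟩ ⟨1, by omega⟩ * Equiv.swap ⟨0, by omega⟩ ⟨2, by omega⟩
    have hc3 : c.IsThreeCycle := Equiv.Perm.isThreeCycle_swap_mul_swap_same h01 h02 h12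
    have hcQ : c ∈ Q := hle hc3.mem_alternatingGroup
    obtain ⟨k, hk⟩ := hQr c hcQ
    have ho : orderOf c = 3 := hc3.orderOf
    have := orderOf_dvd_of_pow_eq_one hk
    rw [ho] at this
    have := Nat.Prime.dvd_of_dvd_pow Nat.prime_three this
    omega
  · let c : Equiv.Perm (Fin n) := Equiv.swap ⟨0, by omega⟩ ⟨1, by omega⟩ * Equiv.swap ⟨2, by omega⟩ ⟨3, by omega⟩
    have hcA : c ∈ alternatingGroup (Fin n) := by
      rw [Equiv.Perm.mem_alternatingGroup]
      simp only [c]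
      rw [Equiv.Perm.sign_mul, Equiv.Perm.sign_swap h01, Equiv.Perm.sign_swap h23]
      rfl
    obtain ⟨k, hk⟩ := hQr c (hle hcA)
    have hcc : c * c = 1 := by
      have hdis : Commute (Equiv.swap (⟨0, by omega⟩ : Fin n) ⟨1, by omega⟩) (Equiv.swap ⟨2, by omega⟩ ⟨3, by omega⟩) := by
        apply Equiv.Perm.Disjoint.commute
        apply Equiv.Perm.disjoint_swap_swap
        simp
      simp only [c]
      rw [mul_assoc, ← mul_assoc (Equiv.swap (⟨2, _⟩ : Fin n) ⟨3, _⟩), ← hdis.eq, mul_assoc, Equiv.swap_mul_self, mul_one,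
        Equiv.swap_mul_self]
    have h2' : c ^ 2 = 1 := by rw [pow_two, hcc]
    have hcop : Nat.Coprime 2 (r ^ k) := by
      apply Nat.Coprime.pow_right
      rw [Nat.coprime_primes Nat.prime_two hr]
      exact fun h => h2 h.symm
    have ho : orderOf c = 1 := Nat.eq_one_of_dvd_coprimes hcop (orderOf_dvd_of_pow_eq_one h2') (orderOf_dvd_of_pow_eq_one hk)
    have hc1 : c = 1 := orderOf_eq_one_iff.mp ho
    have h4 := congrArg (fun g : Equiv.Perm (Fin n) => g ⟨0, by omega⟩) hc1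
    simp only [c, Equiv.Perm.mul_apply, Equiv.Perm.one_apply] at h4
    rw [Equiv.swap_apply_of_ne_of_ne (a := (⟨2, _⟩ : Fin n)) (b := ⟨3, _⟩) h02 (fun h => by simp at h), Equiv.swap_apply_left] at h4
    exact h01 h4.symm

/-- separation: a matrix commuting with a nonscalar group of diagonal matrices invariant under all monomials is diagonal -/
theorem diag_of_comm {K : Subgroup SLL} (hn : 0 < n)
    (hnorm : ∀ s : SLL, IsMon (s : MM) → ∀ y ∈ K, s * y * s⁻¹ ∈ K) {y : SLL} (hy : y ∈ K) {d : Fin n → F}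
    (hyd : (y : MM) = Matrix.diagonal d) {i j : Fin n} (hij : d i ≠ d j) {x : MM} (hx : ∀ y ∈ K, x * (y : MM) = (y : MM) * x)
    {k l : Fin n} (hkl : k ≠ l) : x k l = 0 := by
  classical
  have hij' : i ≠ j := fun h => hij (by rw [h])
  have hd0 : ∀ k, d k ≠ 0 := fun k hk => by
    have h := y.2
    rw [hyd, Matrix.det_diagonal, Finset.prod_eq_zero (Finset.mem_univ k) hk] at h
    exact zero_ne_one h
  -- a permutation with i ↦ k, j ↦ l
  obtain ⟨τ, h1, h2⟩ : ∃ τ : Equiv.Perm (Fin n), τ i = k ∧ τ j = l := by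
    refine ⟨Equiv.swap (Equiv.swap i k j) l * Equiv.swap i k, ?_, ?_⟩
    · rw [Equiv.Perm.mul_apply, Equiv.swap_apply_left, Equiv.swap_apply_of_ne_of_ne]
      · intro h
        have : Equiv.swap i k i = Equiv.swap i k j := by rw [Equiv.swap_apply_left]; exact h
        exact hij' ((Equiv.swap i k).injective this)
      · exact hkl
    · rw [Equiv.Perm.mul_apply, Equiv.swap_apply_left]
  obtain ⟨s, f, hs, hf⟩ := exists_mon_det (F := F) hn τ
  have hm := hnorm s (by rw [hs]; exact isMon_mon _ _) y hy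
  have he : ((s * y * s⁻¹ : SLL) : MM) = Matrix.diagonal (fun a => d (τ⁻¹ a)) := by
    rw [Matrix.SpecialLinearGroup.coe_mul, Matrix.SpecialLinearGroup.coe_mul, mon_inv hs hf, hs, hyd, ← mon_one, mon_mul,
      mon_mul, mul_one, mul_inv_cancel, mon_one]
    congr 1
    funext a
    rw [Equiv.Perm.one_apply, mul_comm (f _) (d _), mul_assoc, mul_inv_cancel₀ (hf _), mul_one]
  have h3 := hx _ hm
  rw [he] at h3
  have h4 := congrFun (congrFun h3 k) l
  rw [Matrix.mul_diagonal, Matrix.diagonal_mul, ← h1, ← h2, inv_self', inv_self'] at h4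
  rw [h1, h2] at h4
  have h5 : (d j - d i) * x k l = 0 := by
    rw [sub_mul, mul_comm (d j), h4, sub_self]
  rcases mul_eq_zero.mp h5 with h6 | h6
  · exact absurd (sub_eq_zero.mp h6).symm hij
  · exact h6

/-- `q ≥ 5`: a nonscalar subgroup invariant under the monomials contains a nonscalar diagonal matrix. -/
theorem exists_diag (hn : 3 ≤ n) {K : Subgroup SLL} (hmon : ∀ y ∈ K, IsMon (y : MM))
    (hnorm : ∀ s : SLL, IsMon (s : MM) → ∀ y ∈ K, s * y * s⁻¹ ∈ K) (hq : ∃ x : F, x ≠ 0 ∧ x ^ 2 ≠ 1 ∧ x ^ 3 ≠ 1)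
    {y : SLL} (hy : y ∈ K) (hns : ¬ ∃ c : F, (y : MM) = c • (1 : MM)) :
    ∃ z ∈ K, ∃ d : Fin n → F, (z : MM) = Matrix.diagonal d ∧ ∃ i j, d i ≠ d j := by
  classical
  obtain ⟨σ, d, hyd, hd⟩ := mon_data (hmon y hy)
  by_cases hσ : σ = 1
  · subst hσ
    rw [mon_one] at hyd
    refine ⟨y, hy, d, hyd, ?_⟩
    by_contra hcon
    push Not at hcon
    apply hns
    refine ⟨d ⟨0, by omega⟩, ?_⟩
    rw [hyd, smul_one_eq, mon_one]
    congr 1
    funext k
    exact hcon _ _
  · obtain ⟨x, hx0, hx2, hx3⟩ := hq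
    obtain ⟨i, hi⟩ : ∃ i, σ i ≠ i := by
      by_contra hcon
      push Not at hcon
      exact hσ (Equiv.ext hcon)
    -- a third index
    obtain ⟨l, hl1, hl2⟩ : ∃ l : Fin n, l ≠ i ∧ l ≠ σ i := by
      have hc : ({i, σ i} : Finset (Fin n)).card < (Finset.univ : Finset (Fin n)).card := by
        rw [Finset.card_univ, Fintype.card_fin]
        exact lt_of_le_of_lt (Finset.card_le_two) (by omega)
      obtain ⟨l, _, hl⟩ := Finset.exists_mem_notMem_of_card_lt_card hc
      simp only [Finset.mem_insert, Finset.mem_singleton, not_or] at hl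
      exact ⟨l, hl.1, hl.2⟩
    let t : SLL := torS i l hl1.symm x hx0
    have ht : (t : MM) = mon 1 (tor i l x) := by rw [mon_one]; rfl
    have hti : ((t⁻¹ : SLL) : MM) = mon 1 (fun k => (tor i l x k)⁻¹) := by
      have := mon_inv ht (fun k => tor_ne i l k hx0)
      rwa [inv_one] at this
    have hyi := mon_inv hyd hd
    refine ⟨y * (t * y⁻¹ * t⁻¹), K.mul_mem hy (hnorm t (by rw [ht]; exact isMon_mon _ _) _ (K.inv_mem hy)), _, by
      rw [Matrix.SpecialLinearGroup.coe_mul, Matrix.SpecialLinearGroup.coe_mul, Matrix.SpecialLinearGroup.coe_mul,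
        hti, hyi, ht, hyd, mon_mul, mon_mul, mon_mul, one_mul, mul_one, mul_inv_cancel, mon_one], σ i, i, ?_⟩
    simp only [Equiv.Perm.one_apply, inv_self']
    have e1 : tor i l x i = x := by simp [tor]
    have e2 : tor i l x (σ i) = 1 := by simp [tor, hi, hl2.symm]
    have e3 : tor i l x (σ⁻¹ i) = 1 ∨ tor i l x (σ⁻¹ i) = x⁻¹ := by
      have h1 : σ⁻¹ i ≠ i := fun h => hi (by
        have := congrArg σ h
        rw [self_inv'] at this
        exact this.symm)
      unfold tor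
      rw [if_neg h1]
      split_ifs
      · right; rfl
      · left; rfl
    rw [e1, e2, inv_one, mul_one]
    intro hcon
    have h1 : d i * (x * (d i)⁻¹) = x := by
      rw [mul_left_comm, mul_inv_cancel₀ (hd i), mul_one]
    rw [h1] at hcon
    have h2 : d (σ⁻¹ i) * (tor i l x (σ⁻¹ i) * (d (σ⁻¹ i))⁻¹ * x⁻¹) = tor i l x (σ⁻¹ i) * x⁻¹ := by
      linear_combination (tor i l x (σ⁻¹ i) * x⁻¹) * mul_inv_cancel₀ (hd (σ⁻¹ i))
    rw [h2] at hcon
    rcases e3 with h3 | h3
    · rw [h3, one_mul] at hcon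
      apply hx2
      rw [pow_two]
      nth_rewrite 1 [hcon]
      exact inv_mul_cancel₀ hx0
    · rw [h3] at hcon
      apply hx3
      have : x * (x * x) = 1 := by
        nth_rewrite 1 [hcon]
        field_simp
      rw [← this]; ring

/-- The exponent after one commutator with a monomial. -/
def dl (f : Fin n → Fin n) (k : Fin n → ℤ) : Fin n → ℤ := fun i => k i - k (f i)

theorem three_dec : ∀ f : Fin 3 → Fin 3, (∀ a b, f a = f b → a = b) → (∃ a, f a ≠ a) →
    ∃ a b : Fin 3, a ≠ b ∧ ∃ i j : Fin 3,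
      let D := dl f (dl f (dl f (fun c => if c = a then 1 else if c = b then -1 else 0)));
      D i - D j ≠ 0 ∧ (D i - D j).natAbs ≤ 16 := by
  decide +kernel

theorem four_dec : ∀ f : Fin 4 → Fin 4, (∀ a b, f a = f b → a = b) → (∃ a, f a ≠ a) →
    ∃ a b : Fin 4, a ≠ b ∧ ∃ i j : Fin 4,
      let D := dl f (dl f (dl f (fun c => if c = a then 1 else if c = b then -1 else 0)));
      D i - D j ≠ 0 ∧ (D i - D j).natAbs ≤ 16 := by
  decide +kernel

/-- commutator `y⁻¹ z⁻¹ y z` -/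
def cc {H : Type*} [Group H] (y z : H) : H := y⁻¹ * z⁻¹ * y * z

/-- diagonal of powers -/
def pw (x : F) (k : Fin n → ℤ) : Fin n → F := fun i => x ^ k i

theorem cc_diag {y s : SLL} {σ : Equiv.Perm (Fin n)} {d : Fin n → F} (hyd : (y : MM) = mon σ d) (hd : ∀ k, d k ≠ 0)
    {x : F} (hx : x ≠ 0) {k : Fin n → ℤ} (hs : (s : MM) = Matrix.diagonal (pw x k)) :
    ((cc y s : SLL) : MM) = Matrix.diagonal (pw x (dl σ k)) := by
  have h1 := mon_inv hyd hd
  have hs' : (s : MM) = mon 1 (pw x k) := by rw [hs, mon_one]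
  have h2 := mon_inv hs' (fun i => zpow_ne_zero _ hx)
  rw [inv_one] at h2
  rw [cc, Matrix.SpecialLinearGroup.coe_mul, Matrix.SpecialLinearGroup.coe_mul, Matrix.SpecialLinearGroup.coe_mul,
    h1, h2, hs', hyd, mon_mul, mon_mul, mon_mul, mul_one, mul_one, inv_mul_cancel, mon_one]
  congr 1
  funext i
  simp only [Equiv.Perm.one_apply, inv_self', pw, dl]
  rw [zpow_sub₀ hx]
  have := mul_inv_cancel₀ (hd i)
  rw [div_eq_mul_inv]
  linear_combination ((x ^ k (σ i))⁻¹ * x ^ k i) * this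

theorem pow_eq_one_of_comm (hn : n = 3 ∨ n = 4) {y : SLL} {σ : Equiv.Perm (Fin n)} {d : Fin n → F}
    (hyd : (y : MM) = mon σ d) (hd : ∀ k, d k ≠ 0) (hσ : σ ≠ 1) {x : F} (hx : x ≠ 0)
    (H : ∀ t : SLL, (∃ f, (t : MM) = Matrix.diagonal f) → ∃ c : F, ((cc y (cc y (cc y t)) : SLL) : MM) = c • (1 : MM)) :
    ∃ m : ℕ, 0 < m ∧ m ≤ 16 ∧ x ^ m = 1 := by
  obtain ⟨i₀, hi₀⟩ : ∃ i, σ i ≠ i := by
    by_contra hcon
    push Not at hcon
    exact hσ (Equiv.ext hcon)
  have key : ∃ a b : Fin n, a ≠ b ∧ ∃ i j : Fin n,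
      let D := dl σ (dl σ (dl σ (fun c => if c = a then 1 else if c = b then -1 else 0)));
      D i - D j ≠ 0 ∧ (D i - D j).natAbs ≤ 16 := by
    rcases hn with rfl | rfl
    · exact three_dec σ (fun a b h => σ.injective h) ⟨i₀, hi₀⟩
    · exact four_dec σ (fun a b h => σ.injective h) ⟨i₀, hi₀⟩
  obtain ⟨a, b, hab, i, j, h1, h2⟩ := key
  have ht : ((torS a b hab x hx : SLL) : MM) = Matrix.diagonal (pw x (fun c => if c = a then 1 else if c = b then -1 else 0)) := by
    rw [torS_coe]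
    congr 1
    funext c
    simp only [tor, pw]
    split_ifs <;> simp
  obtain ⟨c, hc⟩ := H (torS a b hab x hx) ⟨_, torS_coe a b hab x hx⟩
  rw [cc_diag hyd hd hx (cc_diag hyd hd hx (cc_diag hyd hd hx ht))] at hc
  set D := dl σ (dl σ (dl σ (fun c => if c = a then 1 else if c = b then -1 else 0))) with hD
  have h3 := congrFun (congrFun hc i) i
  have h4 := congrFun (congrFun hc j) j
  simp only [Matrix.diagonal_apply_eq, Matrix.smul_apply, Matrix.one_apply_eq, smul_eq_mul, mul_one, pw] at h3 h4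
  have h5 : x ^ (D i - D j) = 1 := by
    rw [zpow_sub₀ hx, h3, h4, div_self]
    rw [← h4]
    exact zpow_ne_zero _ hx
  refine ⟨(D i - D j).natAbs, Int.natAbs_pos.mpr h1, h2, ?_⟩
  rcases Int.natAbs_eq (D i - D j) with h6 | h6
  · rw [h6, zpow_natCast] at h5
    exact h5
  · rw [h6, zpow_neg, zpow_natCast, inv_eq_one] at h5
    exact h5

end Cfsg.Agent.H599.TW
end

-- part: H599/TW/Cent
section
/-!
# S3694: lifts, and the elements centralising the stabilizer of a frame of points (helper599)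
-/

set_option autoImplicit false
set_option linter.unusedSectionVars false
set_option linter.style.haveILetI false

namespace Cfsg.Agent.H599.TW

open Subgroup Cfsg.Agent.H607.TW

universe u

variable {F : Type} [Field F] {n : ℕ}

local notation "MM" => Matrix (Fin n) (Fin n) F
local notation "GLL" => Matrix.GeneralLinearGroup (Fin n) F
local notation "SLL" => Matrix.SpecialLinearGroup (Fin n) F

theorem map_mul' (σ : F ≃+* F) (x y : MM) : (x * y).map σ = x.map σ * y.map σ := by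
  rw [Matrix.map_mul]

theorem tauP_mul (B : GLL) (σ : F ≃+* F) (x y : MM) : tauP B σ (x * y) = tauP B σ x * tauP B σ y := by
  rw [tauP_apply, tauP_apply, tauP_apply, map_mul']
  calc _ = (B : MM) * x.map σ * 1 * y.map σ * ((B⁻¹ : GLL) : MM) := by simp only [mul_assoc, one_mul]
    _ = _ := by rw [← coe_inv_mul B]; simp only [mul_assoc]

theorem tauM_eq (B : GLL) (σ : F ≃+* F) (x : MM) : tauM B σ x = tauP B σ x.transpose := rfl

theorem tauM_mul (B : GLL) (σ : F ≃+* F) (x y : MM) : tauM B σ (x * y) = tauM B σ y * tauM B σ x := by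
  rw [tauM_eq, tauM_eq, tauM_eq, Matrix.transpose_mul, tauP_mul]

theorem exists_not_comm (hn : 2 ≤ n) : ∃ x y : MM, x * y ≠ y * x := by
  have h01 : (⟨0, by omega⟩ : Fin n) ≠ ⟨1, by omega⟩ := fun h => by simp at h
  refine ⟨Matrix.single ⟨0, by omega⟩ ⟨1, by omega⟩ 1, Matrix.single ⟨1, by omega⟩ ⟨0, by omega⟩ 1, fun h => ?_⟩
  have := congrFun (congrFun h ⟨0, by omega⟩) ⟨0, by omega⟩
  rw [Matrix.single_mul_single_same, Matrix.single_mul_single_same, Matrix.single_apply_same, Matrix.single_apply,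
    if_neg (fun h => h01 h.1.symm)] at this
  rw [mul_one] at this
  exact one_ne_zero this

variable {G : Type u} [Group G] {N A : Subgroup G} {r : ℕ} {S : Type} [Group S]

theorem ind_tauP {ι : S →* GLL} {π : S →* G} (hn : 2 ≤ n) {g : G} {B : GLL} {σ : F ≃+* F}
    (h : Ind ι π g (tauP B σ)) (s : S) : ∃ s' : S, _root_.Cfsg.Agent.H607.TW.mt ι s' = tauP B σ (_root_.Cfsg.Agent.H607.TW.mt ι s) ∧ π s' = g * π s * g⁻¹ := by
  rcases h with ⟨_, h⟩ | ⟨h1, _⟩
  · exact h s
  · exfalso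
    obtain ⟨x, y, hxy⟩ := exists_not_comm (F := F) hn
    apply hxy
    apply (tauP B σ).injective
    rw [tauP_mul, ← h1]

theorem ind_tauM {ι : S →* GLL} {π : S →* G} (hn : 2 ≤ n) {g : G} {B : GLL} {σ : F ≃+* F}
    (h : Ind ι π g (tauM B σ)) (s : S) : ∃ s' : S, _root_.Cfsg.Agent.H607.TW.mt ι s' = tauM B σ (_root_.Cfsg.Agent.H607.TW.mt ι s) ∧ (π s')⁻¹ = g * π s * g⁻¹ := by
  rcases h with ⟨h1, _⟩ | ⟨_, h⟩
  · exfalso
    obtain ⟨x, y, hxy⟩ := exists_not_comm (F := F) hn
    apply hxy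
    apply (tauM B σ).injective
    rw [tauM_mul, ← h1]
  · exact h s

theorem ind_self (π : SLL →* G) (s : SLL) : Ind (iSL n F) π (π s) (cM (iSL n F s)) := by
  left
  refine ⟨fun x y => cM_mul _ x y, fun t => ⟨s * t * s⁻¹, ?_, by simp only [_root_.map_mul, _root_.map_inv]⟩⟩
  rw [cM_apply]
  rfl

theorem iSL_inv_coe (s : SLL) : (((iSL n F s)⁻¹ : GLL) : MM) = ((s⁻¹ : SLL) : MM) := by
  rw [← map_inv]
  rfl

/-- elements of `S` lying over `A` permute the frame -/
theorem perm_of_mem {π : SLL →* G} {t : ℕ} {e : Fin t → MM} (hA : Frame (iSL n F) π A e) {s : SLL} (hs : π s ∈ A) (i : Fin t) :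
    ∃ j, (s : MM) * e i = e j * (s : MM) := by
  obtain ⟨j, hj⟩ := hA.perm (π s) hs _ (ind_self π s) i
  refine ⟨j, ?_⟩
  rw [← hj, cM_apply, iSL_inv_coe]
  change _ = (s : MM) * e i * ((s⁻¹ : SLL) : MM) * (s : MM)
  rw [mul_assoc ((s : MM) * e i), ← Matrix.SpecialLinearGroup.coe_mul, inv_mul_cancel, Matrix.SpecialLinearGroup.coe_one, mul_one]

theorem mem_iff {π : SLL →* G} {t : ℕ} {e : Fin t → MM} (hA : Frame (iSL n F) π A e) (s : SLL) :
    π s ∈ A ↔ ∀ i, ∃ j, (s : MM) * e i = e j * (s : MM) :=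
  ⟨fun h i => perm_of_mem hA h i, fun h => hA.stab s h⟩

theorem ker_iff {π : SLL →* G} (hM : Model N (iSL n F) π) (s : SLL) : π s = 1 ↔ ∃ c : F, (s : MM) = c • (1 : MM) := hM.ker s

/-- `x` commutes with `π s`, lift of the first kind -/
theorem comm_P {π : SLL →* G} (hM : Model N (iSL n F) π) {x : G} {B : GLL} {σ : F ≃+* F} (h : Ind (iSL n F) π x (tauP B σ))
    {s : SLL} (hs : x * π s = π s * x) : ∃ z : F, tauP B σ (s : MM) = z • (s : MM) := by
  obtain ⟨s', h1, h2⟩ := ind_tauP hM.two h s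
  rw [hs, mul_assoc, mul_inv_cancel, mul_one] at h2
  have h3 : π (s' * s⁻¹) = 1 := by rw [map_mul, map_inv, h2, mul_inv_cancel]
  obtain ⟨z, hz⟩ := (ker_iff hM _).mp h3
  refine ⟨z, ?_⟩
  rw [← mt_iSL s, ← h1, mt_iSL]
  have : s' = s' * s⁻¹ * s := by group
  rw [this, Matrix.SpecialLinearGroup.coe_mul, hz, Matrix.smul_mul, one_mul]
  rfl

/-- `x` commutes with `π s`, lift of the second kind -/
theorem comm_M {π : SLL →* G} (hM : Model N (iSL n F) π) {x : G} {B : GLL} {σ : F ≃+* F} (h : Ind (iSL n F) π x (tauM B σ))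
    {s : SLL} (hs : x * π s = π s * x) : ∃ z : F, tauM B σ (s : MM) * (s : MM) = z • (1 : MM) := by
  obtain ⟨s', h1, h2⟩ := ind_tauM hM.two h s
  rw [hs, mul_assoc, mul_inv_cancel, mul_one] at h2
  have h3 : π (s' * s) = 1 := by rw [map_mul, ← h2, mul_inv_cancel]
  obtain ⟨z, hz⟩ := (ker_iff hM _).mp h3
  refine ⟨z, ?_⟩
  rw [← mt_iSL s, ← h1, mt_iSL]
  rw [← hz, Matrix.SpecialLinearGroup.coe_mul]
  rfl

/-- An element all of whose lift is trivial is trivial. -/
theorem eq_one_of_tauP {π : SLL →* G} (hM : Model N (iSL n F) π) (hc : centralizer (N : Set G) = ⊥) {x : G} {B : GLL}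
    {σ : F ≃+* F} (h : Ind (iSL n F) π x (tauP B σ)) (ht : ∀ y : MM, tauP B σ y = y) : x = 1 := by
  have : x ∈ centralizer (N : Set G) := by
    rw [mem_centralizer_iff]
    intro g hg
    have hg' : g ∈ π.range := by rw [hM.range]; exact hg
    obtain ⟨s, rfl⟩ := hg'
    obtain ⟨s', h1, h2⟩ := ind_tauP hM.two h s
    rw [ht] at h1
    have : s' = s := Subtype.ext h1
    rw [this] at h2
    rw [eq_comm]
    calc x * π s = x * π s * x⁻¹ * x := by group
      _ = π s * x := by rw [← h2]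
  rw [hc, mem_bot] at this
  exact this

theorem blk_map {t : ℕ} (b : Fin n → Fin t) (i : Fin t) (σ : F ≃+* F) : (blk b i : MM).map σ = blk b i := by
  ext a c
  rw [Matrix.map_apply, blk, Matrix.diagonal_apply]
  split_ifs <;> simp

theorem blk_transpose {t : ℕ} (b : Fin n → Fin t) (i : Fin t) : (blk b i : MM).transpose = blk b i := by
  rw [blk, Matrix.diagonal_transpose]

theorem conj_scalar {B : GLL} {c : F} (hB : (B : MM) = c • (1 : MM)) (y : MM) : (B : MM) * y * ((B⁻¹ : GLL) : MM) = y := by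
  have : (B : MM) * y = y * (B : MM) := by rw [hB, Matrix.smul_mul, Matrix.mul_smul, one_mul, mul_one]
  rw [this, mul_assoc, coe_mul_inv, mul_one]

theorem isMon_of_perm {B : GLL} {σ : F ≃+* F} (h : ∀ k, ∃ l, tauP B σ (blk (id : Fin n → Fin n) k) = blk (id : Fin n → Fin n) l) :
    IsMon (B : MM) := by
  intro k
  obtain ⟨l, hl⟩ := h k
  refine ⟨l, ?_⟩
  rw [← hl, tauP_apply, blk_map, mul_assoc ((B : MM) * _), coe_inv_mul, mul_one]

theorem mon_transpose (σ : Equiv.Perm (Fin n)) (d : Fin n → F) : (mon σ d).transpose = mon σ⁻¹ (fun k => d (σ⁻¹ k)) := by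
  ext i k
  rw [Matrix.transpose_apply, mon_apply, mon_apply]
  by_cases h : k = σ i
  · subst h; simp
  · rw [if_neg h, if_neg]
    intro hh
    apply h
    rw [hh]
    simp

theorem mon_map (σ : Equiv.Perm (Fin n)) (d : Fin n → F) (τ : F ≃+* F) : (mon σ d).map τ = mon σ (fun k => τ (d k)) := by
  ext i k
  rw [Matrix.map_apply, mon_apply, mon_apply]
  split_ifs <;> simp

theorem cent_aux (hn : 3 ≤ n) {ρ : Equiv.Perm (Fin n)} {β : Fin n → F} (hβ : ∀ k, β k ≠ 0)
    (H : ∀ i j : Fin n, i ≠ j → ∃ (f : Fin n → F) (z : F), (∀ k, f k ≠ 0) ∧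
      mon ρ β * mon (Equiv.swap i j) f = z • (mon (Equiv.swap i j) f * mon ρ β)) : ρ = 1 ∧ ∀ i j, β i = β j := by
  classical
  have hthird : ∀ i j : Fin n, ∃ l, l ≠ i ∧ l ≠ j := fun i j => by
    have hc : ({i, j} : Finset (Fin n)).card < (Finset.univ : Finset (Fin n)).card := by
      rw [Finset.card_univ, Fintype.card_fin]
      exact lt_of_le_of_lt (Finset.card_le_two) (by omega)
    obtain ⟨l, _, hl⟩ := Finset.exists_mem_notMem_of_card_lt_card hc
    simp only [Finset.mem_insert, Finset.mem_singleton, not_or] at hl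
    exact ⟨l, hl.1, hl.2⟩
  have h1 : ∀ i j : Fin n, i ≠ j → ρ * Equiv.swap i j = Equiv.swap i j * ρ := fun i j hij => by
    obtain ⟨f, z, hf, h⟩ := H i j hij
    rw [mon_mul, mon_mul, mon_smul] at h
    exact (mon_inj (fun k => mul_ne_zero (hβ _) (hf _)) h).1
  have h2 : ∀ i j : Fin n, i ≠ j → ρ i = i ∨ ρ i = j := fun i j hij => by
    by_contra hcon
    push Not at hcon
    have h := congrArg (fun g : Equiv.Perm (Fin n) => g i) (h1 i j hij)
    simp only [Equiv.Perm.mul_apply, Equiv.swap_apply_left] at h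
    rw [Equiv.swap_apply_of_ne_of_ne hcon.1 hcon.2] at h
    exact hij (ρ.injective h).symm
  have hρ : ρ = 1 := by
    apply Equiv.ext
    intro i
    obtain ⟨j, hj, _⟩ := hthird i i
    obtain ⟨l, hl1, hl2⟩ := hthird i j
    rcases h2 i j hj.symm with h | h
    · exact h
    · rcases h2 i l hl1.symm with h' | h'
      · exact h'
      · exact absurd (h.symm.trans h') (fun hh => hl2 hh.symm)
  refine ⟨hρ, fun i j => ?_⟩
  subst hρ
  by_cases hij : i = j
  · rw [hij]
  obtain ⟨f, z, hf, h⟩ := H i j hij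
  rw [mon_mul, mon_mul, mon_smul] at h
  have h3 := (mon_inj (fun k => mul_ne_zero (hβ _) (hf _)) h).2
  obtain ⟨l, hl1, hl2⟩ := hthird i j
  have h4 := congrFun h3 l
  simp only [Equiv.Perm.one_apply] at h4
  rw [Equiv.swap_apply_of_ne_of_ne hl1 hl2] at h4
  have hz : z = 1 := by
    have : (1 - z) * (f l * β l) = 0 := by linear_combination h4
    rcases mul_eq_zero.mp this with h5 | h5
    · exact (sub_eq_zero.mp h5).symm
    · exact absurd h5 (mul_ne_zero (hf l) (hβ l))
  have h5 := congrFun h3 j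
  simp only [Equiv.Perm.one_apply] at h5
  rw [Equiv.swap_apply_right, hz, one_mul, mul_comm (f j)] at h5
  exact mul_right_cancel₀ (hf j) h5

/-- A lift of the first kind commuting with the monomial group is trivial. -/
theorem cent_P (hn : 3 ≤ n) {B : GLL} {σ : F ≃+* F}
    (hperm : ∀ k, ∃ l, tauP B σ (blk (id : Fin n → Fin n) k) = blk (id : Fin n → Fin n) l)
    (hc : ∀ s : SLL, IsMon (s : MM) → ∃ z : F, tauP B σ (s : MM) = z • (s : MM)) (y : MM) : tauP B σ y = y := by
  classical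
  obtain ⟨ρ, β, hB, hβ⟩ := exists_mon (isMon_of_perm hperm) (by
    intro h
    have := congrArg Matrix.det (coe_mul_inv B)
    rw [Matrix.det_mul, h, zero_mul, Matrix.det_one] at this
    exact zero_ne_one this)
  have key := cent_aux hn hβ (fun i j hij => by
    obtain ⟨s, f, hs, hf⟩ := exists_mon_pm (F := F) (by omega : 0 < n) (Equiv.swap i j)
    obtain ⟨z, hz⟩ := hc s (by rw [hs]; exact isMon_mon _ _)
    have hσ : ∀ k, σ (f k) = f k := fun k => by rcases hf k with h | h <;> rw [h] <;> simp only [_root_.map_one, _root_.RingEquiv.map_neg_one]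
    refine ⟨f, z, fun k => ?_, ?_⟩
    · rcases hf k with h | h <;> rw [h]
      · exact one_ne_zero
      · exact neg_ne_zero.mpr one_ne_zero
    · rw [← hB, ← Matrix.smul_mul, ← hs, ← hz, tauP_apply, hs, mon_map]
      simp only [hσ]
      rw [mul_assoc ((B : MM) * _), coe_inv_mul, mul_one])
  obtain ⟨hρ, hββ⟩ := key
  have hBs : (B : MM) = β ⟨0, by omega⟩ • (1 : MM) := by
    rw [hB, hρ, smul_one_eq]
    congr 1
    funext k
    exact hββ _ _
  have hτ : ∀ y : MM, tauP B σ y = y.map σ := fun y => by rw [tauP_apply, conj_scalar hBs]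
  have hσ : ∀ x : F, σ x = x := fun x => by
    by_cases hx : x = 0
    · rw [hx, map_zero]
    have h01 : (⟨0, by omega⟩ : Fin n) ≠ ⟨1, by omega⟩ := fun h => by simp at h
    obtain ⟨z, hz⟩ := hc (torS ⟨0, by omega⟩ ⟨1, by omega⟩ h01 x hx) (by rw [torS_coe]; exact isMon_diagonal _)
    rw [hτ, torS_coe] at hz
    have h1 := congrFun (congrFun hz ⟨2, by omega⟩) ⟨2, by omega⟩
    have h2 := congrFun (congrFun hz ⟨0, by omega⟩) ⟨0, by omega⟩
    rw [Matrix.map_apply, Matrix.smul_apply, Matrix.diagonal_apply_eq] at h1 h2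
    have e1 : tor (⟨0, by omega⟩ : Fin n) ⟨1, by omega⟩ x ⟨2, by omega⟩ = 1 := by simp [tor]
    have e2 : tor (⟨0, by omega⟩ : Fin n) ⟨1, by omega⟩ x ⟨0, by omega⟩ = x := by simp [tor]
    rw [e1, map_one, smul_eq_mul, mul_one] at h1
    rw [e2, ← h1, one_smul] at h2
    exact h2
  rw [hτ]
  ext i j
  rw [Matrix.map_apply, hσ]

/-- A lift of the second kind commuting with the monomial group. -/
theorem cent_M (hn : 3 ≤ n) {B : GLL} {σ : F ≃+* F}
    (hperm : ∀ k, ∃ l, tauM B σ (blk (id : Fin n → Fin n) k) = blk (id : Fin n → Fin n) l)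
    (hc : ∀ s : SLL, IsMon (s : MM) → ∃ z : F, tauM B σ (s : MM) * (s : MM) = z • (1 : MM)) :
    (∀ y : MM, tauM B σ y = y.transpose.map σ) ∧ ∀ x : F, x ≠ 0 → σ x * x = 1 := by
  classical
  obtain ⟨ρ, β, hB, hβ⟩ := exists_mon (isMon_of_perm (B := B) (σ := σ) (fun k => by
      obtain ⟨l, hl⟩ := hperm k
      rw [tauM_eq, blk_transpose] at hl
      exact ⟨l, hl⟩)) (by
    intro h
    have := congrArg Matrix.det (coe_mul_inv B)
    rw [Matrix.det_mul, h, zero_mul, Matrix.det_one] at this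
    exact zero_ne_one this)
  have key := cent_aux hn hβ (fun i j hij => by
    obtain ⟨s, f, hs, hf⟩ := exists_mon_pm (F := F) (by omega : 0 < n) (Equiv.swap i j)
    obtain ⟨z, hz⟩ := hc s (by rw [hs]; exact isMon_mon _ _)
    have hσ : ∀ k, σ (f k) = f k := fun k => by rcases hf k with h | h <;> rw [h] <;> simp only [_root_.map_one, _root_.RingEquiv.map_neg_one]
    have hff : ∀ k, f k * f k = 1 := fun k => by rcases hf k with h | h <;> rw [h] <;> simp
    refine ⟨fun k => f ((Equiv.swap i j)⁻¹ k), z, fun k => ?_, ?_⟩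
    · change f ((Equiv.swap i j)⁻¹ k) ≠ 0
      rcases hf ((Equiv.swap i j)⁻¹ k) with h | h <;> rw [h]
      · exact one_ne_zero
      · exact neg_ne_zero.mpr one_ne_zero
    · have hT : (s : MM).transpose = mon (Equiv.swap i j) (fun k => f ((Equiv.swap i j)⁻¹ k)) := by
        rw [hs, mon_transpose, Equiv.swap_inv]
      have hTs : (s : MM).transpose * (s : MM) = 1 := by
        rw [hs, mon_transpose, mon_mul, inv_mul_cancel, mon_one, ← Matrix.diagonal_one]
        congr 1
        funext k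
        rw [inv_self', hff]
      have hsT : (s : MM) * (s : MM).transpose = 1 := mul_eq_one_comm.mp hTs
      have hTσ : ((s : MM).transpose).map σ = (s : MM).transpose := by
        rw [hT, mon_map]
        simp only [hσ]
      rw [tauM_apply, hTσ] at hz
      rw [← hB, ← hT]
      have h1 : (B : MM) * (s : MM).transpose * ((B⁻¹ : GLL) : MM) = z • (s : MM).transpose := by
        calc _ = ((B : MM) * (s : MM).transpose * ((B⁻¹ : GLL) : MM) * (s : MM)) * (s : MM).transpose := by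
              rw [mul_assoc _ (s : MM), hsT, mul_one]
          _ = _ := by rw [hz, Matrix.smul_mul, one_mul]
      calc (B : MM) * (s : MM).transpose = (B : MM) * (s : MM).transpose * ((B⁻¹ : GLL) : MM) * (B : MM) := by
            rw [mul_assoc _ ((B⁻¹ : GLL) : MM), coe_inv_mul, mul_one]
        _ = _ := by rw [h1, Matrix.smul_mul])
  obtain ⟨hρ, hββ⟩ := key
  have hBs : (B : MM) = β ⟨0, by omega⟩ • (1 : MM) := by
    rw [hB, hρ, smul_one_eq]
    congr 1
    funext k
    exact hββ _ _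
  have hτ : ∀ y : MM, tauM B σ y = y.transpose.map σ := fun y => by rw [tauM_apply, conj_scalar hBs]
  refine ⟨hτ, fun x hx => ?_⟩
  have h01 : (⟨0, by omega⟩ : Fin n) ≠ ⟨1, by omega⟩ := fun h => by simp at h
  obtain ⟨z, hz⟩ := hc (torS ⟨0, by omega⟩ ⟨1, by omega⟩ h01 x hx) (by rw [torS_coe]; exact isMon_diagonal _)
  rw [hτ, torS_coe, Matrix.diagonal_transpose] at hz
  have h1 := congrFun (congrFun hz ⟨2, by omega⟩) ⟨2, by omega⟩
  have h2 := congrFun (congrFun hz ⟨0, by omega⟩) ⟨0, by omega⟩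
  rw [Matrix.mul_diagonal, Matrix.map_apply, Matrix.smul_apply, Matrix.diagonal_apply_eq, Matrix.one_apply_eq] at h1 h2
  have e1 : tor (⟨0, by omega⟩ : Fin n) ⟨1, by omega⟩ x ⟨2, by omega⟩ = 1 := by simp [tor]
  have e2 : tor (⟨0, by omega⟩ : Fin n) ⟨1, by omega⟩ x ⟨0, by omega⟩ = x := by simp [tor]
  rw [e1, map_one, smul_eq_mul, mul_one, mul_one] at h1
  rw [e2, ← h1, one_smul] at h2
  exact h2

theorem card_le_four [Fintype F] {σ : F ≃+* F} (h : ∀ x : F, x ≠ 0 → σ x * x = 1) : Fintype.card F ≤ 4 := by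
  classical
  have h1 : ∀ x : F, x ≠ 0 → x ≠ -1 → x ^ 2 + x + 1 = 0 := fun x hx hx1 => by
    have hx2 : x + 1 ≠ 0 := fun hh => hx1 (eq_neg_of_add_eq_zero_left hh)
    have e1 := h x hx
    have e2 := h (x + 1) hx2
    rw [map_add, map_one] at e2
    -- (σ x + 1) (x + 1) = 1, σ x * x = 1
    have : x * ((σ x + 1) * (x + 1)) = x := by rw [e2, mul_one]
    linear_combination this - (x + 1) * e1
  let p : Polynomial F := Polynomial.X ^ 2 + Polynomial.X + 1
  have hp : p.natDegree = 2 := by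
    simp only [p]
    compute_degree!
  have hp0 : p ≠ 0 := fun h0 => by rw [h0, Polynomial.natDegree_zero] at hp; omega
  have hsub : (Finset.univ : Finset F) ⊆ p.roots.toFinset ∪ {0, -1} := by
    intro x _
    rw [Finset.mem_union, Finset.mem_insert, Finset.mem_singleton, Multiset.mem_toFinset, Polynomial.mem_roots hp0]
    by_cases hx : x = 0
    · exact Or.inr (Or.inl hx)
    by_cases hx1 : x = -1
    · exact Or.inr (Or.inr hx1)
    left
    rw [Polynomial.IsRoot.def]
    simp only [p, Polynomial.eval_add, Polynomial.eval_pow, Polynomial.eval_X, Polynomial.eval_one]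
    exact h1 x hx hx1
  have hc := Finset.card_le_card hsub
  rw [Finset.card_univ] at hc
  have h2 : (p.roots.toFinset ∪ {0, -1}).card ≤ 2 + 2 := by
    refine (Finset.card_union_le _ _).trans (Nat.add_le_add ?_ Finset.card_le_two)
    refine (Multiset.toFinset_card_le _).trans ?_
    rw [← hp]
    exact Polynomial.card_roots' p
  omega

/-- In characteristic three there is an orthogonal matrix which is not monomial, `n ≥ 4`. -/
theorem exists_orth (hn : 4 ≤ n) (h3 : (3 : F) = 0) : ∃ s : SLL, (s : MM).transpose * (s : MM) = 1 ∧ ¬ IsMon (s : MM) := by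
  classical
  let v : Fin n → F := fun k => if k.1 < 4 then 1 else 0
  let V : MM := Matrix.vecMulVec v v
  have hvv : v ⬝ᵥ v = 1 := by
    have h1 : v ⬝ᵥ v = ∑ k : Fin n, if k.1 < 4 then (1 : F) else 0 := by
      rw [dotProduct]
      apply Finset.sum_congr rfl
      intro k _
      simp only [v]
      split_ifs <;> simp
    rw [h1, ← Finset.sum_filter, Finset.sum_const, nsmul_eq_mul, mul_one]
    have h2 : (Finset.univ.filter fun k : Fin n => k.1 < 4).card = 4 := by
      have : (Finset.univ.filter fun k : Fin n => k.1 < 4) = (Finset.univ : Finset (Fin 4)).map (Fin.castLEEmb hn) := by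
        ext k
        simp only [Finset.mem_filter, Finset.mem_univ, true_and, Finset.mem_map, Fin.castLEEmb_apply]
        constructor
        · intro hk
          exact ⟨⟨k.1, hk⟩, by ext; rfl⟩
        · rintro ⟨a, rfl⟩
          exact a.2
      rw [this, Finset.card_map, Finset.card_univ, Fintype.card_fin]
    rw [h2]
    push_cast
    linear_combination h3
  have hVV : V * V = V := by
    simp only [V]
    rw [Matrix.vecMulVec_mul_vecMulVec, hvv, one_smul]
  have hVT : V.transpose = V := by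
    simp only [V]
    rw [Matrix.transpose_vecMulVec]
  let D : MM := Matrix.diagonal (Function.update (fun _ => (1 : F)) ⟨0, by omega⟩ (-1))
  have hDD : D * D = 1 := by
    simp only [D]
    rw [Matrix.diagonal_mul_diagonal, ← Matrix.diagonal_one]
    congr 1
    funext k
    by_cases hk : k = ⟨0, by omega⟩
    · subst hk; simp
    · rw [Function.update_of_ne hk]; simp
  have hDT : D.transpose = D := Matrix.diagonal_transpose _
  have hdD : D.det = -1 := by
    simp only [D]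
    rw [Matrix.det_diagonal, Finset.prod_update_of_mem (Finset.mem_univ _)]
    simp only [_root_.Finset.prod_const_one, _root_.mul_one]
  have hdV : (1 + V).det = -1 := by
    simp only [V]
    rw [Matrix.vecMulVec_eq Unit, Matrix.det_one_add_replicateCol_mul_replicateRow, hvv]
    linear_combination h3
  have h11 : (1 + V) * (1 + V) = 1 := by
    have : (1 + V) * (1 + V) = 1 + (3 : F) • V := by
      rw [mul_add, add_mul, add_mul, hVV, one_mul, one_mul, mul_one]
      have : (3 : F) • V = V + V + V := by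
        rw [show (3 : F) = 1 + 1 + 1 by norm_num, add_smul, add_smul, one_smul]
      rw [this]
      abel
    rw [this, h3, zero_smul, add_zero]
  refine ⟨⟨(1 + V) * D, by rw [Matrix.det_mul, hdV, hdD]; ring⟩, ?_, ?_⟩
  · change ((1 + V) * D).transpose * ((1 + V) * D) = 1
    rw [Matrix.transpose_mul, Matrix.transpose_add, Matrix.transpose_one, hVT, hDT]
    calc D * (1 + V) * ((1 + V) * D) = D * ((1 + V) * (1 + V)) * D := by simp only [mul_assoc]
      _ = 1 := by rw [h11, mul_one, hDD]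
  · intro h
    obtain ⟨σ, d, h1, h2⟩ := exists_mon h (by
      change ((1 + V) * D).det ≠ 0
      rw [Matrix.det_mul, hdV, hdD]
      simp)
    change (1 + V) * D = mon σ d at h1
    have e : ∀ i : Fin n, i.1 < 4 → i.1 ≠ 1 → ((1 + V) * D) i ⟨1, by omega⟩ ≠ 0 := fun i hi hi1 => by
      simp only [D]
      rw [Matrix.mul_diagonal, Function.update_of_ne (fun hh => by simp at hh), mul_one, Matrix.add_apply,
        Matrix.one_apply_ne (fun hh => hi1 (by rw [hh])), zero_add]
      simp only [V, v]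
      rw [Matrix.vecMulVec_apply, if_pos hi, if_pos (by simp)]
      simp
    have e0 := e ⟨0, by omega⟩ (by simp) (by simp)
    have e2 := e ⟨2, by omega⟩ (by simp) (by simp)
    rw [h1, mon_apply] at e0 e2
    have f0 : (⟨0, by omega⟩ : Fin n) = σ ⟨1, by omega⟩ := by
      by_contra hh
      rw [if_neg hh] at e0
      exact e0 rfl
    have f2 : (⟨2, by omega⟩ : Fin n) = σ ⟨1, by omega⟩ := by
      by_contra hh
      rw [if_neg hh] at e2
      exact e2 rfl
    have := f0.trans f2.symm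
    simp at this

end Cfsg.Agent.H599.TW
end

-- part: H599/TW/Grp
section
/-!
# S3694: elementary group theory of the situation `Sit` (helper599)
-/

set_option autoImplicit false
set_option linter.unusedSectionVars false
set_option linter.style.haveILetI false

namespace Cfsg.Agent.H599.TW

open Subgroup Cfsg.Agent.H607.TW

universe u

variable {G : Type u} [Group G] {N A C A₁ C₁ A₂ C₂ : Subgroup G} {r d : ℕ}

theorem OO_le (r : ℕ) (A : Subgroup G) : OO r A ≤ A := by
  rintro x ⟨y, _, rfl⟩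
  exact y.2

theorem OO_norm {x a : G} (hx : x ∈ OO r A) (ha : a ∈ A) : a * x * a⁻¹ ∈ OO r A := by
  obtain ⟨y, hy, rfl⟩ := hx
  have := (Cfsg.Agent.Lib.Cores.pCore_normal (G := ↥A) r).conj_mem y hy ⟨a, ha⟩
  exact ⟨_, this, rfl⟩

theorem OO_pow {x : G} [Finite G] (hx : x ∈ OO r A) : ∃ k : ℕ, x ^ r ^ k = 1 := by
  obtain ⟨y, hy, rfl⟩ := hx
  obtain ⟨k, hk⟩ := Cfsg.Agent.Lib.Cores.pCore_isPGroup (G := ↥A) r ⟨y, hy⟩
  refine ⟨k, ?_⟩
  have := congrArg (fun z : ↥(Cfsg.pCore r ↥A) => (((z : ↥A) : G))) hk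
  simpa only [_root_.Subgroup.subtype_apply, _root_.SubmonoidClass.mk_pow, _root_.SubmonoidClass.coe_pow, _root_.OneMemClass.coe_one] using this

/-- membership in the normalizer, elementwise -/
theorem mem_of_le_normalizer {K B : Subgroup G} (h : B ≤ normalizer (K : Set G)) {b : G} (hb : b ∈ B) {x : G}
    (hx : x ∈ K) : b * x * b⁻¹ ∈ K := (mem_normalizer_iff.mp (h hb) x).mp hx

theorem le_normalizer_of {K B : Subgroup G} (h : ∀ b ∈ B, ∀ x ∈ K, b * x * b⁻¹ ∈ K) :
    B ≤ normalizer (K : Set G) := by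
  intro b hb
  rw [mem_normalizer_iff]
  intro x
  refine ⟨h b hb x, fun hx => ?_⟩
  have := h b⁻¹ (B.inv_mem hb) _ hx
  simpa [mul_assoc] using this

theorem card_conj (A : Subgroup G) (g : G) : Nat.card ↥(A.map (MulAut.conj g).toMonoidHom) = Nat.card ↥A :=
  (Nat.card_congr (A.equivMapOfInjective _ (MulAut.conj g).injective).toEquiv).symm

theorem card_mul_relIndex' {H K : Subgroup G} (h : H ≤ K) : Nat.card ↥H * H.relIndex K = Nat.card ↥K := by
  have := Subgroup.relIndex_mul_relIndex ⊥ H K bot_le h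
  rwa [relIndex_bot_left, relIndex_bot_left] at this

variable [Finite G]

/-- The situation is symmetric. -/
theorem symm (h : Sit N A C A₁ C₁ A₂ C₂ r d) : Sit N C A C₁ A₁ C₂ A₂ r d where
  locA := h.locC
  locC := h.locA
  ne := h.ne.symm
  conj := by
    obtain ⟨g, hg⟩ := h.conj
    refine ⟨g⁻¹, ?_⟩
    rw [hg, Subgroup.map_map]
    have : ((MulAut.conj g⁻¹).toMonoidHom.comp (MulAut.conj g).toMonoidHom : G →* G) = MonoidHom.id G := by
      ext x
      simp only [mul_assoc, _root_.map_inv, _root_.MulEquiv.toMonoidHom_eq_coe, _root_.MonoidHom.coe_comp, _root_.MonoidHom.coe_coe, _root_.MulAut.coe_inv, _root_.Function.comp_apply, _root_.MulAut.conj_apply, _root_.mul_assoc, _root_.MulAut.conj_symm_apply, _root_.inv_mul_cancel_left, _root_.inv_mul_cancel, _root_.mul_one, _root_.MonoidHom.id_apply]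
    rw [this, Subgroup.map_id]
  idx := by
    have h1 : (A ⊓ C).relIndex A * Nat.card ↥(A ⊓ C) = Nat.card ↥A := by
      rw [mul_comm]; exact card_mul_relIndex' inf_le_left
    have h2 : (C ⊓ A).relIndex C * Nat.card ↥(C ⊓ A) = Nat.card ↥C := by
      rw [mul_comm]; exact card_mul_relIndex' inf_le_left
    have hc : Nat.card ↥C = Nat.card ↥A := by
      obtain ⟨g, hg⟩ := h.conj
      rw [hg]; exact card_conj A g
    rw [hc, ← h1, inf_comm C A] at h2
    have hpos : 0 < Nat.card ↥(A ⊓ C) := Nat.card_pos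
    rw [← h.idx]
    rw [inf_comm C A]
    exact Nat.eq_of_mul_eq_mul_right hpos h2
  five := h.five
  A₁_le := by rw [inf_comm]; exact h.C₁_le
  C₁_le := by rw [inf_comm]; exact h.A₁_le
  A₁_norm := h.C₁_norm
  C₁_norm := h.A₁_norm
  A₂_le := by rw [inf_comm]; exact h.C₂_le
  C₂_le := by rw [inf_comm]; exact h.A₂_le
  A₂_norm := h.C₂_norm
  C₂_norm := h.A₂_norm
  A₂_ne := h.C₂_ne
  C₂_ne := h.A₂_ne
  A₂_OO := h.C₂_OO
  C₂_OO := h.A₂_OO

/-- A nontrivial subgroup of `A ∩ N` cannot be normalised by `A` and by `C`. -/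
theorem absurd_of_norm (h : Sit N A C A₁ C₁ A₂ C₂ r d) {K : Subgroup G} (hN : K ≤ N) (hKA : K ≤ A) (hK : K ≠ ⊥)
    (hA : A ≤ normalizer (K : Set G)) (hC : C ≤ normalizer (K : Set G)) : False := by
  have htop : normalizer (K : Set G) = ⊤ := by
    rcases h.locA.max.le_iff.mp hA with h1 | h1
    · exact h1
    · exfalso
      rw [h1] at hC
      rcases h.locC.max.le_iff.mp hC with h2 | h2
      · exact h.locA.max.1 h2
      · exact h.ne h2
  have hKn : K.Normal := normalizer_eq_top_iff.mp htop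
  haveI := h.locA.simple
  have hKN : (K.subgroupOf N).Normal := hKn.subgroupOf N
  rcases hKN.eq_bot_or_eq_top with h1 | h1
  · rw [subgroupOf_eq_bot] at h1
    exact hK (by rw [← inf_eq_left.mpr hN]; exact h1.eq_bot)
  · rw [subgroupOf_eq_top] at h1
    exact h.locA.not_le (h1.trans hKA)

/-- `A ∩ N = C ∩ N` is impossible. -/
theorem absurd_of_inf_eq (h : Sit N A C A₁ C₁ A₂ C₂ r d) (he : A ⊓ N = C ⊓ N) (hne : A ⊓ N ≠ ⊥) : False := by
  refine absurd_of_norm h inf_le_right inf_le_left hne ?_ ?_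
  · refine le_normalizer_of fun b hb x hx => ⟨A.mul_mem (A.mul_mem hb hx.1) (A.inv_mem hb), ?_⟩
    exact h.locA.normal.conj_mem _ hx.2 _
  · refine le_normalizer_of fun b hb x hx => ?_
    rw [he] at hx ⊢
    exact ⟨C.mul_mem (C.mul_mem hb hx.1) (C.inv_mem hb), h.locA.normal.conj_mem _ hx.2 _⟩

/-- The normalizer of a nontrivial normal subgroup of `A` is `A`. -/
theorem norm_eq (h : Loc N A r) {B : Subgroup G} (hB : B ≤ A) (hne : B ≠ ⊥) (hn : A ≤ normalizer (B : Set G)) :
    normalizer (B : Set G) = A := by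
  rcases h.max.le_iff.mp hn with h1 | h1
  · exfalso
    have hBn : B.Normal := normalizer_eq_top_iff.mp h1
    haveI := h.simple
    haveI := h.normal
    have hBN : (B.subgroupOf N).Normal := hBn.subgroupOf N
    rcases hBN.eq_bot_or_eq_top with h2 | h2
    · rw [subgroupOf_eq_bot] at h2
      apply hne
      rw [eq_bot_iff, ← h.cent]
      intro b hb
      rw [mem_centralizer_iff]
      intro x hx
      have hx' : x ∈ N := hx
      have hcom : x * b * x⁻¹ * b⁻¹ ∈ B ⊓ N := by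
        constructor
        · exact B.mul_mem (hBn.conj_mem b hb x) (B.inv_mem hb)
        · have : b * x⁻¹ * b⁻¹ ∈ N := h.normal.conj_mem _ (N.inv_mem hx') _
          have h3 := N.mul_mem hx' this
          rwa [show x * (b * x⁻¹ * b⁻¹) = x * b * x⁻¹ * b⁻¹ by group] at h3
      rw [h2.eq_bot, mem_bot] at hcom
      have : x * b * x⁻¹ = b := by
        have := mul_eq_one_iff_eq_inv.mp hcom
        rwa [inv_inv] at this
      calc x * b = (x * b * x⁻¹) * x := by group
        _ = b * x := by rw [this]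
    · rw [subgroupOf_eq_top] at h2
      exact h.not_le (h2.trans hB)
  · exact h1

theorem mem_of_comm (h : Loc N A r) {B : Subgroup G} (hB : B ≤ A) (hne : B ≠ ⊥) (hn : A ≤ normalizer (B : Set G))
    {x : G} (hx : ∀ b ∈ B, x * b = b * x) : x ∈ A := by
  rw [← norm_eq h hB hne hn]
  rw [mem_normalizer_iff]
  intro b
  constructor
  · intro hb
    rw [hx b hb, mul_assoc, mul_inv_cancel, mul_one]
    exact hb
  · intro hb
    have h1 := hx _ hb
    have h2 : x * b * x⁻¹ = b := by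
      have : x * (x * b * x⁻¹) = x * b := by rw [h1]; group
      exact mul_left_cancel this
    rwa [h2] at hb

/-- Thompson-Wielandt inside `N`: it is enough that `C ∩ N` normalises `K`. -/
theorem tw2N (h : Sit N A C A₁ C₁ A₂ C₂ r d) {K : Subgroup G} (hK : K ≤ C₂) (hn : C ⊓ N ≤ normalizer (K : Set G)) {y a : G}
    (hy : y ∈ K) (hyN : y ∈ N) (ha : a ∈ A) : y⁻¹ * (a⁻¹ * y * a)⁻¹ * y * (a⁻¹ * y * a) ∈ K := by
  have hyA : y ∈ A₁ := (h.C₂_le (hK hy)).1
  have h1 : a⁻¹ * y * a ∈ A₁ := by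
    have := mem_of_le_normalizer h.A₁_norm (A.inv_mem ha) hyA
    rwa [inv_inv] at this
  have h1N : a⁻¹ * y * a ∈ N := by
    have := h.locA.normal.conj_mem y hyN a⁻¹
    rwa [inv_inv] at this
  have h2 : a⁻¹ * y * a ∈ C ⊓ N := ⟨(h.A₁_le h1).2, h1N⟩
  have h3 : (a⁻¹ * y * a)⁻¹ * y * ((a⁻¹ * y * a)⁻¹)⁻¹ ∈ K := mem_of_le_normalizer hn ((C ⊓ N).inv_mem h2) hy
  rw [inv_inv] at h3
  have := K.mul_mem (K.inv_mem hy) h3
  simpa only [mul_assoc, _root_.mul_inv_rev, _root_.inv_inv] using this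

theorem C₂_le_A (h : Sit N A C A₁ C₁ A₂ C₂ r d) : C₂ ≤ A := fun _ hx => (h.A₁_le (h.C₂_le hx).1).1

theorem C₂_le_C (h : Sit N A C A₁ C₁ A₂ C₂ r d) : C₂ ≤ C := fun _ hx => (h.A₁_le (h.C₂_le hx).1).2

end Cfsg.Agent.H599.TW
end

-- part: H599/TW/NoCent
section
/-!
# S3694: the case `A₂ ∩ N = 1` for a frame of points (helper599)
-/

set_option autoImplicit false
set_option linter.unusedSectionVars false
set_option linter.style.haveILetI false

namespace Cfsg.Agent.H599.TW

open Subgroup Cfsg.Agent.H607.TW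

universe u

variable {F : Type} [Field F] {n : ℕ}

local notation "MM" => Matrix (Fin n) (Fin n) F
local notation "GLL" => Matrix.GeneralLinearGroup (Fin n) F
local notation "SLL" => Matrix.SpecialLinearGroup (Fin n) F

variable {G : Type u} [Group G] {N A : Subgroup G} {r : ℕ}

/-- A normal subgroup of `A` meeting `N` trivially centralises `A ∩ N`. -/
theorem comm_of_inf_eq_bot (hN : N.Normal) {B₂ : Subgroup G} (hnorm : A ≤ normalizer (B₂ : Set G))
    (hBN : B₂ ⊓ N = ⊥) {x y : G} (hx : x ∈ B₂) (hy : y ∈ A ⊓ N) : x * y = y * x := by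
  have h1 : x * y * x⁻¹ * y⁻¹ ∈ B₂ ⊓ N := by
    constructor
    · have : x * (y * x⁻¹ * y⁻¹) ∈ B₂ := B₂.mul_mem hx (mem_of_le_normalizer hnorm hy.1 (B₂.inv_mem hx))
      simpa only [mul_assoc, _root_.Subgroup.coe_toSubmonoid, _root_.SetLike.mem_coe] using this
    · exact N.mul_mem (hN.conj_mem y hy.2 x) (N.inv_mem hy.2)
  rw [hBN, mem_bot] at h1
  have h2 : x * y * x⁻¹ = y := by
    have := mul_eq_one_iff_eq_inv.mp h1
    rwa [inv_inv] at this
  calc x * y = x * y * x⁻¹ * x := by group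
    _ = y * x := by rw [h2]

/-- an element of odd order is a square -/
theorem exists_sq {x : G} {r k : ℕ} (hr : r.Prime) (h2 : r ≠ 2) (hx : x ^ r ^ k = 1) : ∃ m : ℕ, (x ^ m) ^ 2 = x := by
  have hodd : Odd (r ^ k) := (hr.odd_of_ne_two h2).pow
  obtain ⟨m, hm⟩ := hodd
  refine ⟨m + 1, ?_⟩
  rw [← pow_mul, show (m + 1) * 2 = r ^ k + 1 by omega, pow_succ, hx, one_mul]

theorem no_cent [Finite G] [Fintype F] {π : SLL →* G} (hM : Model N (iSL n F) π) (hL : Loc N A r)
    (hA : Frame (iSL n F) π A (blk (id : Fin n → Fin n))) (hn : 3 ≤ n) (hr : ¬ r ∣ Fintype.card F) {B₂ : Subgroup G}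
    (hB : B₂ ≤ OO r A) (hne : B₂ ≠ ⊥) (hnorm : A ≤ normalizer (B₂ : Set G)) (hBN : B₂ ⊓ N = ⊥) :
    n = 3 ∧ Fintype.card F = 3 := by
  have hBA : B₂ ≤ A := hB.trans (OO_le r A)
  have hcomm : ∀ x ∈ B₂, ∀ s : SLL, IsMon (s : MM) → x * π s = π s * x := fun x hx s hs =>
    comm_of_inf_eq_bot hL.normal hnorm hBN hx ⟨hA.stab s hs, by
      change π s ∈ N
      rw [← hM.range]; exact ⟨s, rfl⟩⟩
  have hP : ∀ x ∈ B₂, ∀ B σ, Ind (iSL n F) π x (tauP B σ) → x = 1 := fun x hx B σ h =>
    eq_one_of_tauP hM hL.cent h (cent_P hn (fun k => hA.perm x (hBA hx) _ h k)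
      (fun s hs => comm_P hM h (hcomm x hx s hs)))
  have hMt : ∀ x ∈ B₂, ∀ B σ, Ind (iSL n F) π x (tauM B σ) →
      (∀ y : MM, tauM B σ y = y.transpose.map σ) ∧ ∀ x : F, x ≠ 0 → σ x * x = 1 := fun x hx B σ h =>
    cent_M hn (fun k => hA.perm x (hBA hx) _ h k) (fun s hs => comm_M hM h (hcomm x hx s hs))
  have hMsq : ∀ w ∈ B₂, w ^ 2 = 1 := by
    intro w hw
    obtain ⟨B, σ, h | h⟩ := hM.lift w
    · rw [hP w hw B σ h, one_pow]
    · obtain ⟨h1, h2⟩ := hMt w hw B σ h
      have h3 : ∀ x : F, σ (σ x) = x := fun x => by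
        by_cases hx : x = 0
        · rw [hx, map_zero, map_zero]
        have e1 := h2 x hx
        have hσx : σ x ≠ 0 := fun h0 => by rw [h0, zero_mul] at e1; exact zero_ne_one e1
        have e2 := h2 (σ x) hσx
        have : (σ (σ x) - x) * σ x = 0 := by linear_combination e2 - e1
        rcases mul_eq_zero.mp this with h4 | h4
        · exact sub_eq_zero.mp h4
        · exact absurd h4 hσx
      have : w ^ 2 ∈ centralizer (N : Set G) := by
        rw [mem_centralizer_iff]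
        intro g hg
        have hg' : g ∈ π.range := by rw [hM.range]; exact hg
        obtain ⟨s, rfl⟩ := hg'
        obtain ⟨s₁, e1, e2⟩ := ind_tauM hM.two h s
        obtain ⟨s₂, e3, e4⟩ := ind_tauM hM.two h s₁
        have e5 : _root_.Cfsg.Agent.H607.TW.mt (iSL n F) s₂ = _root_.Cfsg.Agent.H607.TW.mt (iSL n F) s := by
          rw [e3, e1, h1, h1]
          ext i j
          rw [Matrix.map_apply, Matrix.transpose_apply, Matrix.map_apply, Matrix.transpose_apply, h3]
        have e6 : s₂ = s := Subtype.ext e5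
        rw [e6] at e4
        have e7 : π s₁ = (w * π s * w⁻¹)⁻¹ := by rw [← e2, inv_inv]
        rw [e7] at e4
        have e8 : π s = w * (w * π s * w⁻¹) * w⁻¹ := by
          have := congrArg (fun z => z⁻¹) e4
          simp only [inv_inv, mul_inv_rev] at this
          exact this.trans (by group)
        calc π s * w ^ 2 = w * (w * π s * w⁻¹) * w⁻¹ * w ^ 2 := by rw [← e8]
          _ = w ^ 2 * π s := by rw [pow_two]; group
      rw [hL.cent, mem_bot] at this
      exact this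
  -- a nontrivial element
  obtain ⟨x, hx, hx1⟩ := (Subgroup.ne_bot_iff_exists_ne_one).mp hne |>.imp (fun x hx => hx) |> fun ⟨x, hx⟩ =>
    (⟨(x : G), x.2, fun h => hx (Subtype.ext h)⟩ : ∃ x : G, x ∈ B₂ ∧ x ≠ 1)
  obtain ⟨B, σ, h | h⟩ := hM.lift x
  · exact absurd (hP x hx B σ h) hx1
  obtain ⟨h1, h2⟩ := hMt x hx B σ h
  have hc4 := card_le_four h2
  have hr2 : r = 2 := by
    by_contra hne2
    obtain ⟨k, hk⟩ := OO_pow (hB hx)
    obtain ⟨m, hm⟩ := exists_sq hL.prime hne2 hk
    have := hMsq (x ^ m) (B₂.pow_mem hx m)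
    rw [hm] at this
    exact hx1 this
  subst hr2
  have hc3 : Fintype.card F = 3 := by
    have := Fintype.one_lt_card (α := F)
    omega
  have h30 : (3 : F) = 0 := by
    have := Nat.cast_card_eq_zero F
    rw [hc3] at this
    exact_mod_cast this
  have hsq : ∀ x : F, x ≠ 0 → x * x = 1 := fun x hx => by
    have := FiniteField.pow_card_sub_one_eq_one x hx
    rw [hc3] at this
    rw [← this]; ring
  refine ⟨?_, hc3⟩
  by_contra hn3
  obtain ⟨s, hs1, hs2⟩ := exists_orth (n := n) (by omega) h30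
  apply hs2
  have hmem : π s ∈ A := by
    apply mem_of_comm hL hBA hne hnorm
    intro b hb
    obtain ⟨B', σ', h' | h'⟩ := hM.lift b
    · rw [hP b hb B' σ' h', mul_one, one_mul]
    · obtain ⟨h1', h2'⟩ := hMt b hb B' σ' h'
      obtain ⟨s', e1, e2⟩ := ind_tauM hM.two h' s
      have hσ' : ∀ x : F, σ' x = x := fun x => by
        by_cases hx : x = 0
        · rw [hx, map_zero]
        have e3 := h2' x hx
        have e4 := hsq x hx
        have : (σ' x - x) * x = 0 := by linear_combination e3 - e4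
        rcases mul_eq_zero.mp this with h4 | h4
        · exact sub_eq_zero.mp h4
        · exact absurd h4 hx
      have e5 : (s' : MM) = (s : MM).transpose := by
        rw [← mt_iSL s', e1, h1']
        ext i j
        rw [Matrix.map_apply, hσ']
        rfl
      have e6 : s' * s = 1 := by
        apply Subtype.ext
        rw [Matrix.SpecialLinearGroup.coe_mul, e5, Matrix.SpecialLinearGroup.coe_one]
        exact hs1
      have e7 : (π s')⁻¹ = π s := by
        rw [← map_inv, eq_inv_of_mul_eq_one_left e6, inv_inv]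
      rw [e7] at e2
      calc π s * b = b * π s * b⁻¹ * b := by rw [← e2]
        _ = b * π s := by group
  intro k
  exact perm_of_mem hA hmem k

end Cfsg.Agent.H599.TW
end

-- part: H599/TW/TwoFr
section
/-!
# S3694: two frames (helper599)
-/

set_option autoImplicit false
set_option linter.unusedSectionVars false
set_option linter.style.haveILetI false

namespace Cfsg.Agent.H599.TW

open Subgroup Cfsg.Agent.H607.TW

universe u

variable {F : Type} [Field F] {n : ℕ}

local notation "MM" => Matrix (Fin n) (Fin n) F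
local notation "GLL" => Matrix.GeneralLinearGroup (Fin n) F
local notation "SLL" => Matrix.SpecialLinearGroup (Fin n) F

variable {G : Type u} [Group G] {N A C A₁ C₁ A₂ C₂ : Subgroup G} {r d : ℕ}

theorem blk_apply {t : ℕ} (b : Fin n → Fin t) (i : Fin t) (a c : Fin n) :
    (blk b i : MM) a c = if a = c then (if b a = i then 1 else 0) else 0 := by
  rw [blk, Matrix.diagonal_apply]

/-- If every `e_i` lies under some `e'_j`, the two systems coincide. -/
theorem frames_eq {t : ℕ} {e e' : Fin t → MM} (he : ∑ i, e i = 1) (hne' : ∀ i, e' i ≠ 0)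
    (hor' : ∀ i j, i ≠ j → e' i * e' j = 0) (h : ∀ i, ∃ j, e' j * e i = e i) : ∃ f : Fin t ≃ Fin t, ∀ i, e i = e' (f i) := by
  classical
  choose f hf using h
  have h0 : ∀ i k, k ≠ f i → e' k * e i = 0 := fun i k hk => by
    rw [← hf i, ← mul_assoc, hor' k (f i) hk, zero_mul]
  have h1 : ∀ k, e' k = ∑ i ∈ Finset.univ.filter (fun i => f i = k), e i := fun k => by
    calc e' k = e' k * ∑ i, e i := by rw [he, mul_one]
      _ = ∑ i, e' k * e i := Finset.mul_sum _ _ _
      _ = ∑ i, if f i = k then e i else 0 := by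
          apply Finset.sum_congr rfl
          intro i _
          split_ifs with hik
          · rw [← hik, hf]
          · exact h0 i k (fun hh => hik hh.symm)
      _ = _ := by rw [Finset.sum_filter]
  have hsurj : Function.Surjective f := by
    intro k
    by_contra hcon
    push Not at hcon
    apply hne' k
    rw [h1 k]
    apply Finset.sum_eq_zero
    intro i hi
    rw [Finset.mem_filter] at hi
    exact absurd hi.2 (hcon i)
  have hbij : Function.Bijective f := Finite.surjective_iff_bijective.mp hsurj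
  refine ⟨Equiv.ofBijective f hbij, fun i => ?_⟩
  change e i = e' (f i)
  rw [h1 (f i), Finset.sum_eq_single i]
  · intro j hj hji
    rw [Finset.mem_filter] at hj
    exact absurd (hbij.1 hj.2) hji
  · intro hi
    exact absurd (by simp only [_root_.Finset.mem_filter, _root_.Finset.mem_univ, _root_.and_self] : i ∈ Finset.univ.filter (fun j => f j = f i)) hi

theorem inf_eq_of_frames {π : SLL →* G} (hM : Model N (iSL n F) π) {t : ℕ} {e e' : Fin t → MM}
    (hA : Frame (iSL n F) π A e) (hC : Frame (iSL n F) π C e') (f : Fin t ≃ Fin t) (h : ∀ i, e i = e' (f i)) :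
    A ⊓ N = C ⊓ N := by
  have key : ∀ s : SLL, π s ∈ A ↔ π s ∈ C := fun s => by
    rw [mem_iff hA, mem_iff hC]
    constructor
    · intro h1 j
      obtain ⟨k, hk⟩ := h1 (f.symm j)
      rw [h, h, Equiv.apply_symm_apply] at hk
      exact ⟨_, hk⟩
    · intro h1 i
      obtain ⟨k, hk⟩ := h1 (f i)
      refine ⟨f.symm k, ?_⟩
      rw [h, h, Equiv.apply_symm_apply]
      exact hk
  ext g
  rw [Subgroup.mem_inf, Subgroup.mem_inf]
  constructor
  · rintro ⟨h1, h2⟩
    rw [← hM.range] at h2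
    obtain ⟨s, rfl⟩ := h2
    exact ⟨(key s).mp h1, by rw [← hM.range]; exact ⟨s, rfl⟩⟩
  · rintro ⟨h1, h2⟩
    rw [← hM.range] at h2
    obtain ⟨s, rfl⟩ := h2
    exact ⟨(key s).mpr h1, by rw [← hM.range]; exact ⟨s, rfl⟩⟩

/-- The diagonal subgroup. -/
def Dg (n : ℕ) (F : Type) [Field F] : Subgroup (Matrix.SpecialLinearGroup (Fin n) F) where
  carrier := {s | ∃ d : Fin n → F, (∀ k, d k ≠ 0) ∧ (s : Matrix (Fin n) (Fin n) F) = mon 1 d}
  mul_mem' := by
    rintro s t ⟨d, hd, h⟩ ⟨f, hf, h'⟩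
    exact ⟨_, fun k => mul_ne_zero (hd _) (hf _), by rw [Matrix.SpecialLinearGroup.coe_mul, h, h', mon_mul, mul_one]⟩
  one_mem' := ⟨fun _ => 1, fun _ => one_ne_zero, by rw [Matrix.SpecialLinearGroup.coe_one, ← smul_one_eq, one_smul]⟩
  inv_mem' := by
    rintro s ⟨d, hd, h⟩
    exact ⟨_, fun k => inv_ne_zero (hd _), by rw [mon_inv h hd, inv_one]⟩

theorem Dg_comm {s t : SLL} (hs : s ∈ Dg n F) (ht : t ∈ Dg n F) : s * t = t * s := by
  obtain ⟨d, _, h⟩ := hs
  obtain ⟨f, _, h'⟩ := ht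
  apply Subtype.ext
  rw [Matrix.SpecialLinearGroup.coe_mul, Matrix.SpecialLinearGroup.coe_mul, h, h', mon_mul, mon_mul]
  congr 1
  funext k
  exact mul_comm _ _

theorem Dg_norm {s t : SLL} (hs : IsMon (s : MM)) (ht : t ∈ Dg n F) : s * t * s⁻¹ ∈ Dg n F := by
  obtain ⟨d, hd, h⟩ := ht
  obtain ⟨σ, f, h', hf⟩ := mon_data hs
  refine ⟨_, fun k => ?_, by
    rw [Matrix.SpecialLinearGroup.coe_mul, Matrix.SpecialLinearGroup.coe_mul, mon_inv h' hf, h, h', mon_mul, mon_mul, mul_one,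
      mul_inv_cancel]⟩
  exact mul_ne_zero (mul_ne_zero (hf _) (hd _)) (inv_ne_zero (hf _))

theorem scalar_mem_Dg {s : SLL} {c : F} (hs : (s : MM) = c • (1 : MM)) : s ∈ Dg n F := by
  refine ⟨fun _ => c, fun k => ?_, by rw [hs, smul_one_eq]⟩
  intro hc
  have hc' : c = 0 := hc
  have h := s.2
  haveI : Nonempty (Fin n) := ⟨k⟩
  rw [hs, hc', zero_smul, Matrix.det_zero] at h
  exact zero_ne_one h

theorem cc_conj {H : Type*} [Group H] (y t : H) : cc y (t⁻¹ * y * t) = cc y (cc y t) := by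
  unfold cc
  group

theorem map_cc {H K : Type*} [Group H] [Group K] (f : H →* K) (y t : H) : f (cc y t) = cc (f y) (f t) := by
  simp only [cc, _root_.Cfsg.Agent.H599.TW.cc, _root_.map_mul, _root_.map_inv]

theorem exists_gen [Fintype F] : ∃ x : F, x ≠ 0 ∧ ∀ m : ℕ, 0 < m → x ^ m = 1 → Fintype.card F - 1 ≤ m := by
  classical
  obtain ⟨g, hg⟩ := IsCyclic.exists_generator (α := Fˣ)
  refine ⟨g, g.ne_zero, fun m hm h => ?_⟩
  have ho : orderOf g = Fintype.card F - 1 := by
    rw [orderOf_eq_card_of_forall_mem_zpowers hg, Nat.card_eq_fintype_card, Fintype.card_units]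
  rw [← ho]
  apply Nat.le_of_dvd hm
  apply orderOf_dvd_of_pow_eq_one
  apply Units.ext
  rw [Units.val_pow_eq_pow_val, h, Units.val_one]

/-- Frames of points, `C₂ ∩ N ≠ 1`. -/
theorem one_main [Finite G] [Fintype F] {π : SLL →* G} (hS : Sit N A C A₁ C₁ A₂ C₂ r d) (hM : Model N (iSL n F) π) (P : GLL)
    (hC : Frame (iSL n F) π C (blk (id : Fin n → Fin n)))
    (hA : Frame (iSL n F) π A (fun k => cM P (blk (id : Fin n → Fin n) k))) (hn : 3 ≤ n)
    (hbig : 5 ≤ n ∨ 18 ≤ Fintype.card F) (h2 : C₂ ⊓ N ≠ ⊥) : False := by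
  classical
  have hA' := frame_cS P hA
  have hM' := model_cS P hM
  -- `K₁`
  set! K₁ : Subgroup SLL := C₂.comap π with hK₁
  have hnorm₁ : ∀ s : SLL, IsMon (s : MM) → ∀ y ∈ K₁, s * y * s⁻¹ ∈ K₁ := fun s hs y hy => by
    rw [hK₁, Subgroup.mem_comap, map_mul, map_mul, map_inv]
    exact mem_of_le_normalizer hS.C₂_norm (hC.stab s hs) hy
  have hmon₁ : ∀ y ∈ K₁, IsMon (y : MM) := fun y hy k => perm_of_mem hC (C₂_le_C hS hy) k
  have hpow : ∀ y : SLL, π y ∈ OO r A → ∃ (k : ℕ) (c : F), ((y ^ r ^ k : SLL) : MM) = c • (1 : MM) := fun y hy => by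
    obtain ⟨k, hk⟩ := OO_pow hy
    rw [← map_pow] at hk
    obtain ⟨c, hc⟩ := (ker_iff hM _).mp hk
    exact ⟨k, c, hc⟩
  have hns : ∃ y ∈ K₁, ¬ ∃ c : F, (y : MM) = c • (1 : MM) := by
    obtain ⟨g, hg, hg1⟩ : ∃ g : G, g ∈ C₂ ⊓ N ∧ g ≠ 1 := by
      obtain ⟨x, hx⟩ := (Subgroup.ne_bot_iff_exists_ne_one).mp h2
      exact ⟨x, x.2, fun h => hx (Subtype.ext h)⟩
    have hg2 : g ∈ π.range := by rw [hM.range]; exact hg.2
    obtain ⟨y, rfl⟩ := hg2
    exact ⟨y, hg.1, fun h => hg1 ((ker_iff hM y).mpr h)⟩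
  have hdiag : ∃ z ∈ K₁, ∃ d : Fin n → F, (z : MM) = Matrix.diagonal d ∧ ∃ i j, d i ≠ d j := by
    obtain ⟨y, hy, hys⟩ := hns
    by_cases h5 : 5 ≤ n
    · obtain ⟨σ, d, h1, h3⟩ := mon_data (hmon₁ y hy)
      have hσ := diag_of_five h5 hS.locA.prime hnorm₁ (fun y hy => hpow y (hS.C₂_OO hy)) hy h1 h3
      refine ⟨y, hy, d, by rw [h1, hσ, mon_one], ?_⟩
      by_contra hcon
      push Not at hcon
      apply hys
      refine ⟨d ⟨0, by omega⟩, ?_⟩
      rw [h1, hσ, smul_one_eq]
      congr 1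
      funext k
      exact hcon _ _
    · obtain ⟨x, hx, hx'⟩ := exists_gen (F := F)
      refine exists_diag hn hmon₁ hnorm₁ ⟨x, hx, fun h => ?_, fun h => ?_⟩ hy hys
      · have := hx' 2 (by norm_num) h
        omega
      · have := hx' 3 (by norm_num) h
        omega
  -- `K₀`
  set! K₀ : Subgroup SLL := K₁ ⊓ Dg n F with hK₀
  have hnorm₀ : ∀ s : SLL, IsMon (s : MM) → ∀ y ∈ K₀, s * y * s⁻¹ ∈ K₀ := fun s hs y hy =>
    ⟨hnorm₁ s hs y hy.1, Dg_norm hs hy.2⟩
  have hsc : ∀ s : SLL, π s = 1 → s ∈ K₀ := fun s hs => by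
    obtain ⟨c, hc⟩ := (ker_iff hM s).mp hs
    refine ⟨?_, scalar_mem_Dg hc⟩
    change π s ∈ C₂
    rw [hs]
    exact C₂.one_mem
  have hK₀mem : ∀ w : SLL, π w ∈ K₀.map π → w ∈ K₀ := fun w hw => by
    obtain ⟨k, hk, hkw⟩ := hw
    have : π (k⁻¹ * w) = 1 := by rw [map_mul, map_inv, hkw, inv_mul_cancel]
    have h3 := K₀.mul_mem hk (hsc _ this)
    rwa [mul_inv_cancel_left] at h3
  -- the elements of `K₀` commute with the frame of `A`
  have hcomm : ∀ y ∈ K₀, cS P⁻¹ y ∈ Dg n F := by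
    intro y hy
    have hyA : IsMon ((cS P⁻¹ y : SLL) : MM) := fun k => perm_of_mem hA' (s := cS P⁻¹ y) (by
      rw [MonoidHom.comp_apply, cS_cS_inv]
      exact C₂_le_A hS hy.1) k
    obtain ⟨σ, d, h1, h3⟩ := mon_data hyA
    have hσ : σ = 1 := by
      by_cases h5 : 5 ≤ n
      · refine diag_of_five (K := (OO r A).comap (π.comp (cS P))) h5 hS.locA.prime (fun s hs y hy => ?_) (fun y hy => ?_) (y := cS P⁻¹ y) ?_ h1 h3
        · rw [Subgroup.mem_comap, map_mul, map_mul, map_inv]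
          exact OO_norm hy (hA'.stab s hs)
        · obtain ⟨k, hk⟩ := OO_pow hy
          rw [← map_pow] at hk
          obtain ⟨c, hc⟩ := (ker_iff hM' _).mp hk
          exact ⟨k, c, hc⟩
        · rw [Subgroup.mem_comap, MonoidHom.comp_apply, cS_cS_inv]
          exact hS.C₂_OO hy.1
      · by_contra hne
        obtain ⟨x, hx, hx'⟩ := exists_gen (F := F)
        obtain ⟨m, hm1, hm2, hm3⟩ := pow_eq_one_of_comm (by omega) h1 h3 hne hx (by
          rintro t ⟨f, hf⟩
          refine ⟨1, ?_⟩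
          have htA : π (cS P t) ∈ A := hA'.stab t (fun k => ⟨k, by
            change (t : MM) * _ = _ * (t : MM)
            rw [hf, blk, Matrix.diagonal_mul_diagonal, Matrix.diagonal_mul_diagonal]
            congr 1
            funext a
            exact mul_comm _ _⟩)
          have h4 := tw2N hS (K := K₀.map π) (y := π y) (a := π (cS P t)) (by
              rintro _ ⟨k, hk, rfl⟩
              exact hk.1) (le_normalizer_of (by
              rintro b ⟨hb1, hb2⟩ _ ⟨k, hk, rfl⟩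
              rw [← hM.range] at hb2
              obtain ⟨s, rfl⟩ := hb2
              exact ⟨s * k * s⁻¹, hnorm₀ s (fun k => perm_of_mem hC hb1 k) k hk, by simp only [_root_.map_mul, _root_.map_inv]⟩)) ⟨y, hy, rfl⟩ (by
              rw [← hM.range]; exact ⟨y, rfl⟩) htA
          have h5' : π (cc y ((cS P t)⁻¹ * y * (cS P t))) ∈ K₀.map π := by
            rw [map_cc, map_mul, map_mul, map_inv]
            exact h4
          have h6 := hK₀mem _ h5'
          rw [cc_conj] at h6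
          have h7 : cc y (cc y (cc y (cS P t))) = 1 := by
            have := Dg_comm hy.2 h6.2
            rw [cc, mul_assoc, this]
            group
          have h8 := congrArg (cS P⁻¹) h7
          rw [map_cc, map_cc, map_cc, cS_inv_cS, map_one] at h8
          rw [h8, Matrix.SpecialLinearGroup.coe_one, one_smul])
        have := hx' m hm1 hm3
        omega
    subst hσ
    exact ⟨d, h3, h1⟩
  -- the frame of `A` is diagonal
  obtain ⟨z, hz, d, hzd, i₀, j₀, hij⟩ := hdiag
  have hd0 : ∀ k, d k ≠ 0 := fun k hk => by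
    have h := z.2
    rw [hzd, Matrix.det_diagonal, Finset.prod_eq_zero (Finset.mem_univ k) hk] at h
    exact zero_ne_one h
  have hz0 : z ∈ K₀ := ⟨hz, d, hd0, by rw [hzd, mon_one]⟩
  have hoff : ∀ i k l : Fin n, k ≠ l → (cM P (blk (id : Fin n → Fin n) i)) k l = 0 := fun i k l hkl => by
    refine diag_of_comm (by omega) hnorm₀ hz0 hzd hij (fun y hy => ?_) hkl
    obtain ⟨f, _, hf⟩ := hcomm y hy
    have h1 : blk (id : Fin n → Fin n) i * ((cS P⁻¹ y : SLL) : MM) = ((cS P⁻¹ y : SLL) : MM) * blk (id : Fin n → Fin n) i := by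
      rw [hf, mon_one, blk, Matrix.diagonal_mul_diagonal, Matrix.diagonal_mul_diagonal]
      congr 1
      funext a
      exact mul_comm _ _
    have h2 := congrArg (cM P) h1
    rw [cM_mul, cM_mul, cS_coe, cM_cM_inv] at h2
    exact h2
  -- the frames coincide
  have hlie : ∀ k, ∃ i, cM P (blk (id : Fin n → Fin n) i) * blk (id : Fin n → Fin n) k = (blk (id : Fin n → Fin n) k : MM) := by
    intro k
    have hone : ∑ i, (cM P (blk (id : Fin n → Fin n) i)) k k = (1 : F) := by
      have h1 := congrFun (congrFun hA.sum k) k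
      rw [Matrix.sum_apply, Matrix.one_apply_eq] at h1
      exact h1
    obtain ⟨i, hi⟩ : ∃ i, (cM P (blk (id : Fin n → Fin n) i)) k k ≠ (0 : F) := by
      by_contra hcon
      push Not at hcon
      rw [Finset.sum_eq_zero (fun i _ => hcon i)] at hone
      exact zero_ne_one hone
    refine ⟨i, ?_⟩
    have hidem := congrFun (congrFun (hA.idem i) k) k
    rw [Matrix.mul_apply, Finset.sum_eq_single k (fun l _ hl => by rw [hoff i k l hl.symm, zero_mul])
      (fun h => absurd (Finset.mem_univ _) h)] at hidem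
    have h1 : (cM P (blk (id : Fin n → Fin n) i)) k k = (1 : F) := mul_left_cancel₀ hi (by rw [hidem, mul_one])
    ext a c
    rw [mul_blk, blk_apply]
    simp only [id_eq]
    by_cases hc : c = k
    · subst hc
      rw [if_pos rfl]
      by_cases hac : a = c
      · subst hac; rw [h1]; simp
      · rw [hoff i a c hac, if_neg hac]
    · rw [if_neg hc]
      split_ifs with h3 h4
      · exact absurd (h3.symm.trans h4) hc
      · rfl
      · rfl
  obtain ⟨f, hf⟩ := frames_eq hC.sum hA.ne hA.orth hlie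
  refine absurd_of_inf_eq hS (inf_eq_of_frames hM hC hA f hf).symm ?_
  intro h0
  apply h2
  rw [eq_bot_iff]
  intro g hg
  rw [← h0]
  exact ⟨C₂_le_A hS hg.1, hg.2⟩

end Cfsg.Agent.H599.TW
end

-- part: H599/TW/Blk
section
/-!
# S3694: frames of planes, one frame (helper599)
-/

set_option autoImplicit false
set_option linter.unusedSectionVars false
set_option linter.style.haveILetI false

namespace Cfsg.Agent.H599.TW

open Subgroup Cfsg.Agent.H607.TW

universe u

variable {F : Type} [Field F] {n : ℕ}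

local notation "MM" => Matrix (Fin n) (Fin n) F
local notation "GLL" => Matrix.GeneralLinearGroup (Fin n) F
local notation "SLL" => Matrix.SpecialLinearGroup (Fin n) F

variable {t : ℕ} (E : Fin t × Fin 2 ≃ Fin n)

/-- The idempotents of the standard frame of planes. -/
def bl (i : Fin t) : MM := blk (fun k => (E.symm k).1) i

theorem bl_apply (i : Fin t) (a c : Fin n) :
    (bl E i : MM) a c = if a = c then (if (E.symm a).1 = i then 1 else 0) else 0 := blk_apply _ _ _ _

/-- `M_2(F)` acting on the `i`-th plane. -/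
def J (i : Fin t) (Z : Matrix (Fin 2) (Fin 2) F) : MM := Matrix.of fun k l =>
  if (E.symm k).1 = i ∧ (E.symm l).1 = i then Z (E.symm k).2 (E.symm l).2 else 0

theorem J_apply (i : Fin t) (Z : Matrix (Fin 2) (Fin 2) F) (k l : Fin n) : (J E i Z : MM) k l =
    if (E.symm k).1 = i ∧ (E.symm l).1 = i then Z (E.symm k).2 (E.symm l).2 else 0 := rfl

theorem J_one (i : Fin t) : (J E i 1 : MM) = bl E i := by
  ext k l
  rw [J_apply, bl_apply]
  by_cases hkl : k = l
  · subst hkl; simp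
  · rw [if_neg hkl]
    split_ifs with h
    · rw [Matrix.one_apply_ne]
      intro h2
      apply hkl
      apply E.symm.injective
      exact Prod.ext (h.1.trans h.2.symm) h2
    · rfl

theorem J_inj (i : Fin t) {Z Z' : Matrix (Fin 2) (Fin 2) F} (h : (J E i Z : MM) = J E i Z') : Z = Z' := by
  ext a b
  have := congrFun (congrFun h (E (i, a))) (E (i, b))
  rw [J_apply, J_apply] at this
  simpa using this

theorem J_mul (i : Fin t) (Z Z' : Matrix (Fin 2) (Fin 2) F) : (J E i Z : MM) * J E i Z' = J E i (Z * Z') := by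
  ext k l
  rw [Matrix.mul_apply, ← Equiv.sum_comp E, Fintype.sum_prod_type, J_apply]
  simp only [J_apply, Equiv.symm_apply_apply]
  rw [Finset.sum_eq_single i]
  · by_cases hk : (E.symm k).1 = i
    · by_cases hl : (E.symm l).1 = i
      · simp [hk, hl, Matrix.mul_apply]
      · simp [hl]
    · simp [hk]
  · intro j _ hj
    apply Finset.sum_eq_zero
    intro a _
    simp [hj]
  · intro h; exact absurd (Finset.mem_univ _) h

theorem J_add (i : Fin t) (Z Z' : Matrix (Fin 2) (Fin 2) F) : (J E i Z : MM) + J E i Z' = J E i (Z + Z') := by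
  ext k l
  rw [Matrix.add_apply, J_apply, J_apply, J_apply]
  split_ifs <;> simp

theorem J_smul (i : Fin t) (c : F) (Z : Matrix (Fin 2) (Fin 2) F) : c • (J E i Z : MM) = J E i (c • Z) := by
  ext k l
  rw [Matrix.smul_apply, J_apply, J_apply]
  split_ifs <;> simp

theorem J_zero (i : Fin t) : (J E i 0 : MM) = 0 := by
  ext k l
  rw [J_apply]
  simp

theorem bl_mul_J (i : Fin t) (Z : Matrix (Fin 2) (Fin 2) F) : (bl E i : MM) * J E i Z = J E i Z := by
  rw [← J_one, J_mul, one_mul]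

theorem J_mul_bl (i : Fin t) (Z : Matrix (Fin 2) (Fin 2) F) : (J E i Z : MM) * bl E i = J E i Z := by
  rw [← J_one, J_mul, mul_one]

theorem bl_mul_bl (i j : Fin t) (hij : i ≠ j) : (bl E i : MM) * bl E j = 0 := by
  ext a c
  have h0 : (bl E i * bl E j : MM) a c = if (E.symm a).1 = i then (bl E j : MM) a c else 0 := blk_mul _ _ _ _ _
  rw [h0, bl_apply, Matrix.zero_apply]
  split_ifs with h1 h2 h3
  · subst h2
    exact absurd (h1.symm.trans h3) hij
  · rfl
  · rfl
  · rfl

theorem bl_idem (i : Fin t) : (bl E i : MM) * bl E i = bl E i := by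
  rw [← J_one, J_mul, one_mul]

theorem sum_bl : ∑ i, (bl E i : MM) = 1 := by
  ext a c
  rw [Matrix.sum_apply]
  simp only [bl_apply]
  by_cases h : a = c
  · subst h; simp only [↓ _root_.reduceIte, _root_.Finset.sum_ite_eq, _root_.Finset.mem_univ, _root_.Matrix.one_apply_eq]
  · simp only [h, ↓ _root_.reduceIte, _root_.Finset.sum_const_zero, _root_.ne_eq, _root_.not_false_eq_true, _root_.Matrix.one_apply_ne]

theorem bl_ne (i : Fin t) : (bl E i : MM) ≠ 0 := by
  intro h
  have := congrFun (congrFun h (E (i, 0))) (E (i, 0))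
  rw [bl_apply, if_pos rfl] at this
  simp at this

theorem bl_mul_J' {i j : Fin t} (hij : j ≠ i) (Z : Matrix (Fin 2) (Fin 2) F) : (bl E j : MM) * J E i Z = 0 := by
  rw [← bl_mul_J, ← mul_assoc, bl_mul_bl E j i hij, zero_mul]

theorem J_mul_bl' {i j : Fin t} (hij : j ≠ i) (Z : Matrix (Fin 2) (Fin 2) F) : (J E i Z : MM) * bl E j = 0 := by
  rw [← J_mul_bl, mul_assoc, bl_mul_bl E i j hij.symm, mul_zero]

theorem J_comm (i j : Fin t) (Z : Matrix (Fin 2) (Fin 2) F) : (bl E j : MM) * J E i Z = J E i Z * bl E j := by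
  by_cases h : j = i
  · subst h; rw [bl_mul_J, J_mul_bl]
  · rw [bl_mul_J' E h, J_mul_bl' E h]

/-- restriction of a matrix to the `i`-th plane -/
def rs (i : Fin t) (y : MM) : Matrix (Fin 2) (Fin 2) F := Matrix.of fun a b => y (E (i, a)) (E (i, b))

theorem mul_bl_eq {i : Fin t} {y : MM} (h : y * bl E i = bl E i * y) : y * bl E i = J E i (rs E i y) := by
  ext k l
  rw [J_apply]
  have h1 : (y * bl E i : MM) k l = if (E.symm l).1 = i then y k l else 0 := mul_blk _ _ _ _ _
  have h2 : (bl E i * y : MM) k l = if (E.symm k).1 = i then y k l else 0 := blk_mul _ _ _ _ _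
  have h3 := congrFun (congrFun h k) l
  rw [h1]
  rw [h1, h2] at h3
  by_cases hl : (E.symm l).1 = i
  · by_cases hk : (E.symm k).1 = i
    · rw [if_pos hl, if_pos ⟨hk, hl⟩]
      change y k l = y (E (i, (E.symm k).2)) (E (i, (E.symm l).2))
      congr 1
      · rw [← hk]; simp
      · rw [← hl]; simp
    · rw [if_pos hl, if_neg (fun hh => hk hh.1)]
      rw [if_pos hl, if_neg hk] at h3
      exact h3
  · rw [if_neg hl, if_neg (fun hh => hl hh.2)]

/-- The element of `SL_n(F)` acting as `Z ∈ SL_2(F)` on the `i`-th plane. -/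
theorem det_J (i : Fin t) (Z : Matrix (Fin 2) (Fin 2) F) : (1 - bl E i + J E i Z : MM).det = Z.det := by
  have h : (1 - bl E i + J E i Z : MM) = (Matrix.blockDiagonal (fun j : Fin t => if j = i then Z else 1)).reindex
      ((Equiv.prodComm _ _).trans E) ((Equiv.prodComm _ _).trans E) := by
    ext k l
    obtain ⟨⟨i₁, a⟩, rfl⟩ := E.surjective k
    obtain ⟨⟨i₂, c⟩, rfl⟩ := E.surjective l
    rw [Matrix.reindex_apply, Matrix.submatrix_apply, Matrix.add_apply, Matrix.sub_apply, Matrix.one_apply, bl_apply, J_apply]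
    simp only [Equiv.symm_trans_apply, Equiv.symm_apply_apply, EmbeddingLike.apply_eq_iff_eq, Prod.mk.injEq]
    change _ = Matrix.blockDiagonal (fun j : Fin t => if j = i then Z else 1) (a, i₁) (c, i₂)
    rw [Matrix.blockDiagonal_apply]
    by_cases h12 : i₁ = i₂
    · subst h12
      by_cases hi : i₁ = i
      · subst hi; simp
      · simp [hi, Matrix.one_apply]
    · simp only [h12, false_and, if_false]
      rw [if_neg (fun hh => h12 (hh.1.trans hh.2.symm))]
      simp
  rw [h, Matrix.det_reindex_self, Matrix.det_blockDiagonal]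
  rw [Finset.prod_eq_single i]
  · simp
  · intro j _ hj; simp [hj]
  · intro hh; exact absurd (Finset.mem_univ _) hh

/-- `SL_2(F)` on the `i`-th plane. -/
def jS (i : Fin t) : Matrix.SpecialLinearGroup (Fin 2) F →* SLL where
  toFun s := ⟨1 - bl E i + J E i (s : Matrix (Fin 2) (Fin 2) F), by rw [det_J, s.2]⟩
  map_one' := by
    apply Subtype.ext
    change (1 - bl E i + J E i 1 : MM) = 1
    rw [J_one, sub_add_cancel]
  map_mul' s u := by
    apply Subtype.ext
    change (1 - bl E i + J E i ((s * u : Matrix.SpecialLinearGroup (Fin 2) F) : Matrix (Fin 2) (Fin 2) F) : MM) =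
      (1 - bl E i + J E i (s : Matrix (Fin 2) (Fin 2) F)) * (1 - bl E i + J E i (u : Matrix (Fin 2) (Fin 2) F))
    rw [Matrix.SpecialLinearGroup.coe_mul, ← J_mul]
    simp only [add_mul, mul_add, sub_mul, mul_sub, one_mul, mul_one, bl_idem, bl_mul_J, J_mul_bl]
    abel

theorem jS_coe (i : Fin t) (s : Matrix.SpecialLinearGroup (Fin 2) F) :
    ((jS E i s : SLL) : MM) = 1 - bl E i + J E i (s : Matrix (Fin 2) (Fin 2) F) := rfl

theorem jS_mul_bl (i : Fin t) (s : Matrix.SpecialLinearGroup (Fin 2) F) :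
    ((jS E i s : SLL) : MM) * bl E i = J E i (s : Matrix (Fin 2) (Fin 2) F) := by
  rw [jS_coe, add_mul, sub_mul, one_mul, bl_idem, sub_self, zero_add, J_mul_bl]

theorem jS_mul_bl' {i j : Fin t} (hij : j ≠ i) (s : Matrix.SpecialLinearGroup (Fin 2) F) :
    ((jS E i s : SLL) : MM) * bl E j = bl E j := by
  rw [jS_coe, add_mul, sub_mul, one_mul, bl_mul_bl E i j hij.symm, J_mul_bl' E hij, sub_zero, add_zero]

theorem jS_comm (i j : Fin t) (s : Matrix.SpecialLinearGroup (Fin 2) F) :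
    ((jS E i s : SLL) : MM) * bl E j = bl E j * ((jS E i s : SLL) : MM) := by
  have h1 : (bl E i : MM) * bl E j = bl E j * bl E i := by
    by_cases h : i = j
    · rw [h]
    · rw [bl_mul_bl E i j h, bl_mul_bl E j i (Ne.symm h)]
  rw [jS_coe, add_mul, mul_add, sub_mul, mul_sub, one_mul, mul_one, h1, J_comm]

/-- the transvections of `SL_2(F)` -/
def t2 (b : Bool) (c : F) : Matrix.SpecialLinearGroup (Fin 2) F :=
  if b then ⟨!![1, c; 0, 1], by simp [Matrix.det_fin_two]⟩ else ⟨!![1, 0; c, 1], by simp [Matrix.det_fin_two]⟩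

theorem coe_mul_inv_S (y : SLL) : (y : MM) * ((y⁻¹ : SLL) : MM) = 1 := by
  rw [← Matrix.SpecialLinearGroup.coe_mul, mul_inv_cancel, Matrix.SpecialLinearGroup.coe_one]

theorem coe_inv_mul_S (y : SLL) : ((y⁻¹ : SLL) : MM) * (y : MM) = 1 := by
  rw [← Matrix.SpecialLinearGroup.coe_mul, inv_mul_cancel, Matrix.SpecialLinearGroup.coe_one]

/-- a matrix commuting with the frame: inverse -/
theorem inv_comm_of {y : SLL} {x z : MM} (h : (y : MM) * x = z * (y : MM)) : ((y⁻¹ : SLL) : MM) * z = x * ((y⁻¹ : SLL) : MM) := by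
  calc ((y⁻¹ : SLL) : MM) * z = ((y⁻¹ : SLL) : MM) * (z * (y : MM)) * ((y⁻¹ : SLL) : MM) := by
        rw [mul_assoc, mul_assoc, coe_mul_inv_S, mul_one]
    _ = ((y⁻¹ : SLL) : MM) * ((y : MM) * x) * ((y⁻¹ : SLL) : MM) := by rw [h]
    _ = x * ((y⁻¹ : SLL) : MM) := by rw [← mul_assoc, coe_inv_mul_S, one_mul]

theorem one_add_pow {D : MM} (hD : D * D = 0) (m : ℕ) : (1 + D) ^ m = 1 + (m : F) • D := by
  induction m with
  | zero => simp only [_root_.pow_zero, _root_.Nat.cast_zero, _root_.zero_smul, _root_.add_zero]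
  | succ m ih =>
    rw [pow_succ, ih, add_mul, one_mul, mul_add, mul_one, Matrix.smul_mul, hD, smul_zero, add_zero]
    push_cast
    rw [add_smul, one_smul]
    abel

/-- A normal `r`-subgroup of the stabilizer of the frame fixes the planes, `r ≠ char F`. -/
theorem bl_fix {K : Subgroup SLL} {r : ℕ} (hr : (r : F) ≠ 0)
    (hnorm : ∀ i (s : Matrix.SpecialLinearGroup (Fin 2) F), ∀ y ∈ K, jS E i s * y * (jS E i s)⁻¹ ∈ K)
    (hpow : ∀ y ∈ K, ∃ (k : ℕ) (c : F), ((y ^ r ^ k : SLL) : MM) = c • (1 : MM)) {y : SLL} (hy : y ∈ K)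
    {i j : Fin t} (hij : (y : MM) * bl E i = bl E j * (y : MM)) : j = i := by
  by_contra hne
  set! N : MM := J E i !![0, 1; 0, 0] with hN
  have hNN : N * N = 0 := by
    rw [hN, J_mul]
    have : (!![0, 1; 0, 0] : Matrix (Fin 2) (Fin 2) F) * !![0, 1; 0, 0] = 0 := by
      ext a b; (revert a b; simp only [_root_.Fin.forall_fin_succ, _root_.Matrix.cons_mul, _root_.Nat.succ_eq_add_one, Nat.reduceAdd, _root_.Matrix.vecMul_cons, _root_.Matrix.head_cons, _root_.zero_smul, _root_.Matrix.tail_cons, _root_.one_smul, _root_.Matrix.empty_vecMul, _root_.add_zero, _root_.zero_add, _root_.Matrix.empty_mul, _root_.Equiv.symm_apply_apply, _root_.Matrix.of_apply, _root_.Matrix.cons_val', _root_.Pi.zero_apply, _root_.Matrix.cons_val_fin_one, _root_.Matrix.zero_apply, Fin.isValue, _root_.Matrix.cons_val_zero, _root_.Matrix.cons_val_succ, _root_.forall_const, _root_.and_self, _root_.implies_true])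
    rw [this, J_zero]
  have hN0 : N ≠ 0 := by
    intro h
    rw [hN, ← J_zero E i] at h
    have := congrFun (congrFun (J_inj E i h) 0) 1
    simp at this
  have haN : ∀ c : F, ((jS E i (t2 true c) : SLL) : MM) = 1 + c • N := fun c => by
    have h1 : ((t2 true c : Matrix.SpecialLinearGroup (Fin 2) F) : Matrix (Fin 2) (Fin 2) F) = 1 + c • !![0, 1; 0, 0] := by
      simp only [t2]
      ext a b; (revert a b; simp only [_root_.Fin.forall_fin_succ, ↓reduceIte, _root_.Matrix.of_apply, _root_.Matrix.cons_val', _root_.Matrix.cons_val_fin_one, _root_.Matrix.smul_of, _root_.Matrix.smul_cons, _root_.smul_eq_mul, _root_.MulZeroClass.mul_zero, _root_.mul_one, _root_.Matrix.smul_empty, _root_.Matrix.add_apply, Fin.isValue, _root_.Matrix.cons_val_zero, _root_.Matrix.cons_val_succ, _root_.IsEmpty.forall_iff, _root_.and_true, _root_.Matrix.one_apply_eq, _root_.add_zero, Nat.reduceAdd, _root_.Fin.succ_zero_eq_one, _root_.ne_eq, _root_.zero_ne_one, _root_.not_false_eq_true,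 _root_.Matrix.one_apply_ne, _root_.zero_add, _root_.and_self, _root_.Fin.succ_ne_zero, _root_.true_and])
    rw [jS_coe, h1, ← J_add, J_one, ← J_smul]
    abel
  set! a : SLL := jS E i (t2 true 1) with ha
  have ha1 : (a : MM) = 1 + N := by rw [ha, haN, one_smul]
  have ha2 : ((a⁻¹ : SLL) : MM) = 1 - N := by
    have h1 : (a : MM) * (1 - N) = 1 := by
      rw [ha1, add_mul, mul_sub, mul_sub, hNN]
      simp
    calc ((a⁻¹ : SLL) : MM) = ((a⁻¹ : SLL) : MM) * ((a : MM) * (1 - N)) := by rw [h1, mul_one]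
      _ = 1 - N := by rw [← mul_assoc, coe_inv_mul_S, one_mul]
  have hbN : bl E i * N = N := bl_mul_J E i _
  have hNb : N * bl E i = N := J_mul_bl E i _
  have hbN' : bl E j * N = 0 := bl_mul_J' E hne _
  have hNb' : N * bl E j = 0 := J_mul_bl' E hne _
  have hyi := inv_comm_of hij
  set Y : MM := (y : MM) with hY
  set Yi : MM := ((y⁻¹ : SLL) : MM) with hYi
  have hYY : Y * Yi = 1 := coe_mul_inv_S y
  have hYY' : Yi * Y = 1 := coe_inv_mul_S y
  -- `hyi : Yi * bl j = bl i * Yi`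
  set! N' : MM := Y * N * Yi with hN'
  have h1 : N' * N = 0 := by
    calc N' * N = Y * (N * bl E i) * Yi * N := by rw [hNb]
      _ = Y * N * (bl E i * Yi) * N := by simp only [mul_assoc]
      _ = Y * N * Yi * (bl E j * N) := by rw [← hyi]; simp only [mul_assoc]
      _ = 0 := by rw [hbN', mul_zero]
  have h2 : N * N' = 0 := by
    calc N * N' = N * Y * (bl E i * N) * Yi := by rw [hbN, hN']; simp only [mul_assoc]
      _ = N * (Y * bl E i) * N * Yi := by simp only [mul_assoc]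
      _ = (N * bl E j) * Y * N * Yi := by rw [hij]; simp only [mul_assoc]
      _ = 0 := by rw [hNb']; simp
  have h3 : N' * N' = 0 := by
    calc N' * N' = Y * N * (Yi * Y) * N * Yi := by rw [hN']; simp only [mul_assoc]
      _ = Y * (N * N) * Yi := by rw [hYY']; simp only [mul_assoc, one_mul]
      _ = 0 := by rw [hNN]; simp
  have h4 : bl E i * N' = 0 := by
    calc bl E i * N' = bl E i * (Y * (bl E i * N)) * Yi := by rw [hbN, hN']; simp only [mul_assoc]
      _ = bl E i * (Y * bl E i) * N * Yi := by simp only [mul_assoc]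
      _ = (bl E i * bl E j) * Y * N * Yi := by rw [hij]; simp only [mul_assoc]
      _ = 0 := by rw [bl_mul_bl E i j (Ne.symm hne)]; simp
  set! D : MM := N' - N with hD
  have hDD : D * D = 0 := by
    rw [hD, sub_mul, mul_sub, mul_sub, h1, h2, h3, hNN]
    simp
  have hD0 : D ≠ 0 := by
    intro h
    have : bl E i * D = 0 := by rw [h, mul_zero]
    rw [hD, mul_sub, h4, hbN, zero_sub, neg_eq_zero] at this
    exact hN0 this
  have hu : ((y * (a * y⁻¹ * a⁻¹) : SLL) : MM) = 1 + D := by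
    rw [Matrix.SpecialLinearGroup.coe_mul, Matrix.SpecialLinearGroup.coe_mul, Matrix.SpecialLinearGroup.coe_mul, ha1, ha2]
    calc Y * ((1 + N) * Yi * (1 - N)) = (Y * Yi + Y * N * Yi) * (1 - N) := by
          rw [add_mul, one_mul, ← mul_assoc, mul_add, ← mul_assoc]
      _ = 1 + D := by
          rw [hYY, ← hN', add_mul, one_mul, mul_sub, mul_one, h1, hD]
          abel
  obtain ⟨k, c, hk⟩ := hpow _ (K.mul_mem hy (hnorm i (t2 true 1) _ (K.inv_mem hy)))
  rw [← ha, Matrix.SpecialLinearGroup.coe_pow, hu, one_add_pow hDD] at hk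
  have h5 : (1 - c) • D = 0 := by
    have := congrArg (fun X => X * D) hk
    simp only [add_mul, one_mul, Matrix.smul_mul, hDD, smul_zero, add_zero] at this
    rw [sub_smul, one_smul, ← this, sub_self]
  rcases smul_eq_zero.mp h5 with h6 | h6
  · rw [← sub_eq_zero.mp h6, one_smul, add_eq_left] at hk
    rcases smul_eq_zero.mp hk with h7 | h7
    · rw [Nat.cast_pow] at h7
      exact pow_ne_zero k hr h7
    · exact hD0 h7
  · exact hD0 h6

theorem t2_inv (b : Bool) (c : F) : (t2 b c)⁻¹ = t2 b (-c) := by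
  rw [inv_eq_iff_mul_eq_one]
  apply Subtype.ext
  rw [Matrix.SpecialLinearGroup.coe_mul, Matrix.SpecialLinearGroup.coe_one]
  cases b
  · change (!![1, 0; c, 1] : Matrix (Fin 2) (Fin 2) F) * !![1, 0; -c, 1] = 1
    rw [Matrix.mul_fin_two, Matrix.one_fin_two]
    simp
  · change (!![1, c; 0, 1] : Matrix (Fin 2) (Fin 2) F) * !![1, -c; 0, 1] = 1
    rw [Matrix.mul_fin_two, Matrix.one_fin_two]
    simp

theorem t2_true (c : F) : ((t2 true c : Matrix.SpecialLinearGroup (Fin 2) F) : Matrix (Fin 2) (Fin 2) F) = !![1, c; 0, 1] := rfl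

theorem t2_false (c : F) : ((t2 false c : Matrix.SpecialLinearGroup (Fin 2) F) : Matrix (Fin 2) (Fin 2) F) = !![1, 0; c, 1] := rfl

/-- **Lemma N** for `GL_2`, characteristic not two. -/
theorem lemmaN (h2 : (2 : F) ≠ 0) {Z : Matrix (Fin 2) (Fin 2) F}
    (H : ∀ (b : Bool) (c : F), c = 1 ∨ c = -1 →
      Z * ((((t2 b c)⁻¹ : Matrix.SpecialLinearGroup (Fin 2) F) : Matrix (Fin 2) (Fin 2) F) * Z * (t2 b c : Matrix.SpecialLinearGroup (Fin 2) F)) =
      (((t2 b c)⁻¹ : Matrix.SpecialLinearGroup (Fin 2) F) : Matrix (Fin 2) (Fin 2) F) * Z * (t2 b c : Matrix.SpecialLinearGroup (Fin 2) F) * Z) :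
    ∃ c : F, Z = c • (1 : Matrix (Fin 2) (Fin 2) F) := by
  have e1 := H true 1 (Or.inl rfl)
  have e2 := H true (-1) (Or.inr rfl)
  have e3 := H false 1 (Or.inl rfl)
  have e4 := H false (-1) (Or.inr rfl)
  rw [t2_inv, t2_true, t2_true, Matrix.eta_fin_two Z, Matrix.mul_fin_two, Matrix.mul_fin_two, Matrix.mul_fin_two,
    Matrix.mul_fin_two] at e1 e2
  rw [t2_inv, t2_false, t2_false, Matrix.eta_fin_two Z, Matrix.mul_fin_two, Matrix.mul_fin_two, Matrix.mul_fin_two,
    Matrix.mul_fin_two] at e3 e4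
  have f1 := congrFun (congrFun e1 0) 0
  have f2 := congrFun (congrFun e2 0) 0
  have f3 := congrFun (congrFun e3 0) 0
  have f4 := congrFun (congrFun e4 0) 0
  have g1 := congrFun (congrFun e1 0) 1
  simp only [Matrix.of_apply, Matrix.cons_val', Matrix.cons_val_zero, Matrix.cons_val_one, Matrix.cons_val_fin_one] at f1 f2 f3 f4 g1
  have h10 : Z 1 0 = 0 := by
    have : 2 * (Z 1 0 * Z 1 0) = 0 := by linear_combination f1 + f2
    rcases mul_eq_zero.mp this with h | h
    · exact absurd h h2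
    · exact mul_self_eq_zero.mp h
  have h01 : Z 0 1 = 0 := by
    have : 2 * (Z 0 1 * Z 0 1) = 0 := by linear_combination -f3 - f4
    rcases mul_eq_zero.mp this with h | h
    · exact absurd h h2
    · exact mul_self_eq_zero.mp h
  rw [h10, h01] at g1
  have h11 : Z 0 0 = Z 1 1 := by
    have : (Z 0 0 - Z 1 1) * (Z 0 0 - Z 1 1) = 0 := by linear_combination g1
    exact sub_eq_zero.mp (mul_self_eq_zero.mp this)
  refine ⟨Z 0 0, ?_⟩
  ext i j
  (revert i j; simp only [h10, h01, h11, _root_.Fin.forall_fin_succ, Fin.isValue, _root_.Matrix.smul_apply, _root_.smul_eq_mul, _root_.Fin.succ_zero_eq_one, _root_.IsEmpty.forall_iff, _root_.and_true, _root_.Matrix.one_apply_eq, _root_.mul_one, Nat.reduceAdd, _root_.ne_eq, _root_.zero_ne_one, _root_.not_false_eq_true, _root_.Matrix.one_apply_ne, _root_.MulZeroClass.mul_zero, _root_.and_self, _root_.Fin.succ_ne_zero])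

/-- `y` acts on the `i`-th plane as `Z` -/
def Res (i : Fin t) (y : MM) (Z : Matrix (Fin 2) (Fin 2) F) : Prop := y * bl E i = J E i Z ∧ bl E i * y = J E i Z

variable {E}

theorem Res.of_comm {i : Fin t} {y : MM} (h : y * bl E i = bl E i * y) : Res E i y (rs E i y) :=
  ⟨mul_bl_eq E h, by rw [← h, mul_bl_eq E h]⟩

theorem Res.mul {i : Fin t} {y y' : MM} {Z Z' : Matrix (Fin 2) (Fin 2) F} (h : Res E i y Z) (h' : Res E i y' Z') :
    Res E i (y * y') (Z * Z') := by
  constructor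
  · rw [mul_assoc, h'.1, ← bl_mul_J E i Z', ← mul_assoc, h.1, J_mul]
  · rw [← mul_assoc, h.2, ← J_mul_bl E i Z, mul_assoc, h'.2, J_mul]

theorem Res.one (i : Fin t) : Res E i (1 : MM) 1 := by
  constructor
  · rw [one_mul, J_one]
  · rw [mul_one, J_one]

theorem Res.pow {i : Fin t} {y : MM} {Z : Matrix (Fin 2) (Fin 2) F} (h : Res E i y Z) (m : ℕ) : Res E i (y ^ m) (Z ^ m) := by
  induction m with
  | zero => rw [pow_zero, pow_zero]; exact Res.one i
  | succ m ih => rw [pow_succ, pow_succ]; exact ih.mul h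

theorem Res.eq {i : Fin t} {y : MM} {Z Z' : Matrix (Fin 2) (Fin 2) F} (h : Res E i y Z) (h' : Res E i y Z') : Z = Z' :=
  J_inj E i (h.1.symm.trans h'.1)

theorem Res.jS (i : Fin t) (s : Matrix.SpecialLinearGroup (Fin 2) F) :
    Res E i ((jS E i s : SLL) : MM) (s : Matrix (Fin 2) (Fin 2) F) :=
  ⟨jS_mul_bl E i s, by rw [← jS_comm, jS_mul_bl]⟩

/-- If `y` commutes with its conjugates under `SL_2` on the `i`-th plane, it is scalar there. -/
theorem scalar_of (h2 : (2 : F) ≠ 0) {i : Fin t} {y : SLL} (hy : (y : MM) * bl E i = bl E i * (y : MM))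
    (H : ∀ (b : Bool) (c : F), c = 1 ∨ c = -1 → y * ((jS E i (t2 b c))⁻¹ * y * jS E i (t2 b c)) =
      (jS E i (t2 b c))⁻¹ * y * jS E i (t2 b c) * y) : ∃ c : F, (y : MM) * bl E i = c • bl E i := by
  have hZ := Res.of_comm hy
  obtain ⟨c, hc⟩ := lemmaN h2 (Z := rs E i (y : MM)) (fun b c hbc => by
    have h1 := congrArg (fun s : SLL => (s : MM)) (H b c hbc)
    simp only [Matrix.SpecialLinearGroup.coe_mul, ← map_inv] at h1
    have h3 := Res.jS (E := E) i (t2 b c)
    have h4 := Res.jS (E := E) i (t2 b c)⁻¹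
    have h5 := hZ.mul ((h4.mul hZ).mul h3)
    have h6 := ((h4.mul hZ).mul h3).mul hZ
    rw [← h1] at h6
    exact h5.eq h6)
  refine ⟨c, ?_⟩
  rw [hZ.1, hc, ← J_smul, J_one]

theorem two_elems [Fintype F] (h : Fintype.card F = 2) (x : F) : x = 0 ∨ x = 1 := by
  have h1 := FiniteField.pow_card x
  rw [h] at h1
  have h2 : x * (x - 1) = 0 := by linear_combination h1
  rcases mul_eq_zero.mp h2 with h3 | h3
  · exact Or.inl h3
  · exact Or.inr (sub_eq_zero.mp h3)

theorem two_eq_zero [Fintype F] (h : Fintype.card F = 2) : (2 : F) = 0 := by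
  have := Nat.cast_card_eq_zero F
  rw [h] at this
  exact_mod_cast this

/-- Over the field of two elements: an element of odd order acts on a plane trivially or without fixed vectors. -/
theorem dich [Fintype F] (hF : Fintype.card F = 2) {i : Fin t} {y : MM} (hy : y * bl E i = bl E i * y) {m : ℕ} (hm : Odd m)
    (hpow : y ^ m = 1) : y * bl E i = bl E i ∨ (1 + y + y * y) * bl E i = 0 := by
  have hZ := Res.of_comm hy
  set Z := rs E i y with hZdef
  have h20 := two_eq_zero hF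
  have hZm : Z ^ m = 1 := by
    have h1 := hZ.pow m
    rw [hpow] at h1
    exact h1.eq (Res.one i)
  have hdet : Z.det = 1 := by
    rcases two_elems hF Z.det with h | h
    · exfalso
      have h1 := congrArg Matrix.det hZm
      rw [Matrix.det_pow, h, Matrix.det_one, zero_pow (by rcases hm with ⟨k, rfl⟩; omega)] at h1
      exact zero_ne_one h1
    · exact h
  have hCH : Z * Z = (Z 0 0 + Z 1 1) • Z - Z.det • (1 : Matrix (Fin 2) (Fin 2) F) := by
    rw [Matrix.det_fin_two]
    ext a b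
    (revert a b; simp only [Matrix.mul_apply, Fin.sum_univ_two, _root_.Fin.forall_fin_succ, Fin.isValue, _root_.Matrix.sub_apply, _root_.Matrix.smul_apply, _root_.smul_eq_mul, _root_.Fin.succ_zero_eq_one, _root_.IsEmpty.forall_iff, _root_.and_true, _root_.Matrix.one_apply_eq, _root_.mul_one, Nat.reduceAdd, _root_.ne_eq, _root_.zero_ne_one, _root_.not_false_eq_true, _root_.Matrix.one_apply_ne, _root_.MulZeroClass.mul_zero, _root_.sub_zero, _root_.Fin.succ_ne_zero]) <;> (repeat' with_reducible apply And.intro) <;> ring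
  have h2M : ∀ X : Matrix (Fin 2) (Fin 2) F, X + X = 0 := fun X => by
    rw [← two_smul F X, h20, zero_smul]
  rcases two_elems hF (Z 0 0 + Z 1 1) with htr | htr
  · left
    rw [htr, zero_smul, hdet, one_smul, zero_sub] at hCH
    have hZ2 : Z * Z = 1 := by
      rw [hCH]
      exact neg_eq_of_add_eq_zero_left (h2M 1)
    obtain ⟨k, hk⟩ := hm
    rw [hk, pow_succ, pow_mul, pow_two, hZ2, one_pow, one_mul] at hZm
    rw [hZ.1, hZm, J_one]
  · right
    rw [htr, one_smul, hdet, one_smul] at hCH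
    have h1 : 1 + Z + Z * Z = 0 := by
      rw [hCH]
      have := h2M Z
      calc 1 + Z + (Z - 1) = Z + Z := by abel
        _ = 0 := this
    rw [add_mul, add_mul, one_mul, (hZ.mul hZ).1, hZ.1, ← J_one E i, J_add, J_add, h1, J_zero]

/-- the permutation of the coordinates induced by a permutation of the planes -/
def bperm (E : Fin t × Fin 2 ≃ Fin n) (τ : Equiv.Perm (Fin t)) : Equiv.Perm (Fin n) :=
  E.symm.trans ((Equiv.prodCongrLeft fun _ : Fin 2 => τ).trans E)

theorem bperm_apply (τ : Equiv.Perm (Fin t)) (i : Fin t) (a : Fin 2) : bperm E τ (E (i, a)) = E (τ i, a) := by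
  simp [bperm, Equiv.prodCongrLeft]

theorem sign_bperm (τ : Equiv.Perm (Fin t)) : Equiv.Perm.sign (bperm E τ) = 1 := by
  rw [bperm, ← Equiv.trans_assoc, Equiv.Perm.sign_symm_trans_trans, Equiv.Perm.sign_prodCongrLeft, Fin.prod_univ_two]
  exact Int.units_mul_self _

/-- the element of `SL_n(F)` permuting the planes -/
def bp (E : Fin t × Fin 2 ≃ Fin n) (τ : Equiv.Perm (Fin t)) : SLL :=
  ⟨mon (bperm E τ) (fun _ => 1), by rw [det_mon, sign_bperm]; simp only [_root_.Units.val_one, _root_.Int.cast_one, _root_.Finset.prod_const_one, _root_.mul_one]⟩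

theorem bp_mul_bl (τ : Equiv.Perm (Fin t)) (i : Fin t) : ((bp E τ : SLL) : MM) * bl E i = bl E (τ i) * ((bp E τ : SLL) : MM) := by
  ext k l
  have h1 : (((bp E τ : SLL) : MM) * bl E i : MM) k l = if (E.symm l).1 = i then ((bp E τ : SLL) : MM) k l else 0 := mul_blk _ _ _ _ _
  have h2 : (bl E (τ i) * ((bp E τ : SLL) : MM) : MM) k l = if (E.symm k).1 = τ i then ((bp E τ : SLL) : MM) k l else 0 := blk_mul _ _ _ _ _
  rw [h1, h2]
  change (if (E.symm l).1 = i then (if k = bperm E τ l then (1 : F) else 0) else 0) =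
    (if (E.symm k).1 = τ i then (if k = bperm E τ l then (1 : F) else 0) else 0)
  by_cases hk : k = bperm E τ l
  · subst hk
    obtain ⟨⟨j, a⟩, rfl⟩ := E.surjective l
    rw [bperm_apply]
    simp only [Equiv.symm_apply_apply, if_true, τ.injective.eq_iff]
  · rw [if_neg hk]; simp

/-- separation by conjugation with the permutations of the planes -/
theorem sep {K : Subgroup SLL} (hnorm : ∀ τ : Equiv.Perm (Fin t), ∀ y ∈ K, bp E τ * y * (bp E τ)⁻¹ ∈ K) {y : SLL} (hy : y ∈ K)
    {c : Fin t → F} (hc : ∀ j, (y : MM) * bl E j = c j • bl E j) {i j : Fin t} (hij : c i ≠ c j) {k l : Fin t} (hkl : k ≠ l) :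
    ∃ y' ∈ K, ∃ c' : Fin t → F, (∀ j, (y' : MM) * bl E j = c' j • bl E j) ∧ c' k ≠ c' l := by
  have hij' : i ≠ j := fun h => hij (by rw [h])
  obtain ⟨τ, h1, h2⟩ : ∃ τ : Equiv.Perm (Fin t), τ i = k ∧ τ j = l := by
    refine ⟨Equiv.swap (Equiv.swap i k j) l * Equiv.swap i k, ?_, ?_⟩
    · rw [Equiv.Perm.mul_apply, Equiv.swap_apply_left, Equiv.swap_apply_of_ne_of_ne]
      · intro h
        have : Equiv.swap i k i = Equiv.swap i k j := by rw [Equiv.swap_apply_left]; exact h
        exact hij' ((Equiv.swap i k).injective this)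
      · exact hkl
    · rw [Equiv.Perm.mul_apply, Equiv.swap_apply_left]
  refine ⟨_, hnorm τ y hy, fun a => c (τ⁻¹ a), fun a => ?_, ?_⟩
  · have ha : a = τ (τ⁻¹ a) := by simp
    have h3 := inv_comm_of (bp_mul_bl (F := F) (E := E) τ (τ⁻¹ a))
    rw [← ha] at h3
    rw [Matrix.SpecialLinearGroup.coe_mul, Matrix.SpecialLinearGroup.coe_mul, mul_assoc, h3, mul_assoc, ← mul_assoc (y : MM),
      hc, Matrix.smul_mul, Matrix.mul_smul, ← mul_assoc, bp_mul_bl, mul_assoc, coe_mul_inv_S, mul_one, ← ha]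
  · have e1 : τ⁻¹ k = i := by rw [← h1]; simp
    have e2 : τ⁻¹ l = j := by rw [← h2]; simp
    change c (τ⁻¹ k) ≠ c (τ⁻¹ l)
    rw [e1, e2]
    exact hij

end Cfsg.Agent.H599.TW
end

-- part: H599/TW/TwoBl
section
/-!
# S3694: two frames of planes (helper599)
-/

set_option autoImplicit false
set_option linter.unusedSectionVars false
set_option linter.style.haveILetI false

namespace Cfsg.Agent.H599.TW

open Subgroup Cfsg.Agent.H607.TW

universe u

variable {F : Type} [Field F] {n : ℕ}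

local notation "MM" => Matrix (Fin n) (Fin n) F
local notation "GLL" => Matrix.GeneralLinearGroup (Fin n) F
local notation "SLL" => Matrix.SpecialLinearGroup (Fin n) F

variable {t : ℕ}

theorem eq_of_rank {e f : MM} (hef : e * f = f) (hfe : f * e = f) (hff : f * f = f) (hr : e.rank ≤ f.rank) : e = f := by
  have h1 : LinearMap.range f.mulVecLin ≤ LinearMap.range e.mulVecLin := by
    rintro _ ⟨x, rfl⟩
    refine ⟨f.mulVecLin x, ?_⟩
    rw [Matrix.mulVecLin_apply, Matrix.mulVecLin_apply, Matrix.mulVec_mulVec, hef]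
  have h2 : LinearMap.range f.mulVecLin = LinearMap.range e.mulVecLin := Submodule.eq_of_le_of_finrank_le h1 hr
  have h3 : ∀ x, e.mulVec x = f.mulVec x := fun x => by
    have h4 : e.mulVecLin x ∈ LinearMap.range f.mulVecLin := by rw [h2]; exact ⟨x, rfl⟩
    obtain ⟨y, hy⟩ := h4
    rw [Matrix.mulVecLin_apply, Matrix.mulVecLin_apply] at hy
    calc e.mulVec x = f.mulVec y := hy.symm
      _ = f.mulVec (f.mulVec y) := by rw [Matrix.mulVec_mulVec, hff]
      _ = f.mulVec (e.mulVec x) := by rw [hy]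
      _ = f.mulVec x := by rw [Matrix.mulVec_mulVec, hfe]
  exact Matrix.ext_of_mulVec_single fun i => h3 _

theorem rank_bl (E : Fin t × Fin 2 ≃ Fin n) (i : Fin t) : (bl E i : MM).rank = 2 := by
  classical
  rw [bl, blk, Matrix.rank_diagonal]
  have : Fintype.card {k : Fin n // (if (E.symm k).1 = i then (1 : F) else 0) ≠ 0} = Fintype.card (Fin 2) := by
    apply Fintype.card_congr
    refine ⟨fun k => (E.symm k.1).2, fun a => ⟨E (i, a), by simp⟩, fun k => ?_, fun a => by simp⟩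
    apply Subtype.ext
    obtain ⟨k, hk⟩ := k
    have h1 : (E.symm k).1 = i := by
      by_contra hh
      rw [if_neg hh] at hk
      exact hk rfl
    change E (i, (E.symm k).2) = k
    rw [← h1]
    simp
  rw [this, Fintype.card_fin]

theorem rank_cM (P : GLL) (x : MM) : (cM P x).rank = x.rank := by
  rw [cM_apply]
  have hdet : ∀ Q : GLL, IsUnit ((Q : MM).det) := fun Q => by
    rw [← Matrix.isUnit_iff_isUnit_det]
    exact Q.isUnit
  rw [Matrix.rank_mul_eq_left_of_isUnit_det _ _ (hdet P⁻¹), Matrix.rank_mul_eq_right_of_isUnit_det _ _ (hdet P)]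

variable {G : Type u} [Group G] {N A C A₁ C₁ A₂ C₂ : Subgroup G} {r d : ℕ}

theorem cast_ne [Fintype F] (hr : r.Prime) (h : ¬ r ∣ Fintype.card F) : (r : F) ≠ 0 := by
  intro h0
  have h1 : addOrderOf (1 : F) ∣ r := by
    rw [addOrderOf_dvd_iff_nsmul_eq_zero, nsmul_eq_mul, mul_one, h0]
  have h2 : addOrderOf (1 : F) ∣ Fintype.card F := addOrderOf_dvd_card
  rcases (Nat.dvd_prime hr).mp h1 with h3 | h3
  · rw [AddMonoid.addOrderOf_eq_one_iff] at h3
    exact one_ne_zero h3
  · rw [h3] at h2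
    exact h h2

theorem mem_of_comm_bl {π : SLL →* G} {E : Fin t × Fin 2 ≃ Fin n} (hC : Frame (iSL n F) π C (bl E)) {s : SLL}
    (hs : ∀ i, (s : MM) * bl E i = bl E i * (s : MM)) : π s ∈ C := hC.stab s fun i => ⟨i, hs i⟩

theorem jS_mem {π : SLL →* G} {E : Fin t × Fin 2 ≃ Fin n} (hC : Frame (iSL n F) π C (bl E)) (i : Fin t)
    (s : Matrix.SpecialLinearGroup (Fin 2) F) : π (jS E i s) ∈ C := mem_of_comm_bl hC fun j => jS_comm E i j s

theorem bp_mem {π : SLL →* G} {E : Fin t × Fin 2 ≃ Fin n} (hC : Frame (iSL n F) π C (bl E)) (τ : Equiv.Perm (Fin t)) :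
    π (bp E τ) ∈ C := hC.stab _ fun i => ⟨τ i, bp_mul_bl τ i⟩

theorem pow_scalar [Finite G] {π : SLL →* G} (hM : Model N (iSL n F) π) {y : SLL} (hy : π y ∈ OO r A) :
    ∃ (k : ℕ) (c : F), ((y ^ r ^ k : SLL) : MM) = c • (1 : MM) := by
  obtain ⟨k, hk⟩ := OO_pow hy
  rw [← map_pow] at hk
  obtain ⟨c, hc⟩ := (ker_iff hM _).mp hk
  exact ⟨k, c, hc⟩

/-- the elements lying over `O_r(A)` fix the planes -/
theorem comm_bl_of_OO [Finite G] [Fintype F] {π : SLL →* G} (hM : Model N (iSL n F) π) {E : Fin t × Fin 2 ≃ Fin n}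
    (hA : Frame (iSL n F) π A (bl E)) (hr : r.Prime) (hrF : ¬ r ∣ Fintype.card F) {y : SLL} (hy : π y ∈ OO r A) (i : Fin t) :
    (y : MM) * bl E i = bl E i * (y : MM) := by
  obtain ⟨j, hj⟩ := perm_of_mem hA (OO_le r A hy) i
  have := bl_fix E (K := (OO r A).comap π) (cast_ne hr hrF) (fun i s y hy => by
    rw [Subgroup.mem_comap, map_mul, map_mul, map_inv]
    exact OO_norm hy (jS_mem hA i s)) (fun y hy => pow_scalar hM hy) hy hj
  rw [this] at hj
  exact hj

theorem eq_sum_bl {E : Fin t × Fin 2 ≃ Fin n} (y : MM) : y = ∑ j, y * bl E j := by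
  rw [← Finset.mul_sum, sum_bl, mul_one]

theorem scalar_one_of [Fintype F] (hF : Fintype.card F = 2) {y : SLL} {c : F} (hn : 0 < n) (h : (y : MM) = c • (1 : MM)) : y = 1 := by
  rcases two_elems hF c with hc | hc
  · exfalso
    have h1 := y.2
    haveI : Nonempty (Fin n) := ⟨⟨0, hn⟩⟩
    rw [h, hc, zero_smul, Matrix.det_zero] at h1
    exact zero_ne_one h1
  · apply Subtype.ext
    rw [h, hc, one_smul]
    rfl

theorem comm_scalar {Z : Matrix (Fin 2) (Fin 2) F} (h1 : Z * !![1, 1; 0, 1] = !![1, 1; 0, 1] * Z)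
    (h2 : Z * !![1, 0; 1, 1] = !![1, 0; 1, 1] * Z) : Z = Z 0 0 • (1 : Matrix (Fin 2) (Fin 2) F) := by
  rw [Matrix.eta_fin_two Z, Matrix.mul_fin_two, Matrix.mul_fin_two] at h1 h2
  have f1 := congrFun (congrFun h1 0) 0
  have f2 := congrFun (congrFun h1 0) 1
  have f3 := congrFun (congrFun h2 0) 0
  simp only [Matrix.of_apply, Matrix.cons_val', Matrix.cons_val_zero, Matrix.cons_val_one, Matrix.cons_val_fin_one] at f1 f2 f3
  have h10 : Z 1 0 = 0 := by linear_combination -f1
  have h01 : Z 0 1 = 0 := by linear_combination f3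
  have h11 : Z 1 1 = Z 0 0 := by linear_combination -f2
  ext i j
  (revert i j; simp only [h10, h01, h11, _root_.Fin.forall_fin_succ, Fin.isValue, _root_.Matrix.smul_apply, _root_.smul_eq_mul, _root_.Fin.succ_zero_eq_one, _root_.IsEmpty.forall_iff, _root_.and_true, _root_.Matrix.one_apply_eq, _root_.mul_one, Nat.reduceAdd, _root_.ne_eq, _root_.zero_ne_one, _root_.not_false_eq_true, _root_.Matrix.one_apply_ne, _root_.MulZeroClass.mul_zero, _root_.and_self, _root_.Fin.succ_ne_zero])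

/-- the two-element field: the idempotents of the frame are polynomials in elements of `K` -/
theorem exists_u [Fintype F] (hF : Fintype.card F = 2) {E : Fin t × Fin 2 ≃ Fin n} {K : Subgroup SLL}
    (hcomm : ∀ y ∈ K, ∀ i, (y : MM) * bl E i = bl E i * (y : MM))
    (hJ : ∀ i (s : Matrix.SpecialLinearGroup (Fin 2) F), ∀ y ∈ K, jS E i s * y * (jS E i s)⁻¹ ∈ K)
    (hB : ∀ τ : Equiv.Perm (Fin t), ∀ y ∈ K, bp E τ * y * (bp E τ)⁻¹ ∈ K)
    (hodd : ∀ y ∈ K, ∃ m, Odd m ∧ (y : MM) ^ m = 1) {y : SLL} (hy : y ∈ K) (hy1 : y ≠ 1) (j : Fin t) :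
    ∃ u ∈ K, (u : MM) + (u : MM) * (u : MM) = bl E j := by
  have h20 := two_eq_zero hF
  have h2M : ∀ X : MM, X + X = 0 := fun X => by rw [← two_smul F X, h20, zero_smul]
  -- a plane on which `y` is not trivial
  obtain ⟨j₀, hj₀⟩ : ∃ j₀, (y : MM) * bl E j₀ ≠ bl E j₀ := by
    by_contra hcon
    push Not at hcon
    apply hy1
    apply Subtype.ext
    rw [eq_sum_bl (E := E) (y : MM), Matrix.SpecialLinearGroup.coe_one, ← sum_bl E]
    exact Finset.sum_congr rfl fun j _ => hcon j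
  -- not commuting with a transvection
  have hZ := Res.of_comm (hcomm y hy j₀)
  obtain ⟨b, hb⟩ : ∃ b : Bool, cc y (jS E j₀ (t2 b 1)) ≠ 1 := by
    by_contra hcon
    push Not at hcon
    have hc : ∀ b : Bool, rs E j₀ (y : MM) * (t2 b (1 : F) : Matrix.SpecialLinearGroup (Fin 2) F) =
        (t2 b (1 : F) : Matrix.SpecialLinearGroup (Fin 2) F) * rs E j₀ (y : MM) := fun b => by
      have h1 := hcon b
      have h2 : y * jS E j₀ (t2 b 1) = jS E j₀ (t2 b 1) * y := by
        unfold cc at h1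
        calc y * jS E j₀ (t2 b 1) = jS E j₀ (t2 b 1) * y * (y⁻¹ * (jS E j₀ (t2 b 1))⁻¹ * y * jS E j₀ (t2 b 1)) := by group
          _ = _ := by rw [h1, mul_one]
      have h3 := hZ.mul (Res.jS (E := E) j₀ (t2 b (1 : F)))
      have h4 := (Res.jS (E := E) j₀ (t2 b (1 : F))).mul hZ
      rw [← Matrix.SpecialLinearGroup.coe_mul] at h3 h4
      rw [h2] at h3
      exact h3.eq h4
    have h5 := comm_scalar (hc true) (hc false)
    apply hj₀
    rcases two_elems hF (rs E j₀ (y : MM) 0 0) with h6 | h6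
    · exfalso
      rw [h6, zero_smul] at h5
      rw [h5] at hZ
      have h7 := hZ.1
      rw [J_zero] at h7
      apply bl_ne (F := F) E j₀
      calc (bl E j₀ : MM) = ((y⁻¹ : SLL) : MM) * ((y : MM) * bl E j₀) := by rw [← mul_assoc, coe_inv_mul_S, one_mul]
        _ = 0 := by rw [h7, mul_zero]
    · rw [h6, one_smul] at h5
      rw [hZ.1, h5, J_one]
  set a : SLL := jS E j₀ (t2 b 1) with ha
  set u : SLL := cc y a with hu
  have huK : u ∈ K := by
    have h1 := hJ j₀ (t2 b 1)⁻¹ y hy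
    rw [map_inv, inv_inv, ← ha] at h1
    have h2 := K.mul_mem (K.inv_mem hy) h1
    rw [hu, cc]
    rwa [mul_assoc, mul_assoc, ← mul_assoc a⁻¹]
  have hu' : ∀ j, j ≠ j₀ → (u : MM) * bl E j = bl E j := fun j hj => by
    have e1 : (a : MM) * bl E j = bl E j := jS_mul_bl' E hj _
    have e2 : ((a⁻¹ : SLL) : MM) * bl E j = bl E j := by
      rw [ha, ← map_inv]; exact jS_mul_bl' E hj _
    have e3 := inv_comm_of (hcomm y hy j)
    rw [hu, cc, Matrix.SpecialLinearGroup.coe_mul, Matrix.SpecialLinearGroup.coe_mul, Matrix.SpecialLinearGroup.coe_mul,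
      mul_assoc, e1, mul_assoc, hcomm y hy j, mul_assoc, ← mul_assoc (((a⁻¹ : SLL) : MM)), e2, ← mul_assoc, e3, mul_assoc,
      coe_inv_mul_S, mul_one]
  have hu0 : (u : MM) * bl E j₀ ≠ bl E j₀ := by
    intro h
    apply hb
    apply Subtype.ext
    change (u : MM) = ((1 : SLL) : MM)
    rw [eq_sum_bl (E := E) (u : MM), Matrix.SpecialLinearGroup.coe_one, ← sum_bl E]
    refine Finset.sum_congr rfl fun j _ => ?_
    by_cases hj : j = j₀
    · rw [hj, h]
    · exact hu' j hj
  have hu3 : (1 + (u : MM) + (u : MM) * (u : MM)) * bl E j₀ = 0 := by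
    obtain ⟨m, hm1, hm2⟩ := hodd u huK
    rcases dich hF (hcomm u huK j₀) hm1 hm2 with h | h
    · exact absurd h hu0
    · exact h
  -- `u + u² = bl j₀`
  have hw : (u : MM) + (u : MM) * (u : MM) = bl E j₀ := by
    rw [eq_sum_bl (E := E) ((u : MM) + (u : MM) * (u : MM)), Finset.sum_eq_single j₀]
    · rw [add_assoc, add_mul, one_mul] at hu3
      calc ((u : MM) + (u : MM) * (u : MM)) * bl E j₀ =
          (bl E j₀ + ((u : MM) + (u : MM) * (u : MM)) * bl E j₀) + bl E j₀ - (bl E j₀ + bl E j₀) := by abel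
        _ = bl E j₀ := by rw [hu3, h2M, zero_add, sub_zero]
    · intro j _ hj
      rw [add_mul, mul_assoc, hu' j hj, hu' j hj, h2M]
    · intro h; exact absurd (Finset.mem_univ _) h
  -- conjugate
  set! τ : Equiv.Perm (Fin t) := Equiv.swap j₀ j with hτ
  refine ⟨bp E τ * u * (bp E τ)⁻¹, hB τ u huK, ?_⟩
  have h1 : ((bp E τ * u * (bp E τ)⁻¹ : SLL) : MM) + ((bp E τ * u * (bp E τ)⁻¹ : SLL) : MM) * ((bp E τ * u * (bp E τ)⁻¹ : SLL) : MM) =
      ((bp E τ : SLL) : MM) * ((u : MM) + (u : MM) * (u : MM)) * (((bp E τ)⁻¹ : SLL) : MM) := by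
    rw [Matrix.SpecialLinearGroup.coe_mul, Matrix.SpecialLinearGroup.coe_mul, mul_add, add_mul]
    (with_reducible congr 1)
    calc _ = ((bp E τ : SLL) : MM) * (u : MM) * ((((bp E τ)⁻¹ : SLL) : MM) * ((bp E τ : SLL) : MM)) * (u : MM) *
          (((bp E τ)⁻¹ : SLL) : MM) := by simp only [mul_assoc]
      _ = _ := by rw [coe_inv_mul_S, mul_one]; simp only [mul_assoc]
  rw [h1, hw, bp_mul_bl, mul_assoc, coe_mul_inv_S, mul_one, hτ, Equiv.swap_apply_left]

/-- the comparison of the two frames, `q = 2` -/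
theorem lie_two [Finite G] [Fintype F] {π : SLL →* G} (hS : Sit N A C A₁ C₁ A₂ C₂ r d) (hM : Model N (iSL n F) π) (P : GLL)
    {E E' : Fin t × Fin 2 ≃ Fin n} (hC : Frame (iSL n F) π C (bl E)) (hA : Frame (iSL n F) π A (fun i => cM P (bl E' i)))
    (hF : Fintype.card F = 2) (hr : ¬ r ∣ Fintype.card F) (h2 : C₂ ⊓ N ≠ ⊥) (i : Fin t) :
    ∃ k, (bl E k : MM) * cM P (bl E' i) = cM P (bl E' i) := by
  have hA' := frame_cS P hA
  have hM' := model_cS P hM
  have hn : 0 < n := by have := hM.two; omega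
  have h20 := two_eq_zero hF
  have h2M : ∀ X : MM, X + X = 0 := fun X => by rw [← two_smul F X, h20, zero_smul]
  have hrodd : ∀ k, Odd (r ^ k) := fun k => by
    apply Odd.pow
    apply hS.locA.prime.odd_of_ne_two
    intro h
    apply hr
    rw [h, hF]
  have hodd : ∀ y : SLL, π y ∈ C₂ → ∃ m, Odd m ∧ (y : MM) ^ m = 1 := fun y hy => by
    obtain ⟨k, c, hk⟩ := pow_scalar hM (hS.C₂_OO hy)
    have := scalar_one_of hF hn hk
    refine ⟨r ^ k, hrodd k, ?_⟩
    rw [← Matrix.SpecialLinearGroup.coe_pow, this, Matrix.SpecialLinearGroup.coe_one]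
  have hcC : ∀ y : SLL, π y ∈ C₂ → ∀ i, (y : MM) * bl E i = bl E i * (y : MM) := fun y hy i => by
    obtain ⟨j, hj⟩ := perm_of_mem hC (C₂_le_C hS hy) i
    have := bl_fix E (K := C₂.comap π) (cast_ne hS.locA.prime hr) (fun i s y hy => by
      rw [Subgroup.mem_comap, map_mul, map_mul, map_inv]
      exact mem_of_le_normalizer hS.C₂_norm (jS_mem hC i s) hy) (fun y hy => pow_scalar hM (hS.C₂_OO hy)) hy hj
    rw [this] at hj
    exact hj
  have hcA : ∀ y : SLL, π y ∈ C₂ → ∀ i, ((cS P⁻¹ y : SLL) : MM) * bl E' i = bl E' i * ((cS P⁻¹ y : SLL) : MM) := fun y hy i => by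
    apply comm_bl_of_OO hM' hA' hS.locA.prime hr
    rw [MonoidHom.comp_apply, cS_cS_inv]
    exact hS.C₂_OO hy
  obtain ⟨y, hy, hy1⟩ : ∃ y : SLL, π y ∈ C₂ ∧ y ≠ 1 := by
    obtain ⟨g, hg, hg1⟩ : ∃ g : G, g ∈ C₂ ⊓ N ∧ g ≠ 1 := by
      obtain ⟨x, hx⟩ := (Subgroup.ne_bot_iff_exists_ne_one).mp h2
      exact ⟨x, x.2, fun h => hx (Subtype.ext h)⟩
    have hg2 : g ∈ π.range := by rw [hM.range]; exact hg.2
    obtain ⟨y, rfl⟩ := hg2
    exact ⟨y, hg.1, fun h => hg1 (by rw [h, map_one])⟩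
  have hdi : ∀ k, (bl E k : MM) * cM P (bl E' i) = 0 ∨ (bl E k : MM) * cM P (bl E' i) = cM P (bl E' i) := by
    intro k
    obtain ⟨u, huK, hu⟩ := exists_u (K := C₂.comap π) hF (E := E) hcC (fun i s y hy => by
        rw [Subgroup.mem_comap, map_mul, map_mul, map_inv]
        exact mem_of_le_normalizer hS.C₂_norm (jS_mem hC i s) hy) (fun τ y hy => by
        rw [Subgroup.mem_comap, map_mul, map_mul, map_inv]
        exact mem_of_le_normalizer hS.C₂_norm (bp_mem hC τ) hy) hodd hy hy1 k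
    have hu' : cM P⁻¹ (bl E k) = ((cS P⁻¹ u : SLL) : MM) + ((cS P⁻¹ u : SLL) : MM) * ((cS P⁻¹ u : SLL) : MM) := by
      rw [← hu, map_add, cM_mul]
      rfl
    obtain ⟨m, hm1, hm2⟩ := hodd u huK
    have hm2' : ((cS P⁻¹ u : SLL) : MM) ^ m = 1 := by
      have h3 : u ^ m = 1 := by
        apply Subtype.ext
        rw [Matrix.SpecialLinearGroup.coe_pow]
        exact hm2
      rw [← Matrix.SpecialLinearGroup.coe_pow, ← map_pow, h3, map_one, Matrix.SpecialLinearGroup.coe_one]
    rcases dich hF (hcA u huK i) hm1 hm2' with h | h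
    · left
      apply (cM P⁻¹).injective
      rw [cM_mul, cM_inv_cM, hu', map_zero, add_mul, mul_assoc, h, h, h2M]
    · right
      apply (cM P⁻¹).injective
      rw [cM_mul, cM_inv_cM, hu']
      rw [add_assoc, add_mul, one_mul] at h
      calc (((cS P⁻¹ u : SLL) : MM) + ((cS P⁻¹ u : SLL) : MM) * ((cS P⁻¹ u : SLL) : MM)) * bl E' i =
          (bl E' i + (((cS P⁻¹ u : SLL) : MM) + ((cS P⁻¹ u : SLL) : MM) * ((cS P⁻¹ u : SLL) : MM)) * bl E' i) + bl E' i -
            (bl E' i + bl E' i) := by abel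
        _ = bl E' i := by rw [h, h2M, zero_add, sub_zero]
  by_contra hcon
  push Not at hcon
  apply hA.ne i
  calc cM P (bl E' i) = (∑ k, bl E k) * cM P (bl E' i) := by rw [sum_bl, one_mul]
    _ = ∑ k, bl E k * cM P (bl E' i) := Finset.sum_mul _ _ _
    _ = 0 := Finset.sum_eq_zero fun k _ => (hdi k).resolve_right (hcon k)

/-- a central subgroup -/
theorem exists_center [Finite G] (hS : Sit N A C A₁ C₁ A₂ C₂ r d) (h2 : C₂ ⊓ N ≠ ⊥) :
    ∃ Z : Subgroup G, Z ≤ C₂ ∧ Z ≤ N ∧ Z ≠ ⊥ ∧ C ≤ normalizer (Z : Set G) ∧ ∀ z ∈ Z, ∀ y ∈ C₂ ⊓ N, z * y = y * z := by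
  set Q : Subgroup G := C₂ ⊓ N with hQ
  haveI : Fact r.Prime := ⟨hS.locA.prime⟩
  have hp : IsPGroup r ↥Q := fun x => by
    obtain ⟨k, hk⟩ := OO_pow (hS.C₂_OO x.2.1)
    exact ⟨k, Subtype.ext hk⟩
  haveI : Nontrivial ↥Q := by
    rw [Subgroup.nontrivial_iff_ne_bot]
    exact h2
  haveI := hp.center_nontrivial
  refine ⟨(Subgroup.center ↥Q).map Q.subtype, ?_, ?_, ?_, ?_, ?_⟩
  · rintro _ ⟨x, _, rfl⟩; exact x.2.1
  · rintro _ ⟨x, _, rfl⟩; exact x.2.2
  · intro h
    have h1 : Subgroup.center ↥Q = ⊥ := by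
      rw [Subgroup.map_eq_bot_iff, Subgroup.ker_subtype] at h
      exact le_bot_iff.mp h
    exact (Subgroup.nontrivial_iff_ne_bot _).mp inferInstance h1
  · refine le_normalizer_of ?_
    rintro c hc _ ⟨z, hz, rfl⟩
    have hcQ : ∀ y ∈ Q, c * y * c⁻¹ ∈ Q := fun y hy =>
      ⟨mem_of_le_normalizer hS.C₂_norm hc hy.1, hS.locA.normal.conj_mem y hy.2 c⟩
    have hcQ' : ∀ y ∈ Q, c⁻¹ * y * c ∈ Q := fun y hy => by
      have h1 := mem_of_le_normalizer hS.C₂_norm (C.inv_mem hc) hy.1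
      have h2 := hS.locA.normal.conj_mem y hy.2 c⁻¹
      rw [inv_inv] at h1 h2
      exact ⟨h1, h2⟩
    refine ⟨⟨c * z * c⁻¹, hcQ z z.2⟩, ?_, rfl⟩
    rw [SetLike.mem_coe, Subgroup.mem_center_iff] at hz ⊢
    intro y
    apply Subtype.ext
    have h3 := congrArg Subtype.val (hz ⟨c⁻¹ * y * c, hcQ' y y.2⟩)
    simp only [Subgroup.coe_mul] at h3 ⊢
    calc (y : G) * (c * z * c⁻¹) = c * ((c⁻¹ * y * c) * z) * c⁻¹ := by group
      _ = c * (z * (c⁻¹ * y * c)) * c⁻¹ := by rw [h3]
      _ = c * z * c⁻¹ * y := by group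
  · rintro _ ⟨z, hz, rfl⟩ y hy
    have h3 := congrArg Subtype.val ((Subgroup.mem_center_iff.mp hz) ⟨y, hy⟩)
    exact h3.symm

/-- two elements with the same product on a plane -/
theorem cc_eq_one {π : SLL →* G} (hM : Model N (iSL n F) π) {E : Fin t × Fin 2 ≃ Fin n} {y z : SLL} {j : Fin t}
    (h1 : ((y * z : SLL) : MM) * bl E j = ((z * y : SLL) : MM) * bl E j) (h2 : π y * π z = π z * π y) : y * z = z * y := by
  have h3 : π ((y * z) * (z * y)⁻¹) = 1 := by
    rw [map_mul, map_inv, map_mul, map_mul, h2, mul_inv_cancel]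
  obtain ⟨c, hc⟩ := (ker_iff hM _).mp h3
  have h4 : ((y * z : SLL) : MM) = c • ((z * y : SLL) : MM) := by
    have : y * z = (y * z) * (z * y)⁻¹ * (z * y) := by group
    rw [this, Matrix.SpecialLinearGroup.coe_mul _ (z * y), hc, Matrix.smul_mul, one_mul]
  rw [h4, Matrix.smul_mul] at h1
  have h5 : ((z * y : SLL) : MM) * bl E j ≠ 0 := by
    intro h
    apply bl_ne (F := F) E j
    calc (bl E j : MM) = (((z * y)⁻¹ : SLL) : MM) * (((z * y : SLL) : MM) * bl E j) := by
          rw [← mul_assoc, coe_inv_mul_S, one_mul]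
      _ = 0 := by rw [h, mul_zero]
  have h6 : (c - 1) • (((z * y : SLL) : MM) * bl E j) = 0 := by rw [sub_smul, h1, one_smul, sub_self]
  rcases smul_eq_zero.mp h6 with h7 | h7
  · apply Subtype.ext
    rw [sub_eq_zero] at h7
    change ((y * z : SLL) : MM) = ((z * y : SLL) : MM)
    rw [h4, h7, one_smul]
  · exact absurd h7 h5

theorem conj_bl' {E : Fin t × Fin 2 ≃ Fin n} {y : SLL} {i j : Fin t} (hj : j ≠ i) (hy : (y : MM) * bl E j = bl E j * (y : MM))
    (s : Matrix.SpecialLinearGroup (Fin 2) F) :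
    (((jS E i s)⁻¹ * y * jS E i s : SLL) : MM) * bl E j = (y : MM) * bl E j := by
  have e1 : ((jS E i s : SLL) : MM) * bl E j = bl E j := jS_mul_bl' E hj _
  have e2 : (((jS E i s)⁻¹ : SLL) : MM) * bl E j = bl E j := by
    rw [← map_inv]; exact jS_mul_bl' E hj _
  rw [Matrix.SpecialLinearGroup.coe_mul, Matrix.SpecialLinearGroup.coe_mul, mul_assoc, e1, mul_assoc, hy, ← mul_assoc, e2]

theorem prod_conj_bl' {E : Fin t × Fin 2 ≃ Fin n} {y : SLL} {i j : Fin t} (hj : j ≠ i) (hy : (y : MM) * bl E j = bl E j * (y : MM))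
    (s : Matrix.SpecialLinearGroup (Fin 2) F) :
    ((y * ((jS E i s)⁻¹ * y * jS E i s) : SLL) : MM) * bl E j = (((jS E i s)⁻¹ * y * jS E i s * y : SLL) : MM) * bl E j := by
  have hX := conj_bl' (E := E) hj hy s
  rw [Matrix.SpecialLinearGroup.coe_mul y, Matrix.SpecialLinearGroup.coe_mul _ y]
  set X : MM := (((jS E i s)⁻¹ * y * jS E i s : SLL) : MM)
  calc (y : MM) * X * bl E j = (y : MM) * (X * bl E j) := mul_assoc _ _ _
    _ = (y : MM) * (bl E j * (y : MM)) := by rw [hX, hy]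
    _ = (y : MM) * bl E j * (y : MM) := (mul_assoc _ _ _).symm
    _ = X * bl E j * (y : MM) := by rw [hX]
    _ = X * (bl E j * (y : MM)) := mul_assoc _ _ _
    _ = X * ((y : MM) * bl E j) := by rw [hy]
    _ = X * (y : MM) * bl E j := (mul_assoc _ _ _).symm

/-- the comparison of the two frames, `q` odd -/
theorem lie_three [Finite G] [Fintype F] {π : SLL →* G} (hS : Sit N A C A₁ C₁ A₂ C₂ r d) (hM : Model N (iSL n F) π) (P : GLL)
    {E E' : Fin t × Fin 2 ≃ Fin n} (hC : Frame (iSL n F) π C (bl E)) (hA : Frame (iSL n F) π A (fun i => cM P (bl E' i)))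
    (hF : (2 : F) ≠ 0) (hr : ¬ r ∣ Fintype.card F) (h2 : C₂ ⊓ N ≠ ⊥) (i : Fin t) :
    ∃ k, (bl E k : MM) * cM P (bl E' i) = cM P (bl E' i) := by
  classical
  have hA' := frame_cS P hA
  have hM' := model_cS P hM
  have ht := hC.two
  have hcC : ∀ y : SLL, π y ∈ C₂ → ∀ i, (y : MM) * bl E i = bl E i * (y : MM) := fun y hy i => by
    obtain ⟨j, hj⟩ := perm_of_mem hC (C₂_le_C hS hy) i
    have := bl_fix E (K := C₂.comap π) (cast_ne hS.locA.prime hr) (fun i s y hy => by
      rw [Subgroup.mem_comap, map_mul, map_mul, map_inv]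
      exact mem_of_le_normalizer hS.C₂_norm (jS_mem hC i s) hy) (fun y hy => pow_scalar hM (hS.C₂_OO hy)) hy hj
    rw [this] at hj
    exact hj
  have hcA : ∀ y : SLL, π y ∈ C₂ → ∀ i, ((cS P⁻¹ y : SLL) : MM) * bl E' i = bl E' i * ((cS P⁻¹ y : SLL) : MM) := fun y hy i => by
    apply comm_bl_of_OO hM' hA' hS.locA.prime hr
    rw [MonoidHom.comp_apply, cS_cS_inv]
    exact hS.C₂_OO hy
  obtain ⟨Z, hZ2, hZN, hZ1, hZC, hZc⟩ := exists_center hS h2
  have hother : ∀ i : Fin t, ∃ j, j ≠ i := fun i => by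
    haveI : Nontrivial (Fin t) := Fin.nontrivial_iff_two_le.mpr ht
    exact exists_ne i
  have hrange : ∀ s : SLL, π s ∈ N := fun s => by rw [← hM.range]; exact ⟨s, rfl⟩
  -- (d) elements over `Z` are scalar on the planes of `C`
  have hd : ∀ y : SLL, π y ∈ Z → ∀ i, ∃ c : F, (y : MM) * bl E i = c • bl E i := fun y hy i => by
    refine scalar_of hF (hcC y (hZ2 hy) i) fun b c _ => ?_
    obtain ⟨j, hj⟩ := hother i
    refine cc_eq_one hM (prod_conj_bl' hj (hcC y (hZ2 hy) j) (t2 b c)) ?_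
    apply hZc _ hy
    refine ⟨?_, hrange _⟩
    rw [map_mul, map_mul, map_inv]
    have := mem_of_le_normalizer hS.C₂_norm (C.inv_mem (jS_mem hC i (t2 b c))) (hZ2 hy)
    rwa [inv_inv] at this
  -- (e) they are scalar on the planes of `A`
  have he : ∀ y : SLL, π y ∈ Z → ∀ i, ∃ c : F, (y : MM) * cM P (bl E' i) = c • cM P (bl E' i) := fun y hy i => by
    have hyA := hcA y (hZ2 hy)
    set yA : SLL := cS P⁻¹ y with hyAdef
    by_cases hall : ∀ (b : Bool) (c : F), c = 1 ∨ c = -1 → yA * ((jS E' i (t2 b c))⁻¹ * yA * jS E' i (t2 b c)) =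
      (jS E' i (t2 b c))⁻¹ * yA * jS E' i (t2 b c) * yA
    · obtain ⟨c, hc⟩ := scalar_of hF (hyA i) hall
      refine ⟨c, ?_⟩
      have h3 := congrArg (cM P) hc
      rw [cM_mul, cM_smul, hyAdef, cS_coe, cM_cM_inv] at h3
      exact h3
    · push Not at hall
      obtain ⟨b, c, _, hne⟩ := hall
      set aA : SLL := jS E' i (t2 b c) with haA
      set! a : SLL := cS P aA with ha
      have haA' : cS P⁻¹ a = aA := cS_inv_cS P aA
      have haMem : π a ∈ A := jS_mem hA' i (t2 b c)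
      set! w : SLL := cc y (a⁻¹ * y * a) with hw
      have hwZ : π w ∈ Z := by
        have h4 := tw2N hS (K := Z) (y := π y) (a := π a) hZ2 (inf_le_left.trans hZC) hy (hrange y) haMem
        rw [hw, map_cc, map_mul, map_mul, map_inv]
        exact h4
      set! wA : SLL := cS P⁻¹ w with hwA
      have hwA' : wA = (aA⁻¹ * yA * aA * yA)⁻¹ * (yA * (aA⁻¹ * yA * aA)) := by
        rw [hwA, hw, cc, map_mul, map_mul, map_mul, map_inv, map_inv, map_mul, map_mul, map_inv, haA', ← hyAdef]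
        group
      have hw1 : wA ≠ 1 := by
        intro h
        apply hne
        rw [hwA'] at h
        exact (inv_mul_eq_one.mp h).symm
      have hw1' : w ≠ 1 := fun h => hw1 (by rw [hwA, h, map_one])
      have hwbl : ∀ j, j ≠ i → (wA : MM) * bl E' j = bl E' j := fun j hj => by
        have h5 := prod_conj_bl' hj (hyA j) (t2 b c)
        rw [← haA] at h5
        rw [hwA', Matrix.SpecialLinearGroup.coe_mul, mul_assoc, h5, ← mul_assoc, coe_inv_mul_S, one_mul]
      have hwblc : ∀ j, (wA : MM) * bl E' j = bl E' j * (wA : MM) := hcA w (hZ2 hwZ)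
      -- in the coordinates of `C`
      have hwe : ∀ j, j ≠ i → (w : MM) * cM P (bl E' j) = cM P (bl E' j) := fun j hj => by
        have := congrArg (cM P) (hwbl j hj)
        rw [cM_mul, hwA, cS_coe, cM_cM_inv] at this
        exact this
      have hwe' : ∀ j, j ≠ i → cM P (bl E' j) * (w : MM) = cM P (bl E' j) := fun j hj => by
        have h6 := congrArg (cM P) (hwblc j)
        rw [cM_mul, cM_mul, hwA, cS_coe, cM_cM_inv] at h6
        rw [← h6, hwe j hj]
      have hsum : ∑ j, cM P (bl E' j) = (1 : MM) := hA.sum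
      set! e : MM := cM P (bl E' i) with heDef; rewrite [← heDef]
      have hD1 : ((w : MM) - 1) * e = (w : MM) - 1 := by
        have h7 : ((w : MM) - 1) * ∑ j, cM P (bl E' j) = ((w : MM) - 1) * e := by
          rw [Finset.mul_sum, Finset.sum_eq_single i]
          · intro j _ hj
            rw [sub_mul, hwe j hj, one_mul, sub_self]
          · intro h; exact absurd (Finset.mem_univ _) h
        rw [← h7, hsum, mul_one]
      have hD2 : e * ((w : MM) - 1) = (w : MM) - 1 := by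
        have h7 : (∑ j, cM P (bl E' j)) * ((w : MM) - 1) = e * ((w : MM) - 1) := by
          rw [Finset.sum_mul, Finset.sum_eq_single i]
          · intro j _ hj
            rw [mul_sub, hwe' j hj, mul_one, sub_self]
          · intro h; exact absurd (Finset.mem_univ _) h
        rw [← h7, hsum, one_mul]
      choose cw hcw using hd w hwZ
      obtain ⟨k, hk⟩ : ∃ k, cw k ≠ 1 := by
        by_contra hcon
        push Not at hcon
        apply hw1'
        apply Subtype.ext
        change (w : MM) = ((1 : SLL) : MM)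
        rw [eq_sum_bl (E := E) (w : MM), Matrix.SpecialLinearGroup.coe_one, ← sum_bl E]
        exact Finset.sum_congr rfl fun j _ => by rw [hcw j, hcon j, one_smul]
      have hk' : cw k - 1 ≠ 0 := sub_ne_zero.mpr hk
      have h8 : ((w : MM) - 1) * bl E k = (cw k - 1) • bl E k := by
        rw [sub_mul, hcw k, one_mul, sub_smul, one_smul]
      have h9 : bl E k * ((w : MM) - 1) = (cw k - 1) • bl E k := by
        rw [mul_sub, ← hcC w (hZ2 hwZ) k, hcw k, mul_one, sub_smul, one_smul]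
      have h10 : e * bl E k = bl E k := by
        have h11 : (cw k - 1) • (e * bl E k) = (cw k - 1) • bl E k := by
          rw [← Matrix.mul_smul, ← h8, ← mul_assoc, hD2]
        calc e * bl E k = (cw k - 1)⁻¹ • ((cw k - 1) • (e * bl E k)) := by rw [smul_smul, inv_mul_cancel₀ hk', one_smul]
          _ = bl E k := by rw [h11, smul_smul, inv_mul_cancel₀ hk', one_smul]
      have h12 : bl E k * e = bl E k := by
        have h11 : (cw k - 1) • (bl E k * e) = (cw k - 1) • bl E k := by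
          rw [← Matrix.smul_mul, ← h9, mul_assoc, hD1]
        calc bl E k * e = (cw k - 1)⁻¹ • ((cw k - 1) • (bl E k * e)) := by rw [smul_smul, inv_mul_cancel₀ hk', one_smul]
          _ = bl E k := by rw [h11, smul_smul, inv_mul_cancel₀ hk', one_smul]
      have h13 : e = bl E k := eq_of_rank h10 h12 (bl_idem E k) (by rw [heDef, rank_cM, rank_bl, rank_bl])
      obtain ⟨c', hc'⟩ := hd y hy k
      exact ⟨c', by rw [h13, hc']⟩
  -- a nonscalar element
  obtain ⟨y, hyZ, hy1⟩ : ∃ y : SLL, π y ∈ Z ∧ π y ≠ 1 := by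
    obtain ⟨x, hx⟩ := (Subgroup.ne_bot_iff_exists_ne_one).mp hZ1
    have hg2 : (x : G) ∈ π.range := by rw [hM.range]; exact hZN x.2
    obtain ⟨y, hy⟩ := hg2
    exact ⟨y, by rw [hy]; exact x.2, fun h => hx (Subtype.ext (by rw [← hy, h]; rfl))⟩
  choose c hc using hd y hyZ
  obtain ⟨i₀, j₀, hij⟩ : ∃ i₀ j₀, c i₀ ≠ c j₀ := by
    by_contra hcon
    push Not at hcon
    apply hy1
    rw [ker_iff hM]
    refine ⟨c i, ?_⟩
    rw [eq_sum_bl (E := E) (y : MM), ← sum_bl E, Finset.smul_sum]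
    exact Finset.sum_congr rfl fun j _ => by rw [hc j, hcon j i]
  -- some `bl k` meets the plane
  obtain ⟨k, hk⟩ : ∃ k, (bl E k : MM) * cM P (bl E' i) ≠ 0 := by
    by_contra hcon
    push Not at hcon
    apply hA.ne i
    calc cM P (bl E' i) = (∑ k, bl E k) * cM P (bl E' i) := by rw [sum_bl, one_mul]
      _ = ∑ k, bl E k * cM P (bl E' i) := Finset.sum_mul _ _ _
      _ = 0 := Finset.sum_eq_zero fun k _ => hcon k
  refine ⟨k, ?_⟩
  have hzero : ∀ l, l ≠ k → (bl E l : MM) * cM P (bl E' i) = 0 := by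
    intro l hl
    by_contra hne
    obtain ⟨y', hy', c', hc', hkl⟩ := sep (K := Z.comap π) (fun τ y hy => by
      rw [Subgroup.mem_comap, map_mul, map_mul, map_inv]
      exact mem_of_le_normalizer hZC (bp_mem hC τ) hy) hyZ hc hij hl.symm
    obtain ⟨c₀, hc₀⟩ := he y' hy' i
    have key : ∀ m, (bl E m : MM) * cM P (bl E' i) ≠ 0 → c' m = c₀ := fun m hm => by
      have h14 : bl E m * ((y' : MM) * cM P (bl E' i)) = c₀ • (bl E m * cM P (bl E' i)) := by
        rw [hc₀, Matrix.mul_smul]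
      have h15 : bl E m * ((y' : MM) * cM P (bl E' i)) = c' m • (bl E m * cM P (bl E' i)) := by
        rw [← mul_assoc, ← hcC y' (hZ2 hy') m, hc' m, Matrix.smul_mul]
      have h16 : (c' m - c₀) • (bl E m * cM P (bl E' i)) = 0 := by rw [sub_smul, ← h14, ← h15, sub_self]
      rcases smul_eq_zero.mp h16 with h17 | h17
      · exact sub_eq_zero.mp h17
      · exact absurd h17 hm
    exact hkl ((key k hk).trans (key l hne).symm)
  calc bl E k * cM P (bl E' i) = ∑ m, bl E m * cM P (bl E' i) := by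
        rw [Finset.sum_eq_single k (fun m _ hm => hzero m hm) (fun h => absurd (Finset.mem_univ _) h)]
    _ = (∑ m, bl E m) * cM P (bl E' i) := (Finset.sum_mul _ _ _).symm
    _ = cM P (bl E' i) := by rw [sum_bl, one_mul]

/-- Frames of planes, `C₂ ∩ N ≠ 1`. -/
theorem two_main [Finite G] [Fintype F] {π : SLL →* G} (hS : Sit N A C A₁ C₁ A₂ C₂ r d) (hM : Model N (iSL n F) π) (P : GLL)
    {E E' : Fin t × Fin 2 ≃ Fin n} (hC : Frame (iSL n F) π C (bl E)) (hA : Frame (iSL n F) π A (fun i => cM P (bl E' i)))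
    (hq : Fintype.card F ≤ 3) (hr : ¬ r ∣ Fintype.card F) (h2 : C₂ ⊓ N ≠ ⊥) : False := by
  have hlie : ∀ i, ∃ k, (bl E k : MM) * cM P (bl E' i) = cM P (bl E' i) := fun i => by
    by_cases hF : (2 : F) = 0
    · refine lie_two hS hM P hC hA ?_ hr h2 i
      have h1 := Fintype.one_lt_card (α := F)
      by_contra hne
      have h3 : Fintype.card F = 3 := by omega
      have h4 := Nat.cast_card_eq_zero F
      rw [h3] at h4
      have h5 : (1 : F) = 0 := by
        push_cast at h4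
        linear_combination h4 - hF
      exact one_ne_zero h5
    · exact lie_three hS hM P hC hA hF hr h2 i
  obtain ⟨f, hf⟩ := frames_eq hA.sum (bl_ne E) (fun i j hij => bl_mul_bl E i j hij) hlie
  refine absurd_of_inf_eq hS (inf_eq_of_frames hM hA hC f hf) ?_
  intro h0
  apply h2
  rw [eq_bot_iff]
  intro g hg
  rw [← h0]
  exact ⟨C₂_le_A hS hg.1, hg.2⟩

end Cfsg.Agent.H599.TW
end

-- part: H599/TW/CentBl
section
/-!
# S3694: the case `A₂ ∩ N = 1` for a frame of planes (helper599)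
-/

set_option autoImplicit false
set_option linter.unusedSectionVars false
set_option linter.style.haveILetI false

namespace Cfsg.Agent.H599.TW

open Subgroup Cfsg.Agent.H607.TW

universe u

variable {F : Type} [Field F] {n : ℕ}

local notation "MM" => Matrix (Fin n) (Fin n) F
local notation "GLL" => Matrix.GeneralLinearGroup (Fin n) F
local notation "SLL" => Matrix.SpecialLinearGroup (Fin n) F

variable {t : ℕ} {G : Type u} [Group G] {N A : Subgroup G} {r : ℕ}

theorem tauM_tauM (B : GLL) (σ : F ≃+* F) (y : MM) :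
    tauM B σ (tauM B σ y) = tauP (B * gmap σ (gtr B⁻¹)) (σ.trans σ) y := by
  rw [tauM_apply, tauM_apply, tauP_apply]
  have h1 : (((B * gmap σ (gtr B⁻¹) : GLL)) : MM) = (B : MM) * (((B⁻¹ : GLL) : MM).transpose).map σ := rfl
  have h2 : (((B * gmap σ (gtr B⁻¹))⁻¹ : GLL) : MM) = (((B : MM).transpose).map σ) * ((B⁻¹ : GLL) : MM) := by
    rw [mul_inv_rev]
    have : (((gmap σ (gtr B⁻¹))⁻¹ : GLL) : MM) = ((B : MM).transpose).map σ := by
      change ((((B⁻¹)⁻¹ : GLL) : MM).transpose).map σ = _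
      rw [inv_inv]
    rw [← this]
    rfl
  rw [h1, h2, Matrix.transpose_mul, Matrix.transpose_mul, map_mul', map_mul']
  have h3 : ((y.transpose.map σ).transpose).map σ = y.map (σ.trans σ) := by
    ext i j; rfl
  rw [h3]
  simp only [mul_assoc]

theorem ind_sq {π : SLL →* G} (hn : 2 ≤ n) {w : G} {B : GLL} {σ : F ≃+* F} (h : Ind (iSL n F) π w (tauM B σ)) :
    Ind (iSL n F) π (w ^ 2) (tauP (B * gmap σ (gtr B⁻¹)) (σ.trans σ)) := by
  left
  refine ⟨tauP_mul _ _, fun s => ?_⟩
  obtain ⟨s₁, e1, e2⟩ := ind_tauM hn h s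
  obtain ⟨s₂, e3, e4⟩ := ind_tauM hn h s₁
  refine ⟨s₂, by rw [e3, e1, tauM_tauM], ?_⟩
  have e7 : π s₁ = (w * π s * w⁻¹)⁻¹ := by rw [← e2, inv_inv]
  rw [e7] at e4
  have := congrArg (fun z => z⁻¹) e4
  simp only [inv_inv, mul_inv_rev] at this
  rw [this, pow_two]
  group

theorem ring_id [Fintype F] (hq : Fintype.card F ≤ 3) (σ : F ≃+* F) (x : F) : σ x = x := by
  by_cases hx : x = 0
  · rw [hx, map_zero]
  have h1 := Fintype.one_lt_card (α := F)
  rcases (by omega : Fintype.card F = 2 ∨ Fintype.card F = 3) with h2 | h2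
  · rcases two_elems h2 x with h | h
    · exact absurd h hx
    · rw [h, map_one]
  · have h3 := FiniteField.pow_card_sub_one_eq_one x hx
    rw [h2] at h3
    have h4 : (x - 1) * (x + 1) = 0 := by
      have : x ^ 2 = 1 := h3
      linear_combination this
    rcases mul_eq_zero.mp h4 with h | h
    · rw [sub_eq_zero.mp h, map_one]
    · rw [eq_neg_of_add_eq_zero_left h, map_neg, map_one]

theorem map_id [Fintype F] (hq : Fintype.card F ≤ 3) (σ : F ≃+* F) (y : MM) : y.map σ = y := by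
  ext i j
  rw [Matrix.map_apply, ring_id hq]

/-- the elementary matrices -/
def e01 (F : Type) [Field F] : Matrix (Fin 2) (Fin 2) F := !![0, 1; 0, 0]
def e10 (F : Type) [Field F] : Matrix (Fin 2) (Fin 2) F := !![0, 0; 1, 0]

theorem e01_sq : e01 F * e01 F = 0 := by
  ext a b; (revert a b; simp only [e01, _root_.Fin.forall_fin_succ, _root_.Matrix.cons_mul, _root_.Nat.succ_eq_add_one, Nat.reduceAdd, _root_.Matrix.vecMul_cons, _root_.Matrix.head_cons, _root_.zero_smul, _root_.Matrix.tail_cons, _root_.one_smul, _root_.Matrix.empty_vecMul, _root_.add_zero, _root_.zero_add, _root_.Matrix.empty_mul, _root_.Equiv.symm_apply_apply, _root_.Matrix.of_apply, _root_.Matrix.cons_val', _root_.Pi.zero_apply, _root_.Matrix.cons_val_fin_one, _root_.Matrix.zero_apply, Fin.isValue, _root_.Matrix.cons_val_zero, _root_.Matrix.cons_val_succ, _root_.forall_const, _root_.and_self, _root_.implies_true])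
theorem e10_sq : e10 F * e10 F = 0 := by
  ext a b; (revert a b; simp only [e10, _root_.Fin.forall_fin_succ, _root_.Matrix.cons_mul, _root_.Nat.succ_eq_add_one, Nat.reduceAdd, _root_.Matrix.vecMul_cons, _root_.Matrix.head_cons, _root_.zero_smul, _root_.Matrix.tail_cons, _root_.Matrix.empty_vecMul, _root_.add_zero, _root_.one_smul, _root_.Matrix.empty_mul, _root_.Equiv.symm_apply_apply, _root_.Matrix.of_apply, _root_.Matrix.cons_val', _root_.Pi.zero_apply, _root_.Matrix.cons_val_fin_one, _root_.Matrix.zero_apply, Fin.isValue, _root_.Matrix.cons_val_zero, _root_.Matrix.cons_val_succ, _root_.forall_const, _root_.and_self, _root_.implies_true])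
theorem e_sum : e01 F * e10 F + e10 F * e01 F = 1 := by
  ext a b; (revert a b; simp only [e01, e10, _root_.Fin.forall_fin_succ, _root_.Matrix.cons_mul, _root_.Nat.succ_eq_add_one, Nat.reduceAdd, _root_.Matrix.vecMul_cons, _root_.Matrix.head_cons, _root_.zero_smul, _root_.Matrix.tail_cons, _root_.one_smul, _root_.Matrix.empty_vecMul, _root_.add_zero, _root_.zero_add, _root_.Matrix.empty_mul, _root_.Equiv.symm_apply_apply, _root_.Matrix.add_apply, _root_.Matrix.of_apply, _root_.Matrix.cons_val', _root_.Pi.zero_apply, _root_.Matrix.cons_val_fin_one, Fin.isValue, _root_.Matrix.cons_val_zero, _root_.Matrix.cons_val_succ, _root_.IsEmpty.forall_iff, _root_.and_true, _root_.Matrix.one_apply_eq, _root_.Fin.succ_zero_eq_one, _root_.ne_eq, _root_.zero_ne_one, _root_.not_false_eq_true, _root_.Matrix.one_apply_ne, _root_.and_self, _root_.Fin.succ_ne_zero, _root_.true_and])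
theorem e01_T : (e01 F).transpose = e10 F := by
  ext a b; (revert a b; simp only [e01, e10, _root_.Fin.forall_fin_succ, _root_.Matrix.transpose_apply, _root_.Matrix.of_apply, _root_.Matrix.cons_val', _root_.Matrix.cons_val_fin_one, Fin.isValue, _root_.Matrix.cons_val_zero, _root_.Matrix.cons_val_succ, _root_.forall_const, _root_.and_self, _root_.implies_true])
theorem e10_T : (e10 F).transpose = e01 F := by
  ext a b; (revert a b; simp only [e01, e10, _root_.Fin.forall_fin_succ, _root_.Matrix.transpose_apply, _root_.Matrix.of_apply, _root_.Matrix.cons_val', _root_.Matrix.cons_val_fin_one, Fin.isValue, _root_.Matrix.cons_val_zero, _root_.Matrix.cons_val_succ, _root_.forall_const, _root_.and_self, _root_.implies_true])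
theorem e01_ne : e01 F ≠ 0 := fun h => by
  have := congrFun (congrFun h 0) 1
  simp [e01] at this
theorem e10_ne : e10 F ≠ 0 := fun h => by
  have := congrFun (congrFun h 1) 0
  simp [e10] at this

variable {E : Fin t × Fin 2 ≃ Fin n}

theorem jS_t2_true (i : Fin t) : ((jS E i (t2 true 1) : SLL) : MM) = 1 + J E i (e01 F) := by
  have h1 : ((t2 true 1 : Matrix.SpecialLinearGroup (Fin 2) F) : Matrix (Fin 2) (Fin 2) F) = 1 + e01 F := by
    rw [t2_true]
    ext a b; (revert a b; simp only [e01, _root_.Fin.forall_fin_succ, _root_.Matrix.of_apply, _root_.Matrix.cons_val', _root_.Matrix.cons_val_fin_one, _root_.Matrix.add_apply, Fin.isValue, _root_.Matrix.cons_val_zero, _root_.Matrix.cons_val_succ, _root_.IsEmpty.forall_iff, _root_.and_true, _root_.Matrix.one_apply_eq, _root_.add_zero, Nat.reduceAdd, _root_.Fin.succ_zero_eq_one, _root_.ne_eq, _root_.zero_ne_one, _root_.not_false_eq_true, _root_.Matrix.one_apply_ne, _root_.zero_add, _root_.and_self, _root_.Fin.succ_ne_zero,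 _root_.true_and])
  rw [jS_coe, h1, ← J_add, J_one]
  abel

theorem jS_t2_false (i : Fin t) : ((jS E i (t2 false 1) : SLL) : MM) = 1 + J E i (e10 F) := by
  have h1 : ((t2 false 1 : Matrix.SpecialLinearGroup (Fin 2) F) : Matrix (Fin 2) (Fin 2) F) = 1 + e10 F := by
    rw [t2_false]
    ext a b; (revert a b; simp only [e10, _root_.Fin.forall_fin_succ, _root_.Matrix.of_apply, _root_.Matrix.cons_val', _root_.Matrix.cons_val_fin_one, _root_.Matrix.add_apply, Fin.isValue, _root_.Matrix.cons_val_zero, _root_.Matrix.cons_val_succ, _root_.IsEmpty.forall_iff, _root_.and_true, _root_.Matrix.one_apply_eq, _root_.add_zero, Nat.reduceAdd, _root_.Fin.succ_zero_eq_one, _root_.ne_eq, _root_.zero_ne_one, _root_.not_false_eq_true, _root_.Matrix.one_apply_ne, _root_.and_self, _root_.Fin.succ_ne_zero, _root_.zero_add, _root_.true_and])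
  rw [jS_coe, h1, ← J_add, J_one]
  abel

theorem J_T (i : Fin t) (Z : Matrix (Fin 2) (Fin 2) F) : (J E i Z : MM).transpose = J E i Z.transpose := by
  ext k l
  rw [Matrix.transpose_apply, J_apply, J_apply]
  by_cases h : (E.symm k).1 = i ∧ (E.symm l).1 = i
  · rw [if_pos h, if_pos ⟨h.2, h.1⟩]; rfl
  · rw [if_neg h, if_neg (fun hh => h ⟨hh.2, hh.1⟩)]

/-- unipotent elements are not multiplied by a scalar -/
theorem unip {B : GLL} {N' N : MM} (hN : N * N = 0) (hN' : N' * N' = 0) (hne : N ≠ 0) {z : F}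
    (h : (B : MM) * (1 + N') * ((B⁻¹ : GLL) : MM) = z • (1 + N)) : (B : MM) * N' = N * (B : MM) := by
  have h1 : (B : MM) * N' * ((B⁻¹ : GLL) : MM) = (z - 1) • (1 : MM) + z • N := by
    have h2 : (B : MM) * (1 + N') * ((B⁻¹ : GLL) : MM) = 1 + (B : MM) * N' * ((B⁻¹ : GLL) : MM) := by
      rw [mul_add, mul_one, add_mul, coe_mul_inv]
    rw [h2] at h
    have h3 : (B : MM) * N' * ((B⁻¹ : GLL) : MM) = z • (1 + N) - 1 := by rw [← h]; abel
    rw [h3, smul_add, sub_smul, one_smul]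
    abel
  have h4 : ((z - 1) • (1 : MM) + z • N) * ((z - 1) • (1 : MM) + z • N) = 0 := by
    rw [← h1]
    calc _ = (B : MM) * N' * (((B⁻¹ : GLL) : MM) * (B : MM)) * N' * ((B⁻¹ : GLL) : MM) := by simp only [mul_assoc]
      _ = (B : MM) * (N' * N') * ((B⁻¹ : GLL) : MM) := by rw [coe_inv_mul]; simp only [mul_assoc, one_mul]
      _ = 0 := by rw [hN', mul_zero, zero_mul]
  have h5 : ((z - 1) * (z - 1)) • N = 0 := by
    have h6 : ((z - 1) • (1 : MM) + z • N) * (((z - 1) • (1 : MM) + z • N) * N) = 0 := by rw [← mul_assoc, h4, zero_mul]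
    have h7 : ((z - 1) • (1 : MM) + z • N) * N = (z - 1) • N := by
      rw [add_mul, Matrix.smul_mul, one_mul, Matrix.smul_mul, hN, smul_zero, add_zero]
    rw [h7, Matrix.mul_smul, h7, smul_smul] at h6
    exact h6
  have hz : z = 1 := by
    rcases smul_eq_zero.mp h5 with h8 | h8
    · exact sub_eq_zero.mp (mul_self_eq_zero.mp h8)
    · exact absurd h8 hne
  rw [hz, sub_self, zero_smul, zero_add, one_smul] at h1
  calc (B : MM) * N' = (B : MM) * N' * ((B⁻¹ : GLL) : MM) * (B : MM) := by rw [mul_assoc _ ((B⁻¹ : GLL) : MM), coe_inv_mul, mul_one]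
    _ = N * (B : MM) := by rw [h1]

theorem scalar_of_e {Z : Matrix (Fin 2) (Fin 2) F} (h1 : Z * e01 F = e01 F * Z) (h2 : Z * e10 F = e10 F * Z) :
    Z = Z 0 0 • (1 : Matrix (Fin 2) (Fin 2) F) := by
  rw [e01, Matrix.eta_fin_two Z, Matrix.mul_fin_two, Matrix.mul_fin_two] at h1
  rw [e10, Matrix.eta_fin_two Z, Matrix.mul_fin_two, Matrix.mul_fin_two] at h2
  have f1 := congrFun (congrFun h1 0) 0
  have f2 := congrFun (congrFun h1 0) 1
  have f3 := congrFun (congrFun h2 0) 0
  simp only [Matrix.of_apply, Matrix.cons_val', Matrix.cons_val_zero, Matrix.cons_val_one, Matrix.cons_val_fin_one] at f1 f2 f3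
  have h10 : Z 1 0 = 0 := by linear_combination -f1
  have h01 : Z 0 1 = 0 := by linear_combination f3
  have h11 : Z 1 1 = Z 0 0 := by linear_combination -f2
  ext i j
  (revert i j; simp only [h10, h01, h11, _root_.Fin.forall_fin_succ, Fin.isValue, _root_.Matrix.smul_apply, _root_.smul_eq_mul, _root_.Fin.succ_zero_eq_one, _root_.IsEmpty.forall_iff, _root_.and_true, _root_.Matrix.one_apply_eq, _root_.mul_one, Nat.reduceAdd, _root_.ne_eq, _root_.zero_ne_one, _root_.not_false_eq_true, _root_.Matrix.one_apply_ne, _root_.MulZeroClass.mul_zero, _root_.and_self, _root_.Fin.succ_ne_zero])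

theorem GLL_mul_ne {B : GLL} {x : MM} (hx : x ≠ 0) : (B : MM) * x ≠ 0 := by
  intro h
  apply hx
  calc x = ((B⁻¹ : GLL) : MM) * ((B : MM) * x) := by rw [← mul_assoc, coe_inv_mul, one_mul]
    _ = 0 := by rw [h, mul_zero]

theorem SLL_mul_ne {s : SLL} {x : MM} (hx : x ≠ 0) : x * (s : MM) ≠ 0 := by
  intro h
  apply hx
  calc x = x * (s : MM) * ((s⁻¹ : SLL) : MM) := by rw [mul_assoc, coe_mul_inv_S, mul_one]
    _ = 0 := by rw [h, zero_mul]

/-- lifts of the first kind -/
theorem centBl_P [Fintype F] (hq : Fintype.card F ≤ 3) (ht : 3 ≤ t) {B : GLL} {σ : F ≃+* F}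
    (hJ : ∀ i (s : Matrix.SpecialLinearGroup (Fin 2) F), ∃ z : F, tauP B σ ((jS E i s : SLL) : MM) = z • ((jS E i s : SLL) : MM))
    (hB : ∀ τ : Equiv.Perm (Fin t), ∃ z : F, tauP B σ ((bp E τ : SLL) : MM) = z • ((bp E τ : SLL) : MM)) (y : MM) :
    tauP B σ y = y := by
  classical
  have hτ : ∀ y : MM, tauP B σ y = (B : MM) * y * ((B⁻¹ : GLL) : MM) := fun y => by rw [tauP_apply, map_id hq]
  have h01 : ∀ i, (B : MM) * J E i (e01 F) = J E i (e01 F) * (B : MM) := fun i => by
    obtain ⟨z, hz⟩ := hJ i (t2 true 1)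
    rw [hτ, jS_t2_true] at hz
    exact unip (by rw [J_mul, e01_sq, J_zero]) (by rw [J_mul, e01_sq, J_zero]) (fun h => e01_ne (F := F) (J_inj E i (by rw [h, J_zero]))) hz
  have h10 : ∀ i, (B : MM) * J E i (e10 F) = J E i (e10 F) * (B : MM) := fun i => by
    obtain ⟨z, hz⟩ := hJ i (t2 false 1)
    rw [hτ, jS_t2_false] at hz
    exact unip (by rw [J_mul, e10_sq, J_zero]) (by rw [J_mul, e10_sq, J_zero]) (fun h => e10_ne (F := F) (J_inj E i (by rw [h, J_zero]))) hz
  have hbl : ∀ i, (B : MM) * bl E i = bl E i * (B : MM) := fun i => by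
    rw [← J_one, ← e_sum, ← J_add, ← J_mul, ← J_mul, mul_add, add_mul, ← mul_assoc, h01, mul_assoc, h10, ← mul_assoc,
      ← mul_assoc, h10, mul_assoc (J E i (e10 F)), h01, ← mul_assoc]
  have hβ : ∀ i, ∃ β : F, (B : MM) * bl E i = β • bl E i := fun i => by
    have hZ := Res.of_comm (hbl i)
    have h1 : Res E i (J E i (e01 F)) (e01 F) := ⟨J_mul_bl E i _, bl_mul_J E i _⟩
    have h2 : Res E i (J E i (e10 F)) (e10 F) := ⟨J_mul_bl E i _, bl_mul_J E i _⟩
    have h3 := hZ.mul h1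
    rw [h01] at h3
    have h4 := hZ.mul h2
    rw [h10] at h4
    have h5 := scalar_of_e (h3.eq (h1.mul hZ)) (h4.eq (h2.mul hZ))
    refine ⟨rs E i (B : MM) 0 0, ?_⟩
    rw [hZ.1, ← J_one, J_smul, ← h5]
  choose β hβ using hβ
  have hβ0 : ∀ i, β i ≠ 0 := fun i h => by
    have := GLL_mul_ne (B := B) (bl_ne (F := F) E i)
    rw [hβ i, h, zero_smul] at this
    exact this rfl
  have hββ : ∀ i j, β i = β j := fun i j => by
    by_cases hij : i = j
    · rw [hij]
    obtain ⟨l, hl1, hl2⟩ : ∃ l : Fin t, l ≠ i ∧ l ≠ j := by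
      have hc : ({i, j} : Finset (Fin t)).card < (Finset.univ : Finset (Fin t)).card := by
        rw [Finset.card_univ, Fintype.card_fin]
        exact lt_of_le_of_lt (Finset.card_le_two) (by omega)
      obtain ⟨l, _, hl⟩ := Finset.exists_mem_notMem_of_card_lt_card hc
      simp only [Finset.mem_insert, Finset.mem_singleton, not_or] at hl
      exact ⟨l, hl.1, hl.2⟩
    obtain ⟨z, hz⟩ := hB (Equiv.swap i j)
    rw [hτ] at hz
    have h6 : (B : MM) * ((bp E (Equiv.swap i j) : SLL) : MM) = z • (((bp E (Equiv.swap i j) : SLL) : MM) * (B : MM)) := by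
      rw [← Matrix.smul_mul, ← hz, mul_assoc _ ((B⁻¹ : GLL) : MM), coe_inv_mul, mul_one]
    have h7 : ∀ m, β (Equiv.swap i j m) = z * β m := fun m => by
      have h8 := congrArg (fun X => X * bl E m) h6
      simp only [Matrix.smul_mul] at h8
      rw [mul_assoc, bp_mul_bl, ← mul_assoc, hβ, Matrix.smul_mul, mul_assoc, hβ, Matrix.mul_smul, bp_mul_bl, smul_smul] at h8
      have h9 : (β (Equiv.swap i j m) - z * β m) • (bl E (Equiv.swap i j m) * ((bp E (Equiv.swap i j) : SLL) : MM)) = 0 := by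
        rw [sub_smul, h8, sub_self]
      rcases smul_eq_zero.mp h9 with h10 | h10
      · exact sub_eq_zero.mp h10
      · exact absurd h10 (SLL_mul_ne (bl_ne (F := F) E _))
    have h8 := h7 l
    rw [Equiv.swap_apply_of_ne_of_ne hl1 hl2] at h8
    have hz1 : z = 1 := by
      have : (1 - z) * β l = 0 := by linear_combination h8
      rcases mul_eq_zero.mp this with h9 | h9
      · exact (sub_eq_zero.mp h9).symm
      · exact absurd h9 (hβ0 l)
    have h9 := h7 j
    rw [Equiv.swap_apply_right, hz1, one_mul] at h9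
    exact h9
  have hsc : (B : MM) = β ⟨0, by omega⟩ • (1 : MM) := by
    rw [eq_sum_bl (E := E) (B : MM), ← sum_bl E, Finset.smul_sum]
    exact Finset.sum_congr rfl fun j _ => by rw [hβ j, hββ j]
  rw [hτ, conj_scalar hsc]

/-- the reflection -/
def dd (F : Type) [Field F] : Matrix (Fin 2) (Fin 2) F := !![-1, 0; 0, 1]

theorem dd_sq : dd F * dd F = 1 := by
  ext a b; (revert a b; simp only [dd, _root_.Fin.forall_fin_succ, _root_.Matrix.cons_mul, _root_.Nat.succ_eq_add_one, Nat.reduceAdd, _root_.Matrix.vecMul_cons, _root_.Matrix.head_cons, _root_.neg_smul, _root_.one_smul, _root_.Matrix.neg_cons, _root_.neg_neg, _root_.neg_zero, _root_.Matrix.neg_empty, _root_.Matrix.tail_cons, _root_.zero_smul, _root_.Matrix.empty_vecMul, _root_.add_zero, _root_.zero_add, _root_.Matrix.empty_mul, _root_.Equiv.symm_apply_apply, _root_.Matrix.of_apply, _root_.Matrix.cons_val', _root_.Matrix.cons_val_fin_one, Fin.isValue, _root_.Matrix.cons_val_zero, _root_.Matrix.cons_val_succ,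 _root_.IsEmpty.forall_iff, _root_.and_true, _root_.Matrix.one_apply_eq, _root_.Fin.succ_zero_eq_one, _root_.ne_eq, _root_.zero_ne_one, _root_.not_false_eq_true, _root_.Matrix.one_apply_ne, _root_.and_self, _root_.Fin.succ_ne_zero, _root_.true_and])
theorem dd_T : (dd F).transpose = dd F := by
  ext a b; (revert a b; simp only [dd, _root_.Fin.forall_fin_succ, _root_.Matrix.transpose_apply, _root_.Matrix.of_apply, _root_.Matrix.cons_val', _root_.Matrix.cons_val_fin_one, Fin.isValue, _root_.Matrix.cons_val_zero, _root_.Matrix.cons_val_succ, _root_.forall_const, _root_.and_self, _root_.implies_true])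

/-- product of reflections on two planes -/
def rr (E : Fin t × Fin 2 ≃ Fin n) (i j : Fin t) : SLL :=
  ⟨(1 - bl E i + J E i (dd F)) * (1 - bl E j + J E j (dd F)), by
    rw [Matrix.det_mul, det_J, det_J, Matrix.det_fin_two, dd]; simp⟩

theorem rr_coe (i j : Fin t) : ((rr E i j : SLL) : MM) = (1 - bl E i + J E i (dd F)) * (1 - bl E j + J E j (dd F)) := rfl

theorem fac_bl (i : Fin t) (Z : Matrix (Fin 2) (Fin 2) F) : (1 - bl E i + J E i Z : MM) * bl E i = J E i Z := by
  rw [add_mul, sub_mul, one_mul, bl_idem, sub_self, zero_add, J_mul_bl]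

theorem fac_bl' {i j : Fin t} (hij : j ≠ i) (Z : Matrix (Fin 2) (Fin 2) F) : (1 - bl E i + J E i Z : MM) * bl E j = bl E j := by
  rw [add_mul, sub_mul, one_mul, bl_mul_bl E i j hij.symm, J_mul_bl' E hij, sub_zero, add_zero]

theorem fac_J' {i j : Fin t} (hij : j ≠ i) (Z Z' : Matrix (Fin 2) (Fin 2) F) : (1 - bl E i + J E i Z : MM) * J E j Z' = J E j Z' := by
  rw [← bl_mul_J E j Z', ← mul_assoc, fac_bl' hij]

theorem rr_bl_l {i j l : Fin t} (hi : l ≠ i) (hj : l ≠ j) : ((rr E i j : SLL) : MM) * bl E l = bl E l := by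
  rw [rr_coe, mul_assoc, fac_bl' hj, fac_bl' hi]

theorem rr_bl_i {i j : Fin t} (hij : i ≠ j) : ((rr E i j : SLL) : MM) * bl E i = J E i (dd F) := by
  rw [rr_coe, mul_assoc, fac_bl' hij, fac_bl]

theorem rr_comm (i j l : Fin t) : ((rr E i j : SLL) : MM) * bl E l = bl E l * ((rr E i j : SLL) : MM) := by
  have h1 : ∀ m, (1 - bl E m + J E m (dd F) : MM) * bl E l = bl E l * (1 - bl E m + J E m (dd F)) := fun m => by
    have h2 : (bl E m : MM) * bl E l = bl E l * bl E m := by
      by_cases h : m = l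
      · rw [h]
      · rw [bl_mul_bl E m l h, bl_mul_bl E l m (Ne.symm h)]
    rw [add_mul, mul_add, sub_mul, mul_sub, one_mul, mul_one, h2, J_comm]
  rw [rr_coe, mul_assoc, h1, ← mul_assoc, h1, mul_assoc]

theorem rr_T (i j : Fin t) (hij : i ≠ j) : ((rr E i j : SLL) : MM).transpose = ((rr E i j : SLL) : MM) := by
  have h1 : ∀ m, (1 - bl E m + J E m (dd F) : MM).transpose = 1 - bl E m + J E m (dd F) := fun m => by
    rw [Matrix.transpose_add, Matrix.transpose_sub, Matrix.transpose_one, J_T, dd_T, ← J_one, J_T, Matrix.transpose_one]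
  rw [rr_coe, Matrix.transpose_mul, h1, h1]
  have h2 : ∀ a b : Fin t, a ≠ b → (1 - bl E a + J E a (dd F) : MM) * (1 - bl E b + J E b (dd F)) =
      1 - bl E a - bl E b + J E a (dd F) + J E b (dd F) := fun a b hab => by
    rw [mul_add, mul_sub, mul_one, fac_bl' (Ne.symm hab), fac_J' (Ne.symm hab)]
    abel
  rw [h2 i j hij, h2 j i (Ne.symm hij)]
  abel

theorem rr_sq (i j : Fin t) (hij : i ≠ j) : ((rr E i j : SLL) : MM) * ((rr E i j : SLL) : MM) = 1 := by
  rw [eq_sum_bl (E := E) (((rr E i j : SLL) : MM) * ((rr E i j : SLL) : MM)), ← sum_bl E]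
  refine Finset.sum_congr rfl fun l _ => ?_
  have h1 : ∀ a : Fin t, (((rr E i j : SLL) : MM) * bl E l = J E l (dd F)) →
      ((rr E i j : SLL) : MM) * ((rr E i j : SLL) : MM) * bl E l = bl E l := fun _ h => by
    rw [mul_assoc, h, ← bl_mul_J E l (dd F), ← mul_assoc, h, J_mul, dd_sq, J_one]
  by_cases hi : l = i
  · subst hi
    exact h1 l (rr_bl_i hij)
  · by_cases hj : l = j
    · subst hj
      apply h1 l
      rw [rr_coe, mul_assoc, fac_bl, fac_J' (Ne.symm hij)]
    · rw [mul_assoc, rr_bl_l hi hj, rr_bl_l hi hj]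

/-- lifts of the second kind do not exist in characteristic not two -/
theorem centBl_M [Fintype F] (hq : Fintype.card F ≤ 3) (h2 : (2 : F) ≠ 0) (ht : 3 ≤ t) {B : GLL} {σ : F ≃+* F}
    (hJ : ∀ i (s : Matrix.SpecialLinearGroup (Fin 2) F), ∃ z : F,
      tauM B σ ((jS E i s : SLL) : MM) * ((jS E i s : SLL) : MM) = z • (1 : MM))
    (hR : ∀ i j : Fin t, ∃ z : F, tauM B σ ((rr E i j : SLL) : MM) * ((rr E i j : SLL) : MM) = z • (1 : MM)) : False := by
  have hτ : ∀ y : MM, tauM B σ y = (B : MM) * y.transpose * ((B⁻¹ : GLL) : MM) := fun y => by rw [tauM_apply, map_id hq]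
  have hinv : ∀ N : MM, N * N = 0 → (1 + N) * (1 - N) = 1 := fun N hN => by
    rw [mul_sub, mul_one, add_mul, one_mul, hN, add_zero]; abel
  have h01 : ∀ i, (B : MM) * J E i (e10 F) = -J E i (e01 F) * (B : MM) := fun i => by
    obtain ⟨z, hz⟩ := hJ i (t2 true 1)
    rw [hτ, jS_t2_true, Matrix.transpose_add, Matrix.transpose_one, J_T, e01_T] at hz
    have hNN : (J E i (e01 F) : MM) * J E i (e01 F) = 0 := by rw [J_mul, e01_sq, J_zero]
    refine unip (z := z) ?_ (by rw [J_mul, e10_sq, J_zero]) (fun h => e01_ne (F := F) (J_inj E i (by rw [neg_eq_zero.mp h, J_zero]))) ?_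
    · rw [neg_mul_neg, hNN]
    · calc (B : MM) * (1 + J E i (e10 F)) * ((B⁻¹ : GLL) : MM) =
          (B : MM) * (1 + J E i (e10 F)) * ((B⁻¹ : GLL) : MM) * ((1 + J E i (e01 F)) * (1 - J E i (e01 F))) := by
            rw [hinv _ hNN, mul_one]
        _ = z • (1 + -J E i (e01 F)) := by rw [← mul_assoc, hz, Matrix.smul_mul, one_mul, sub_eq_add_neg]
  have h10 : ∀ i, (B : MM) * J E i (e01 F) = -J E i (e10 F) * (B : MM) := fun i => by
    obtain ⟨z, hz⟩ := hJ i (t2 false 1)
    rw [hτ, jS_t2_false, Matrix.transpose_add, Matrix.transpose_one, J_T, e10_T] at hz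
    have hNN : (J E i (e10 F) : MM) * J E i (e10 F) = 0 := by rw [J_mul, e10_sq, J_zero]
    refine unip (z := z) ?_ (by rw [J_mul, e01_sq, J_zero]) (fun h => e10_ne (F := F) (J_inj E i (by rw [neg_eq_zero.mp h, J_zero]))) ?_
    · rw [neg_mul_neg, hNN]
    · calc (B : MM) * (1 + J E i (e01 F)) * ((B⁻¹ : GLL) : MM) =
          (B : MM) * (1 + J E i (e01 F)) * ((B⁻¹ : GLL) : MM) * ((1 + J E i (e10 F)) * (1 - J E i (e10 F))) := by
            rw [hinv _ hNN, mul_one]
        _ = z • (1 + -J E i (e10 F)) := by rw [← mul_assoc, hz, Matrix.smul_mul, one_mul, sub_eq_add_neg]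
  have hbl : ∀ i, (B : MM) * bl E i = bl E i * (B : MM) := fun i => by
    rw [← J_one, ← e_sum, ← J_add, ← J_mul, ← J_mul, mul_add, add_mul, ← mul_assoc, h10, mul_assoc, h01, ← mul_assoc (B : MM),
      h01, mul_assoc (-J E i (e01 F)), h10]
    simp only [neg_mul, mul_neg, neg_neg, mul_assoc]
    abel
  -- three different planes
  have hi : (⟨0, by omega⟩ : Fin t) ≠ ⟨1, by omega⟩ := fun h => by simp at h
  have hl1 : (⟨2, by omega⟩ : Fin t) ≠ ⟨0, by omega⟩ := fun h => by simp at h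
  have hl2 : (⟨2, by omega⟩ : Fin t) ≠ ⟨1, by omega⟩ := fun h => by simp at h
  set i : Fin t := ⟨0, by omega⟩ with hidef
  set j : Fin t := ⟨1, by omega⟩
  set l : Fin t := ⟨2, by omega⟩
  obtain ⟨z, hz⟩ := hR i j
  set s : MM := ((rr E i j : SLL) : MM) with hs
  have hsT : s.transpose = s := rr_T i j hi
  have hss : s * s = 1 := rr_sq i j hi
  rw [hτ, hsT] at hz
  have h3 : (B : MM) * s = z • (s * (B : MM)) := by
    calc (B : MM) * s = (B : MM) * s * ((B⁻¹ : GLL) : MM) * (s * s) * (B : MM) := by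
          rw [hss, mul_one, mul_assoc _ ((B⁻¹ : GLL) : MM), coe_inv_mul, mul_one]
      _ = ((B : MM) * s * ((B⁻¹ : GLL) : MM) * s) * s * (B : MM) := by simp only [mul_assoc]
      _ = z • (s * (B : MM)) := by rw [hz, Matrix.smul_mul, one_mul, Matrix.smul_mul]
  have hz1 : z = 1 := by
    have h4 := congrArg (fun X => X * bl E l) h3
    simp only [Matrix.smul_mul] at h4
    rw [mul_assoc, rr_bl_l hl1 hl2, mul_assoc, hbl l, ← mul_assoc, rr_bl_l hl1 hl2] at h4
    have h5 : (1 - z) • (bl E l * (B : MM)) = 0 := by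
      rw [sub_smul, one_smul, ← h4, sub_self]
    rcases smul_eq_zero.mp h5 with h6 | h6
    · exact (sub_eq_zero.mp h6).symm
    · exfalso
      rw [← hbl] at h6
      exact GLL_mul_ne (bl_ne (F := F) E l) h6
  rw [hz1, one_smul] at h3
  -- on the plane `i`
  have hZ := Res.of_comm (hbl i)
  have hD : Res E i s (dd F) := ⟨rr_bl_i hi, by rw [hs, ← rr_comm, rr_bl_i hi]⟩
  have r01 : Res E i (J E i (e01 F)) (e01 F) := ⟨J_mul_bl E i _, bl_mul_J E i _⟩
  have r10 : Res E i (J E i (e10 F)) (e10 F) := ⟨J_mul_bl E i _, bl_mul_J E i _⟩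
  have rn01 : Res E i (-J E i (e01 F)) (-e01 F) := by
    constructor
    · rw [neg_mul, J_mul_bl, ← neg_one_smul F, J_smul, neg_one_smul]
    · rw [mul_neg, bl_mul_J, ← neg_one_smul F, J_smul, neg_one_smul]
  set Z := rs E i (B : MM) with hZdef
  have k1 : Z * e10 F = -e01 F * Z := by
    have h7 := hZ.mul r10
    rw [h01] at h7
    exact h7.eq (rn01.mul hZ)
  have k2 : Z * dd F = dd F * Z := by
    have h7 := hZ.mul hD
    rw [h3] at h7
    exact h7.eq (hD.mul hZ)
  have hne : Z ≠ 0 := by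
    intro h
    have h8 := hZ.1
    rw [h, J_zero] at h8
    exact GLL_mul_ne (bl_ne (F := F) E i) h8
  apply hne
  have hn1 : -e01 F = !![0, -1; 0, 0] := by
    ext a b; (revert a b; simp only [e01, _root_.Fin.forall_fin_succ, _root_.Matrix.neg_apply, _root_.Matrix.of_apply, _root_.Matrix.cons_val', _root_.Matrix.cons_val_fin_one, Fin.isValue, _root_.Matrix.cons_val_zero, _root_.Matrix.cons_val_succ, _root_.forall_const, _root_.neg_zero, _root_.and_self, _root_.implies_true])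
  rw [hn1, e10, Matrix.eta_fin_two Z, Matrix.mul_fin_two, Matrix.mul_fin_two] at k1
  rw [dd, Matrix.eta_fin_two Z, Matrix.mul_fin_two, Matrix.mul_fin_two] at k2
  have f1 := congrFun (congrFun k1 0) 0
  have f2 := congrFun (congrFun k1 0) 1
  have f4 := congrFun (congrFun k2 0) 1
  have f5 := congrFun (congrFun k2 1) 0
  have f3 := congrFun (congrFun k1 1) 0
  simp only [Matrix.of_apply, Matrix.cons_val', Matrix.cons_val_zero, Matrix.cons_val_one, Matrix.cons_val_fin_one] at f1 f2 f3 f4 f5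
  have h11 : Z 1 1 = 0 := by linear_combination f3
  have h01' : Z 0 1 = 0 := by
    have : 2 * Z 0 1 = 0 := by linear_combination f4
    exact (mul_eq_zero.mp this).resolve_left h2
  have h10' : Z 1 0 = 0 := by
    have : 2 * Z 1 0 = 0 := by linear_combination -f5
    exact (mul_eq_zero.mp this).resolve_left h2
  -- the entry `Z 0 0`, from the other relation
  have k3 : Z * e01 F = -e10 F * Z := by
    have h7 := hZ.mul r01
    rw [h10] at h7
    have rn10 : Res E i (-J E i (e10 F)) (-e10 F) := by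
      constructor
      · rw [neg_mul, J_mul_bl, ← neg_one_smul F, J_smul, neg_one_smul]
      · rw [mul_neg, bl_mul_J, ← neg_one_smul F, J_smul, neg_one_smul]
    exact h7.eq (rn10.mul hZ)
  have hn2 : -e10 F = !![0, 0; -1, 0] := by
    ext a b; (revert a b; simp only [e10, _root_.Fin.forall_fin_succ, _root_.Matrix.neg_apply, _root_.Matrix.of_apply, _root_.Matrix.cons_val', _root_.Matrix.cons_val_fin_one, Fin.isValue, _root_.Matrix.cons_val_zero, _root_.Matrix.cons_val_succ, _root_.forall_const, _root_.neg_zero, _root_.and_self, _root_.implies_true])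
  rw [hn2, e01, Matrix.eta_fin_two Z, Matrix.mul_fin_two, Matrix.mul_fin_two] at k3
  have f6 := congrFun (congrFun k3 0) 1
  simp only [Matrix.of_apply, Matrix.cons_val', Matrix.cons_val_zero, Matrix.cons_val_one, Matrix.cons_val_fin_one] at f6
  have h00 : Z 0 0 = 0 := by linear_combination f6
  ext a b
  (revert a b; simp only [h00, h01', h10', h11, _root_.Fin.forall_fin_succ, _root_.Matrix.zero_apply, Fin.isValue, _root_.Fin.succ_zero_eq_one, _root_.IsEmpty.forall_iff, _root_.and_true, _root_.and_self])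

theorem no_cent_bl [Finite G] [Fintype F] {π : SLL →* G} (hM : Model N (iSL n F) π) (hL : Loc N A r)
    (hA : Frame (iSL n F) π A (bl E)) (ht : 3 ≤ t) (hq : Fintype.card F ≤ 3) (hr : ¬ r ∣ Fintype.card F) {B₂ : Subgroup G}
    (hB : B₂ ≤ OO r A) (hne : B₂ ≠ ⊥) (hnorm : A ≤ normalizer (B₂ : Set G)) (hBN : B₂ ⊓ N = ⊥) : False := by
  have hcomm : ∀ x ∈ B₂, ∀ s : SLL, π s ∈ A → x * π s = π s * x := fun x hx s hs =>
    comm_of_inf_eq_bot hL.normal hnorm hBN hx ⟨hs, by
      change π s ∈ N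
      rw [← hM.range]; exact ⟨s, rfl⟩⟩
  have hP : ∀ x ∈ B₂, ∀ B σ, Ind (iSL n F) π x (tauP B σ) → x = 1 := fun x hx B σ h =>
    eq_one_of_tauP hM hL.cent h (centBl_P (E := E) hq ht
      (fun i s => comm_P hM h (hcomm x hx _ (jS_mem hA i s))) (fun τ => comm_P hM h (hcomm x hx _ (bp_mem hA τ))))
  apply hne
  rw [eq_bot_iff]
  intro x hx
  rw [mem_bot]
  by_cases h2 : (2 : F) = 0
  · have hr2 : r ≠ 2 := by
      intro h
      exact cast_ne hL.prime hr (by rw [h]; exact_mod_cast h2)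
    obtain ⟨k, hk⟩ := OO_pow (hB hx)
    obtain ⟨m, hm⟩ := exists_sq hL.prime hr2 hk
    obtain ⟨B, σ, h | h⟩ := hM.lift (x ^ m)
    · rw [← hm, hP (x ^ m) (B₂.pow_mem hx m) B σ h, one_pow]
    · have h3 := ind_sq hM.two h
      rw [hm] at h3
      exact hP x hx _ _ h3
  · obtain ⟨B, σ, h | h⟩ := hM.lift x
    · exact hP x hx B σ h
    · exfalso
      refine centBl_M (E := E) hq h2 ht (fun i s => comm_M hM h (hcomm x hx _ (jS_mem hA i s)))
        (fun i j => comm_M hM h (hcomm x hx _ ?_))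
      exact mem_of_comm_bl hA fun l => rr_comm i j l

end Cfsg.Agent.H599.TW
end

private theorem dce_e23ce3c5aad4 : _root_.True := by
  try have : _root_.True := by simp only [_root_.Cfsg.Agent.H599.TW.cc.eq_1]
  try have : _root_.True := by simp only [_root_.Cfsg.Agent.H599.TW.dl.eq_1]
  try have : _root_.True := by simp only [_root_.Cfsg.Agent.H599.TW.bl.eq_1]
  try have : _root_.True := by simp only [_root_.Cfsg.Agent.H599.TW.e01.eq_1]
  try have : _root_.True := by simp only [_root_.Cfsg.Agent.H599.TW.dd.eq_1]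
  try have : _root_.True := by simp only [_root_.Cfsg.Agent.H599.TW.pw.eq_1]
  try have : _root_.True := by simp only [_root_.Cfsg.Agent.H599.TW.cM.eq_1]
  try have : _root_.True := by simp only [_root_.Cfsg.Agent.H599.TW.blk.eq_1]
  try have : _root_.True := by simp only [_root_.Cfsg.Agent.H599.TW.e10.eq_1]
  try have : _root_.True := by simp only [_root_.Cfsg.Agent.H599.TW.tor.eq_1]
  try have : _root_.True := by simp only [_root_.Cfsg.Agent.H599.TW.bperm.eq_1]
  try have : _root_.True := by simp only [_root_.Cfsg.Agent.H599.TW.t2.eq_1]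
  exact _root_.True.intro
end

section
prune_inst 0xfca8f9ebb8a9dfdfdf7e77aed6ddfc39949fffacdffd0bbfe021df8f9f030a0dc5238d89e008fe1e97421410a87803f97eceffea6bdc7ffffd5ff45ffbee0fe5f7bd08519688340fbc0ff703f0778e7f000000000000000000000000000010000200000000

-- part: H296/TW/ModSU
section
prune_inst 0x31502144056200020018801092201c6286000532000f0400c502020406c00c0320830661b520121483082865203d006813000149421000000a000200411d01800000000000000100020086000080000000000000010000000000000000000004000000000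
set_option linter.all false
open scoped Cfsg.Agent.FastGrp

/-!
# S3694, node T2: the model of `PSU_n(q)` (helper296)

* `model_su` : a group `N ≅ PSU_n(q)` normal in `G` with trivial centralizer is `SU_n(q)` modulo scalars, and all the
  automorphisms induced by `G` lift to the matrix ring;
* `index_su` : the bound for `|G : N|`;
* `lift_su` : every element of `G` has a lift `x ↦ B σ(x) B⁻¹` with `B` unitary;
* `star_su` : the adjoint induces the identity.
-/

set_option autoImplicit false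

namespace Cfsg.Agent.H296.TW

open Cfsg Subgroup Matrix Cfsg.Agent.H607.TW
open Cfsg.Agent.LieClassical.HermBasic (conj conj_apply pow_q_pow_q exists_norm_eq card_norm_eq_one q_pos)
open Cfsg.Agent.ClassicalGeometry.HermParabolic (preserves_iff map_conj_conj)

universe u

section Basic

variable {G : Type u} [Group G] {F : Type} [Field F] {n : ℕ} {S : Type} [Group S]

theorem mt_mul (ι : S →* Matrix.GeneralLinearGroup (Fin n) F) (s t : S) : _root_.Cfsg.Agent.H607.TW.mt ι (s * t) = _root_.Cfsg.Agent.H607.TW.mt ι s * _root_.Cfsg.Agent.H607.TW.mt ι t := by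
  change ((ι (s * t) : Matrix.GeneralLinearGroup (Fin n) F) : Matrix (Fin n) (Fin n) F) = _
  rw [map_mul, Units.val_mul]
  rfl

theorem mt_one (ι : S →* Matrix.GeneralLinearGroup (Fin n) F) : _root_.Cfsg.Agent.H607.TW.mt ι 1 = 1 := by
  change ((ι 1 : Matrix.GeneralLinearGroup (Fin n) F) : Matrix (Fin n) (Fin n) F) = _
  rw [map_one, Units.val_one]

theorem mt_mul_inv (ι : S →* Matrix.GeneralLinearGroup (Fin n) F) (s : S) : _root_.Cfsg.Agent.H607.TW.mt ι s * _root_.Cfsg.Agent.H607.TW.mt ι s⁻¹ = 1 := by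
  rw [← mt_mul, mul_inv_cancel, mt_one]

theorem mt_inv_mul (ι : S →* Matrix.GeneralLinearGroup (Fin n) F) (s : S) : _root_.Cfsg.Agent.H607.TW.mt ι s⁻¹ * _root_.Cfsg.Agent.H607.TW.mt ι s = 1 := by
  rw [← mt_mul, inv_mul_cancel, mt_one]

theorem mt_inj {ι : S →* Matrix.GeneralLinearGroup (Fin n) F} (h : Function.Injective ι) {s t : S}
    (hst : _root_.Cfsg.Agent.H607.TW.mt ι s = _root_.Cfsg.Agent.H607.TW.mt ι t) : s = t := h (Units.ext hst)

theorem GL_mul_inv (B : Matrix.GeneralLinearGroup (Fin n) F) :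
    (B : Matrix (Fin n) (Fin n) F) * ((B⁻¹ : Matrix.GeneralLinearGroup (Fin n) F) : Matrix (Fin n) (Fin n) F) = 1 := by
  rw [← Units.val_mul, mul_inv_cancel, Units.val_one]

theorem GL_inv_mul (B : Matrix.GeneralLinearGroup (Fin n) F) :
    ((B⁻¹ : Matrix.GeneralLinearGroup (Fin n) F) : Matrix (Fin n) (Fin n) F) * (B : Matrix (Fin n) (Fin n) F) = 1 := by
  rw [← Units.val_mul, inv_mul_cancel, Units.val_one]

theorem map_mul' (σ : F ≃+* F) (x y : Matrix (Fin n) (Fin n) F) : (x * y).map σ = x.map σ * y.map σ := by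
  have h := Matrix.map_mul (L := x) (M := y) (f := (σ : F →+* F))
  exact h

theorem tauP_mul (B : Matrix.GeneralLinearGroup (Fin n) F) (σ : F ≃+* F) (x y : Matrix (Fin n) (Fin n) F) :
    tauP B σ (x * y) = tauP B σ x * tauP B σ y := by
  rw [tauP_apply, tauP_apply, tauP_apply, map_mul']
  have h := GL_inv_mul B
  calc _ = (B : Matrix (Fin n) (Fin n) F) * x.map σ * 1 * y.map σ *
        ((B⁻¹ : Matrix.GeneralLinearGroup (Fin n) F) : Matrix (Fin n) (Fin n) F) := by simp only [mul_assoc, one_mul]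
    _ = _ := by rw [← h]; simp only [mul_assoc]

theorem tauM_mul (B : Matrix.GeneralLinearGroup (Fin n) F) (σ : F ≃+* F) (x y : Matrix (Fin n) (Fin n) F) :
    tauM B σ (x * y) = tauM B σ y * tauM B σ x := by
  have h : ∀ z : Matrix (Fin n) (Fin n) F, tauM B σ z = tauP B σ z.transpose := fun z => rfl
  rw [h, h, h, ← tauP_mul, Matrix.transpose_mul]

/-- The matrix ring is not commutative. -/
theorem not_comm (hn : 2 ≤ n) : ¬ ∀ x y : Matrix (Fin n) (Fin n) F, x * y = y * x := by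
  intro h
  let i : Fin n := ⟨0, by omega⟩
  let j : Fin n := ⟨1, by omega⟩
  have hij : i ≠ j := by
    intro h1
    have := congrArg Fin.val h1
    simp [i, j] at this
  have h1 := h (Matrix.single i j 1) (Matrix.single j i 1)
  rw [Matrix.single_mul_single_same, Matrix.single_mul_single_same] at h1
  have h2 := congrFun (congrFun h1 i) i
  rw [Matrix.single_apply_same, Matrix.single_apply_of_ne] at h2
  · simp at h2
  · rintro ⟨h3, -⟩
    exact hij h3.symm

theorem not_mul_and_anti (hn : 2 ≤ n) {τ : Matrix (Fin n) (Fin n) F ≃+ Matrix (Fin n) (Fin n) F}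
    (h1 : ∀ x y, τ (x * y) = τ x * τ y) (h2 : ∀ x y, τ (x * y) = τ y * τ x) : False := by
  apply not_comm (F := F) hn
  intro x y
  have h := (h1 (τ.symm x) (τ.symm y)).symm.trans (h2 (τ.symm x) (τ.symm y))
  simpa only [_root_.AddEquiv.apply_symm_apply] using h

theorem ind_tauP (hn : 2 ≤ n) {ι : S →* Matrix.GeneralLinearGroup (Fin n) F} {π : S →* G} {g : G}
    {B : Matrix.GeneralLinearGroup (Fin n) F} {σ : F ≃+* F} :
    Ind ι π g (tauP B σ) ↔ ∀ s : S, ∃ s' : S, _root_.Cfsg.Agent.H607.TW.mt ι s' = tauP B σ (_root_.Cfsg.Agent.H607.TW.mt ι s) ∧ π s' = g * π s * g⁻¹ := by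
  constructor
  · rintro (⟨-, h⟩ | ⟨h, -⟩)
    · exact h
    · exact (not_mul_and_anti hn (tauP_mul B σ) h).elim
  · intro h
    exact Or.inl ⟨tauP_mul B σ, h⟩

theorem ind_tauM (hn : 2 ≤ n) {ι : S →* Matrix.GeneralLinearGroup (Fin n) F} {π : S →* G} {g : G}
    {B : Matrix.GeneralLinearGroup (Fin n) F} {σ : F ≃+* F} :
    Ind ι π g (tauM B σ) ↔ ∀ s : S, ∃ s' : S, _root_.Cfsg.Agent.H607.TW.mt ι s' = tauM B σ (_root_.Cfsg.Agent.H607.TW.mt ι s) ∧ (π s')⁻¹ = g * π s * g⁻¹ := by
  constructor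
  · rintro (⟨h, -⟩ | ⟨-, h⟩)
    · exact (not_mul_and_anti hn h (tauM_mul B σ)).elim
    · exact h
  · intro h
    exact Or.inr ⟨tauM_mul B σ, h⟩

/-- The element is determined by its lift. -/
theorem eq_of_ind {N : Subgroup G} (hc : centralizer (N : Set G) = ⊥) {ι : S →* Matrix.GeneralLinearGroup (Fin n) F}
    {π : S →* G} (hinj : Function.Injective ι) (hr : π.range = N) (hn : 2 ≤ n) {g h : G}
    {B : Matrix.GeneralLinearGroup (Fin n) F} {σ : F ≃+* F}
    (h1 : Ind ι π g (tauP B σ)) (h2 : Ind ι π h (tauP B σ)) : g = h := by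
  rw [ind_tauP hn] at h1 h2
  have h3 : h⁻¹ * g ∈ centralizer (N : Set G) := by
    rw [Subgroup.mem_centralizer_iff]
    intro x hx
    rw [← hr] at hx
    obtain ⟨s, rfl⟩ := hx
    obtain ⟨s1, e1, f1⟩ := h1 s
    obtain ⟨s2, e2, f2⟩ := h2 s
    have e : s1 = s2 := mt_inj hinj (e1.trans e2.symm)
    rw [e, f2] at f1
    have f3 := congrArg (fun z => h⁻¹ * z * g) f1
    calc π s * (h⁻¹ * g) = h⁻¹ * (h * π s * h⁻¹) * g := by group
      _ = h⁻¹ * (g * π s * g⁻¹) * g := f3
      _ = h⁻¹ * g * π s := by group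
  rw [hc, Subgroup.mem_bot] at h3
  exact (inv_mul_eq_one.1 h3).symm

end Basic

section Unitary

variable {G : Type u} [Group G] {F : Type} [Field F] [Fintype F] {n q : ℕ}

/-- The adjoint. -/
def st (hF : Fintype.card F = q ^ 2) (x : Matrix (Fin n) (Fin n) F) : Matrix (Fin n) (Fin n) F :=
  x.transpose.map (conj hF)

theorem st_mul (hF : Fintype.card F = q ^ 2) (x y : Matrix (Fin n) (Fin n) F) : st hF (x * y) = st hF y * st hF x := by
  rw [st, st, st, Matrix.transpose_mul, map_mul']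

theorem st_st (hF : Fintype.card F = q ^ 2) (x : Matrix (Fin n) (Fin n) F) : st hF (st hF x) = x := by
  ext i j
  simp only [st, Matrix.map_apply, Matrix.transpose_apply, conj_apply, pow_q_pow_q hF]

theorem st_one (hF : Fintype.card F = q ^ 2) : st hF (1 : Matrix (Fin n) (Fin n) F) = 1 := by
  rw [st, Matrix.transpose_one]
  exact Matrix.map_one (conj hF) (map_zero _) (map_one _)

theorem st_smul (hF : Fintype.card F = q ^ 2) (c : F) (x : Matrix (Fin n) (Fin n) F) :
    st hF (c • x) = c ^ q • st hF x := by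
  ext i j
  simp only [st, Matrix.map_apply, Matrix.transpose_apply, conj_apply, Matrix.smul_apply, smul_eq_mul, mul_pow]

theorem st_map (hF : Fintype.card F = q ^ 2) (σ : F ≃+* F) (x : Matrix (Fin n) (Fin n) F) :
    st hF (x.map σ) = (st hF x).map σ := by
  ext i j
  simp only [st, Matrix.map_apply, Matrix.transpose_apply, conj_apply, map_pow]

/-- A matrix is unitary iff `x* x = 1`. -/
theorem preserves_iff_st (hF : Fintype.card F = q ^ 2) (M : Matrix (Fin n) (Fin n) F) :
    (∀ u v : Fin n → F, hermForm n F q (M *ᵥ u) (M *ᵥ v) = hermForm n F q u v) ↔ st hF M * M = 1 := by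
  rw [preserves_iff hF]
  constructor
  · intro h
    have h1 := congrArg (fun z : Matrix (Fin n) (Fin n) F => z.map (conj hF)) h
    simp only [map_mul', map_conj_conj] at h1
    rw [st, h1]
    exact Matrix.map_one (conj hF) (map_zero _) (map_one _)
  · intro h
    have h1 := congrArg (fun z : Matrix (Fin n) (Fin n) F => z.map (conj hF)) h
    simp only [map_mul', st, map_conj_conj] at h1
    rw [h1]
    exact Matrix.map_one (conj hF) (map_zero _) (map_one _)

theorem mem_GU_iff_st (hF : Fintype.card F = q ^ 2) (B : Matrix.GeneralLinearGroup (Fin n) F) :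
    B ∈ Cfsg.GU n F q ↔ st hF (B : Matrix (Fin n) (Fin n) F) * (B : Matrix (Fin n) (Fin n) F) = 1 := by
  rw [← preserves_iff_st hF]
  rfl

theorem st_mt (hF : Fintype.card F = q ^ 2) (s : ↥(Cfsg.SU n F q)) : st hF (_root_.Cfsg.Agent.H607.TW.mt (iSU n F q) s) * _root_.Cfsg.Agent.H607.TW.mt (iSU n F q) s = 1 :=
  (preserves_iff_st hF _).1 s.2

theorem st_mt_eq (hF : Fintype.card F = q ^ 2) (s : ↥(Cfsg.SU n F q)) :
    st hF (_root_.Cfsg.Agent.H607.TW.mt (iSU n F q) s) = _root_.Cfsg.Agent.H607.TW.mt (iSU n F q) s⁻¹ := by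
  have h1 := st_mt hF s
  have h2 := mt_mul_inv (iSU n F q) s
  calc st hF (_root_.Cfsg.Agent.H607.TW.mt (iSU n F q) s) = st hF (_root_.Cfsg.Agent.H607.TW.mt (iSU n F q) s) * (_root_.Cfsg.Agent.H607.TW.mt (iSU n F q) s * _root_.Cfsg.Agent.H607.TW.mt (iSU n F q) s⁻¹) := by
        rw [h2, mul_one]
    _ = _root_.Cfsg.Agent.H607.TW.mt (iSU n F q) s⁻¹ := by rw [← mul_assoc, h1, one_mul]

theorem eq_conj (hF : Fintype.card F = q ^ 2) {σ : F ≃+* F} (hσ : ∀ c, σ c = c ^ q) : σ = conj hF := by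
  ext c
  rw [hσ, conj_apply]

/-- The adjoint induces the identity. -/
theorem star_su {q : ℕ} (hF : Fintype.card F = q ^ 2) (π : ↥(Cfsg.SU n F q) →* G) (σ : F ≃+* F)
    (hσ : ∀ c, σ c = c ^ q) : Ind (iSU n F q) π 1 (tauM 1 σ) := by
  right
  refine ⟨tauM_mul _ _, fun s => ⟨s⁻¹, ?_, ?_⟩⟩
  · rw [← st_mt_eq hF, tauM_apply, eq_conj hF hσ, Units.val_one, one_mul, inv_one, Units.val_one, mul_one]
    rfl
  · rw [map_inv, inv_inv, one_mul, inv_one, mul_one]

theorem ind_tauP_of_tauM (hF : Fintype.card F = q ^ 2) {π : ↥(Cfsg.SU n F q) →* G} (hn : 2 ≤ n) {g : G}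
    {B : Matrix.GeneralLinearGroup (Fin n) F} {σ : F ≃+* F} (h : Ind (iSU n F q) π g (tauM B σ)) :
    Ind (iSU n F q) π g (tauP B ((conj hF).trans σ)) := by
  rw [ind_tauM hn] at h
  rw [ind_tauP hn]
  intro s
  obtain ⟨s', h1, h2⟩ := h s⁻¹
  refine ⟨s', ?_, ?_⟩
  · rw [h1, ← st_mt_eq hF, tauM_apply, tauP_apply]
    congr 2
  · rw [← _root_.inv_inj, h2, map_inv]
    group

omit [Fintype F] in
theorem scalar_of_commute {ι : ↥(Cfsg.SU n F q) →* Matrix.GeneralLinearGroup (Fin n) F}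
    (hspan : Submodule.span F (Set.range (_root_.Cfsg.Agent.H607.TW.mt ι)) = ⊤) {H : Matrix (Fin n) (Fin n) F}
    (h : ∀ s, H * _root_.Cfsg.Agent.H607.TW.mt ι s = _root_.Cfsg.Agent.H607.TW.mt ι s * H) : ∃ c : F, H = c • (1 : Matrix (Fin n) (Fin n) F) := by
  have h1 : ∀ x : Matrix (Fin n) (Fin n) F, H * x = x * H := by
    intro x
    have hx : x ∈ Submodule.span F (Set.range (_root_.Cfsg.Agent.H607.TW.mt ι)) := by rw [hspan]; trivial
    induction hx using Submodule.span_induction with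
    | mem x hx => obtain ⟨s, rfl⟩ := hx; exact h s
    | zero => simp
    | add x y _ _ hx hy => rw [mul_add, add_mul, hx, hy]
    | smul c x _ hx => rw [mul_smul_comm, smul_mul_assoc, hx]
  have h2 : H ∈ Set.range (Matrix.scalar (Fin n)) := by
    rw [Matrix.mem_range_scalar_iff_commute_single]
    intro i j _
    exact (h1 _).symm
  obtain ⟨c, hc⟩ := h2
  refine ⟨c, ?_⟩
  rw [← hc, Matrix.scalar_apply, Matrix.smul_one_eq_diagonal]

/-- A lift `x ↦ B σ(x) B⁻¹` can be taken with `B` unitary. -/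
theorem scale_su {q : ℕ} (hF : Fintype.card F = q ^ 2) {N : Subgroup G} {π : ↥(Cfsg.SU n F q) →* G} (hn : 2 ≤ n)
    (hM : Model N (iSU n F q) π) {g : G} {B : Matrix.GeneralLinearGroup (Fin n) F} {σ : F ≃+* F}
    (hB : Ind (iSU n F q) π g (tauP B σ)) :
    ∃ B' : Matrix.GeneralLinearGroup (Fin n) F, B' ∈ Cfsg.GU n F q ∧ tauP B' σ = tauP B σ := by
  have hn2 : 2 ≤ n := hn
  have hB' := hB
  rw [ind_tauP hn2] at hB'
  set X : Matrix (Fin n) (Fin n) F := (B : Matrix (Fin n) (Fin n) F) with hX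
  set X' : Matrix (Fin n) (Fin n) F := ((B⁻¹ : Matrix.GeneralLinearGroup (Fin n) F) : Matrix (Fin n) (Fin n) F)
    with hX'
  have hXX' : X * X' = 1 := GL_mul_inv B
  have hX'X : X' * X = 1 := GL_inv_mul B
  have hcomm : ∀ s, (st hF X * X) * (_root_.Cfsg.Agent.H607.TW.mt (iSU n F q) s).map σ = (_root_.Cfsg.Agent.H607.TW.mt (iSU n F q) s).map σ * (st hF X * X) := by
    intro s
    obtain ⟨s', h1, -⟩ := hB' s
    have h2 := st_mt hF s'
    rw [h1, tauP_apply] at h2
    change st hF (X * (_root_.Cfsg.Agent.H607.TW.mt (iSU n F q) s).map σ * X') * (X * (_root_.Cfsg.Agent.H607.TW.mt (iSU n F q) s).map σ * X') = 1 at h2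
    have h3 : (_root_.Cfsg.Agent.H607.TW.mt (iSU n F q) s).map σ * st hF ((_root_.Cfsg.Agent.H607.TW.mt (iSU n F q) s).map σ) = 1 := by
      rw [st_map, st_mt_eq, ← map_mul', mt_mul_inv]
      exact Matrix.map_one σ (map_zero _) (map_one _)
    generalize (_root_.Cfsg.Agent.H607.TW.mt (iSU n F q) s).map σ = Y at h2 h3
    rw [st_mul, st_mul] at h2
    have h4 : st hF X' * st hF X = 1 := by rw [← st_mul, hXX', st_one]
    have h5 : st hF X * st hF X' = 1 := by rw [← st_mul, hX'X, st_one]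
    calc st hF X * X * Y = (Y * st hF Y) * (st hF X * X * Y) := by rw [h3, one_mul]
      _ = Y * ((st hF X * st hF X') * (st hF Y * st hF X) * (X * Y * (X' * X))) := by
          rw [h5, hX'X, one_mul, mul_one]; simp only [mul_assoc]
      _ = Y * (st hF X * (st hF X' * (st hF Y * st hF X) * (X * Y * X')) * X) := by simp only [mul_assoc]
      _ = Y * (st hF X * X) := by rw [h2, mul_one]
  obtain ⟨c, hc⟩ : ∃ c : F, st hF X * X = c • (1 : Matrix (Fin n) (Fin n) F) := by
    have h1 : ∀ s, (st hF X * X).map σ.symm * _root_.Cfsg.Agent.H607.TW.mt (iSU n F q) s = _root_.Cfsg.Agent.H607.TW.mt (iSU n F q) s * (st hF X * X).map σ.symm := by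
      intro s
      have h2 := congrArg (fun z : Matrix (Fin n) (Fin n) F => z.map σ.symm) (hcomm s)
      simp only [map_mul'] at h2 ⊢
      have h3 : ((_root_.Cfsg.Agent.H607.TW.mt (iSU n F q) s).map σ).map σ.symm = _root_.Cfsg.Agent.H607.TW.mt (iSU n F q) s := by
        ext i j
        simp
      rw [h3] at h2
      exact h2
    obtain ⟨c, hc⟩ := scalar_of_commute hM.span h1
    refine ⟨σ c, ?_⟩
    have h2 := congrArg (fun z : Matrix (Fin n) (Fin n) F => z.map σ) hc
    ext i j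
    have h3 := congrFun (congrFun h2 i) j
    simp only [Matrix.map_apply, RingEquiv.apply_symm_apply, Matrix.smul_apply, smul_eq_mul, map_mul] at h3
    rw [h3, Matrix.smul_apply, smul_eq_mul, Matrix.one_apply]
    split_ifs <;> simp
  have i0 : Fin n := ⟨0, by omega⟩
  have hcq : c ^ q = c := by
    have h1 := congrArg (st hF) hc
    rw [st_mul, st_st, st_smul, st_one, hc] at h1
    have h2 := congrFun (congrFun h1 i0) i0
    simp only [Matrix.smul_apply, Matrix.one_apply_eq, smul_eq_mul, mul_one] at h2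
    exact h2.symm
  have hc0 : c ≠ 0 := by
    rintro rfl
    rw [zero_smul] at hc
    have h1 : X = 0 := by
      have h4 : st hF X' * st hF X = 1 := by rw [← st_mul, hXX', st_one]
      calc X = (st hF X' * st hF X) * X := by rw [h4, one_mul]
        _ = st hF X' * (st hF X * X) := by rw [mul_assoc]
        _ = 0 := by rw [hc, mul_zero]
    rw [h1, zero_mul] at hXX'
    have h2 := congrFun (congrFun hXX' i0) i0
    rw [Matrix.zero_apply, Matrix.one_apply_eq] at h2
    exact zero_ne_one h2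
  obtain ⟨d, hd⟩ := _root_.Cfsg.Agent.LieClassical.HermBasic.exists_norm_eq hF hcq
  have hd0 : d ≠ 0 := by
    rintro rfl
    rw [zero_mul] at hd
    exact hc0 hd.symm
  have e1 : (d⁻¹ • X) * (d • X') = 1 := by
    rw [smul_mul_smul_comm, inv_mul_cancel₀ hd0, hXX', one_smul]
  have e2 : (d • X') * (d⁻¹ • X) = 1 := by
    rw [smul_mul_smul_comm, mul_inv_cancel₀ hd0, hX'X, one_smul]
  refine ⟨⟨d⁻¹ • X, d • X', e1, e2⟩, ?_, ?_⟩
  · rw [mem_GU_iff_st hF]
    change st hF (d⁻¹ • X) * (d⁻¹ • X) = 1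
    rw [st_smul, smul_mul_smul_comm, hc, smul_smul, ← hd]
    have h1 : d⁻¹ ^ q * d⁻¹ * (d * d ^ q) = 1 := by
      rw [inv_pow]
      have : d ^ q ≠ 0 := pow_ne_zero _ hd0
      field_simp
    rw [h1, one_smul]
  · ext1 x
    rw [tauP_apply, tauP_apply]
    change (d⁻¹ • X) * x.map σ * (d • X') = X * x.map σ * X'
    rw [smul_mul_assoc, smul_mul_smul_comm, inv_mul_cancel₀ hd0, one_smul]

/-- Every element has a lift of the first kind, with `B` in the unitary group. -/
theorem lift_su {q : ℕ} (hF : Fintype.card F = q ^ 2) {N : Subgroup G} {π : ↥(Cfsg.SU n F q) →* G} (hn : 3 ≤ n)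
    (hM : Model N (iSU n F q) π) (g : G) :
    ∃ (B : Matrix.GeneralLinearGroup (Fin n) F) (σ : F ≃+* F), B ∈ Cfsg.GU n F q ∧ Ind (iSU n F q) π g (tauP B σ) := by
  have hn2 : 2 ≤ n := by omega
  obtain ⟨B, σ, hB⟩ : ∃ (B : Matrix.GeneralLinearGroup (Fin n) F) (σ : F ≃+* F),
      Ind (iSU n F q) π g (tauP B σ) := by
    obtain ⟨B, σ, h | h⟩ := hM.lift g
    · exact ⟨B, σ, h⟩
    · exact ⟨B, _, ind_tauP_of_tauM hF hn2 h⟩
  obtain ⟨B', hB1, hB2⟩ := scale_su hF hn2 hM hB
  exact ⟨B', σ, hB1, by rw [hB2]; exact hB⟩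

/-- The bound for `|G : N|`. -/
theorem index_su [Finite G] {q : ℕ} (hF : Fintype.card F = q ^ 2) {N : Subgroup G} {π : ↥(Cfsg.SU n F q) →* G}
    (_hN : N.Normal) (hc : centralizer (N : Set G) = ⊥) (hn : 3 ≤ n) (hM : Model N (iSU n F q) π) :
    N.index ≤ Nat.card (F ≃+* F) * Nat.card π.ker := by
  classical
  have hn2 : 2 ≤ n := by omega
  have hfinG : Finite (Cfsg.GU n F q) := LieClassical.GUOrder.finite_GU n
  have hfinS : Finite (Cfsg.SU n F q) := Finite.of_injective _ hM.inj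
  have hfinR : Finite (F ≃+* F) :=
    Finite.of_injective (fun α : F ≃+* F => (α : F → F)) (fun α β h => RingEquiv.ext fun x => congrFun h x)
  choose B σ hBU hB using fun g => lift_su hF hn hM g
  have i0 : Fin n := ⟨0, by omega⟩
  let f : G × {c : F // c * c ^ q = 1} → ↥(Cfsg.GU n F q) × (F ≃+* F) :=
    fun x => (ClassicalGeometry.PSUAutCount.sc n x.2 * ⟨B x.1, hBU x.1⟩, σ x.1)
  have hsc : ∀ (c : {c : F // c * c ^ q = 1}) (A : ↥(Cfsg.GU n F q)) (s : F ≃+* F),
      tauP ((ClassicalGeometry.PSUAutCount.sc n c * A : ↥(Cfsg.GU n F q)) : Matrix.GeneralLinearGroup (Fin n) F) s =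
        tauP (A : Matrix.GeneralLinearGroup (Fin n) F) s := by
    intro c A s
    have hc0 : c.1 ≠ 0 := by
      intro h0
      have h1 := c.2
      rw [h0, zero_mul] at h1
      exact zero_ne_one h1
    have h1 : ((ClassicalGeometry.PSUAutCount.sc n c * A : ↥(Cfsg.GU n F q)) : Matrix.GeneralLinearGroup (Fin n) F) =
        ⟨c.1 • (A.1 : Matrix (Fin n) (Fin n) F), c.1⁻¹ • ((A.1⁻¹ : Matrix.GeneralLinearGroup (Fin n) F) : Matrix (Fin n) (Fin n) F),
          by rw [smul_mul_smul_comm, mul_inv_cancel₀ hc0, GL_mul_inv, one_smul],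
          by rw [smul_mul_smul_comm, inv_mul_cancel₀ hc0, GL_inv_mul, one_smul]⟩ := by
      apply Units.ext
      exact ClassicalGeometry.PSUAutCount.gm_sc_mul c A
    rw [h1]
    ext1 x
    rw [tauP_apply, tauP_apply]
    change (c.1 • (A.1 : Matrix (Fin n) (Fin n) F)) * x.map s *
      (c.1⁻¹ • ((A.1⁻¹ : Matrix.GeneralLinearGroup (Fin n) F) : Matrix (Fin n) (Fin n) F)) = _
    rw [smul_mul_assoc, smul_mul_smul_comm, mul_inv_cancel₀ hc0, one_smul]
  have hf : Function.Injective f := by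
    rintro ⟨g, c⟩ ⟨g', c'⟩ h
    have h1 : ClassicalGeometry.PSUAutCount.sc n c * ⟨B g, hBU g⟩ = ClassicalGeometry.PSUAutCount.sc n c' * ⟨B g', hBU g'⟩ :=
      congrArg Prod.fst h
    have h2 : σ g = σ g' := congrArg Prod.snd h
    have h3 : g = g' := by
      have e1 := hsc c ⟨B g, hBU g⟩ (σ g)
      have e2 := hsc c' ⟨B g', hBU g'⟩ (σ g')
      rw [h1, h2, e2] at e1
      apply eq_of_ind hc hM.inj hM.range hn2 (hB g)
      have e3 := hB g'
      rw [h2]
      have e4 : tauP (B g') (σ g') = tauP (B g) (σ g') := e1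
      rw [← e4]
      exact e3
    subst h3
    have h4 := mul_right_cancel h1
    have h5 := congrArg ClassicalGeometry.PSUAutCount.gm h4
    have h6 := congrFun (congrFun h5 i0) i0
    change Matrix.diagonal (fun _ => c.1) _ _ = Matrix.diagonal (fun _ => c'.1) _ _ at h6
    rw [Matrix.diagonal_apply_eq, Matrix.diagonal_apply_eq] at h6
    rw [Subtype.ext h6]
  have h1 := Nat.card_le_card_of_injective f hf
  rw [Nat.card_prod, Nat.card_prod, card_norm_eq_one hF, LieClassical.GUOrder.card_GU_eq hF (by omega)] at h1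
  have h2 : Nat.card (Cfsg.SU n F q) = Nat.card N * Nat.card π.ker := by
    rw [← hM.range, mul_comm]
    have e1 := Subgroup.card_mul_index π.ker
    rw [Subgroup.index_ker] at e1
    exact e1.symm
  have h3 : N.index * Nat.card N = Nat.card G := Subgroup.index_mul_card N
  have hN0 : 0 < Nat.card N := Nat.card_pos
  rw [← h3, h2] at h1
  have h4 : (N.index) * (Nat.card N * (q + 1)) ≤ (Nat.card (F ≃+* F) * Nat.card π.ker) * (Nat.card N * (q + 1)) := by
    calc _ = N.index * Nat.card N * (q + 1) := by ring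
      _ ≤ _ := h1
      _ = _ := by ring
  exact Nat.le_of_mul_le_mul_right h4 (Nat.mul_pos hN0 (Nat.succ_pos q))

/-- The matrices of `SU_n(q)` span the matrix ring. -/
theorem span_su (hF : Fintype.card F = q ^ 2) (hn : 3 ≤ n) :
    Submodule.span F (Set.range (_root_.Cfsg.Agent.H607.TW.mt (iSU n F q))) = ⊤ := by
  have h := H920.span_eq_top (H918.SUg_absIrreducible (n := n) hF hn)
  rw [← h]
  congr 1
  ext x
  constructor
  · rintro ⟨s, rfl⟩
    exact ⟨_, H918.suHom_mem s, rfl⟩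
  · rintro ⟨g, hg, rfl⟩
    obtain ⟨s, rfl⟩ := H918.exists_suHom hg
    exact ⟨s, rfl⟩

/-- The model. -/
theorem model_su {q : ℕ} (hF : Fintype.card F = q ^ 2) {N : Subgroup G} (hN : N.Normal)
    (_hc : centralizer (N : Set G) = ⊥) (hn : 3 ≤ n)
    (h3 : ¬ (n = 3 ∧ q = 2)) (e : ↥N ≃* Cfsg.PSU n F q) :
    ∃ π : ↥(Cfsg.SU n F q) →* G, Model N (iSU n F q) π := by
  have hn2 : 2 ≤ n := by omega
  let π : ↥(Cfsg.SU n F q) →* G := N.subtype.comp (e.symm.toMonoidHom.comp (QuotientGroup.mk' (Subgroup.center (Cfsg.SU n F q))))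
  have hπ : ∀ s, π s = (e.symm (QuotientGroup.mk' (Subgroup.center (Cfsg.SU n F q)) s) : G) := fun s => rfl
  refine ⟨π, ?_⟩
  have hinj : Function.Injective (iSU n F q) := H918.suHom_injective
  refine
    { two := hn2
      inj := hinj
      range := ?_
      ker := ?_
      det := ?_
      perfect := LieClassical.HermPerfect.commutator_SU_eq_top hF hn h3
      span := span_su hF hn
      lift := ?_ }
  · ext x
    constructor
    · rintro ⟨s, rfl⟩
      exact (e.symm (QuotientGroup.mk' (Subgroup.center (Cfsg.SU n F q)) s)).2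
    · intro hx
      obtain ⟨s, hs⟩ := QuotientGroup.mk'_surjective (Subgroup.center (Cfsg.SU n F q)) (e ⟨x, hx⟩)
      refine ⟨s, ?_⟩
      rw [hπ, hs, MulEquiv.symm_apply_apply]
  · intro s
    have h1 : π s = 1 ↔ s ∈ Subgroup.center (Cfsg.SU n F q) := by
      rw [hπ, ← Subgroup.coe_one N, Subtype.coe_inj, ← map_one e.symm, e.symm.apply_eq_iff_eq,
        QuotientGroup.mk'_apply, QuotientGroup.eq_one_iff]
    rw [h1]
    constructor
    · intro h2
      apply scalar_of_commute (span_su hF hn)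
      intro t
      have h4 := congrArg (_root_.Cfsg.Agent.H607.TW.mt (iSU n F q)) (Subgroup.mem_center_iff.1 h2 t)
      rw [mt_mul, mt_mul] at h4
      exact h4.symm
    · rintro ⟨c, h2⟩
      rw [Subgroup.mem_center_iff]
      intro t
      apply mt_inj hinj
      rw [mt_mul, mt_mul, h2, mul_smul_comm, smul_mul_assoc, mul_one, one_mul]
  · intro s
    exact (s : Matrix.SpecialLinearGroup (Fin n) F).2
  · intro g
    let α : MulAut (Cfsg.PSU n F q) := (e.symm.trans (MulAut.conjNormal g)).trans e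
    obtain ⟨A, ρ, hA⟩ := ClassicalGeometry.PSUAutMain.exists_toAut hF hn h3 α
    refine ⟨A, ρ, Or.inl ((ind_tauP hn2).2 fun s => ⟨ClassicalGeometry.PSUAutCount.semiConj A ρ s, rfl, ?_⟩)⟩
    have h4 : α (QuotientGroup.mk' (Subgroup.center (Cfsg.SU n F q)) s) =
        QuotientGroup.mk' (Subgroup.center (Cfsg.SU n F q)) (ClassicalGeometry.PSUAutCount.semiConj A ρ s) := by
      rw [hA]
      rfl
    rw [hπ, ← h4, hπ]
    change ((e.symm (e (MulAut.conjNormal g (e.symm _)))) : G) = _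
    rw [MulEquiv.symm_apply_apply, MulAut.conjNormal_apply]

end Unitary

end Cfsg.Agent.H296.TW

private theorem dce_63e39f5022bc : _root_.True := by
  try have : _root_.True := by simp only [_root_.Cfsg.Agent.H296.TW.st.eq_1]
  try have : _root_.True := by simp only [_root_.Cfsg.Agent.H296.TW.st.congr_simp]
  exact _root_.True.intro
end

-- part: H607/TW/Alg
section
prune_inst 0x31100140542202020018800090201c42b6000432000b0400c542020406c80c0308010621b66002120902a864003c0028130000494028000000000000411d0080800042009208a10406008f000080000000000000010000000000000000000004000000000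
set_option linter.all false
open scoped Cfsg.Agent.FastGrp

-- part: H296/TW/Cyc
section
/-!
# S3694: groups of inner-diagonal automorphisms meeting the socle trivially are cyclic (helper296)

* `scale_su` : a lift `tauP B σ` may be taken with `B` unitary;
* `scalar_of_ind` : two lifts `tauP B 1`, `tauP C 1` of the same element differ by a scalar;
* `cyc_aux`, `cyc_sl`, `cyc_su` : `X ∩ N = 1`, all elements of `X` have lifts `x ↦ B x B⁻¹`: then `X` is cyclic.
-/

set_option autoImplicit false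

namespace Cfsg.Agent.H296.TW

open Cfsg Subgroup Matrix Cfsg.Agent.H607.TW
open scoped commutatorElement
open Cfsg.Agent.LieClassical.HermBasic (conj conj_apply pow_q_pow_q exists_norm_eq card_norm_eq_one q_pos)

universe u

section Basic

variable {G : Type u} [Group G] {F : Type} [Field F] {n : ℕ} {S : Type} [Group S]

theorem tauP_one_eq (B : Matrix.GeneralLinearGroup (Fin n) F) (x : Matrix (Fin n) (Fin n) F) :
    tauP B 1 x = (B : Matrix (Fin n) (Fin n) F) * x * ((B⁻¹ : Matrix.GeneralLinearGroup (Fin n) F) : Matrix (Fin n) (Fin n) F) := by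
  rw [tauP_apply]
  rfl

theorem tauP_one_mt (B : Matrix.GeneralLinearGroup (Fin n) F) (ι : S →* Matrix.GeneralLinearGroup (Fin n) F) (s : S) :
    tauP B 1 (_root_.Cfsg.Agent.H607.TW.mt ι s) = ((B * ι s * B⁻¹ : Matrix.GeneralLinearGroup (Fin n) F) : Matrix (Fin n) (Fin n) F) := by
  rw [tauP_one_eq, Units.val_mul, Units.val_mul]
  rfl

/-- `Ind` for inner-diagonal lifts, in the group `GL`. -/
theorem ind_one (hn : 2 ≤ n) {ι : S →* Matrix.GeneralLinearGroup (Fin n) F} {π : S →* G} {g : G}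
    {B : Matrix.GeneralLinearGroup (Fin n) F} :
    Ind ι π g (tauP B 1) ↔ ∀ s : S, ∃ s' : S, ι s' = B * ι s * B⁻¹ ∧ π s' = g * π s * g⁻¹ := by
  rw [ind_tauP hn]
  constructor
  · intro h s
    obtain ⟨s', h1, h2⟩ := h s
    rw [tauP_one_mt] at h1
    exact ⟨s', Units.ext h1, h2⟩
  · intro h s
    obtain ⟨s', h1, h2⟩ := h s
    refine ⟨s', ?_, h2⟩
    rw [tauP_one_mt, ← h1]
    rfl

/-- Conjugation by the matrix of `s` induces `π s`. -/
theorem ind_self (hn : 2 ≤ n) (ι : S →* Matrix.GeneralLinearGroup (Fin n) F) (π : S →* G) (s : S) :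
    Ind ι π (π s) (tauP (ι s) 1) := by
  rw [ind_one hn]
  intro t
  exact ⟨s * t * s⁻¹, by simp only [map_mul, map_inv], by simp only [map_mul, map_inv]⟩

theorem ind_mul_one (hn : 2 ≤ n) {ι : S →* Matrix.GeneralLinearGroup (Fin n) F} {π : S →* G} {g h : G}
    {B C : Matrix.GeneralLinearGroup (Fin n) F} (h1 : Ind ι π g (tauP B 1)) (h2 : Ind ι π h (tauP C 1)) :
    Ind ι π (g * h) (tauP (B * C) 1) := by
  rw [ind_one hn] at h1 h2 ⊢
  intro s
  obtain ⟨s1, e1, f1⟩ := h2 s
  obtain ⟨s2, e2, f2⟩ := h1 s1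
  refine ⟨s2, ?_, ?_⟩
  · rw [e2, e1]; group
  · rw [f2, f1]; group

/-- A scalar does not change the lift. -/
theorem ind_scalar (hn : 2 ≤ n) {ι : S →* Matrix.GeneralLinearGroup (Fin n) F} {π : S →* G} {g : G}
    {B : Matrix.GeneralLinearGroup (Fin n) F} (c : Fˣ) (h : Ind ι π g (tauP B 1)) :
    Ind ι π g (tauP (B * Matrix.GeneralLinearGroup.scalar (Fin n) c) 1) := by
  rw [ind_one hn] at h ⊢
  intro s
  obtain ⟨s', h1, h2⟩ := h s
  refine ⟨s', ?_, h2⟩
  have hc : ∀ A : Matrix.GeneralLinearGroup (Fin n) F, Matrix.GeneralLinearGroup.scalar (Fin n) c * A =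
      A * Matrix.GeneralLinearGroup.scalar (Fin n) c := fun A => Matrix.GeneralLinearGroup.scalar_commute c A
  have e : B * Matrix.GeneralLinearGroup.scalar (Fin n) c * ι s = B * ι s * Matrix.GeneralLinearGroup.scalar (Fin n) c := by
    rw [mul_assoc, hc, mul_assoc]
  rw [h1, e]
  group

/-- A matrix commuting with the matrices of `S` is scalar. -/
theorem scalar_of_comm {ι : S →* Matrix.GeneralLinearGroup (Fin n) F}
    (hspan : Submodule.span F (Set.range (_root_.Cfsg.Agent.H607.TW.mt ι)) = ⊤) {H : Matrix (Fin n) (Fin n) F}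
    (h : ∀ s, H * _root_.Cfsg.Agent.H607.TW.mt ι s = _root_.Cfsg.Agent.H607.TW.mt ι s * H) : ∃ c : F, H = c • (1 : Matrix (Fin n) (Fin n) F) := by
  have h1 : ∀ x : Matrix (Fin n) (Fin n) F, H * x = x * H := by
    intro x
    have hx : x ∈ Submodule.span F (Set.range (_root_.Cfsg.Agent.H607.TW.mt ι)) := by rw [hspan]; trivial
    induction hx using Submodule.span_induction with
    | mem x hx => obtain ⟨s, rfl⟩ := hx; exact h s
    | zero => simp
    | add x y _ _ hx hy => rw [mul_add, add_mul, hx, hy]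
    | smul c x _ hx => rw [mul_smul_comm, smul_mul_assoc, hx]
  have h2 : H ∈ Set.range (Matrix.scalar (Fin n)) := by
    rw [Matrix.mem_range_scalar_iff_commute_single]
    intro i j _
    exact (h1 _).symm
  obtain ⟨c, hc⟩ := h2
  refine ⟨c, ?_⟩
  rw [← hc, Matrix.scalar_apply, Matrix.smul_one_eq_diagonal]

/-- Elements of `ker π` are central. -/
theorem central_of_ker {N : Subgroup G} {ι : S →* Matrix.GeneralLinearGroup (Fin n) F} {π : S →* G}
    (hM : Model N ι π) {z : S} (hz : π z = 1) (u : S) : z * u = u * z := by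
  obtain ⟨c, hc⟩ := (hM.ker z).1 hz
  apply mt_inj hM.inj
  rw [mt_mul, mt_mul, hc, mul_smul_comm, smul_mul_assoc, mul_one, one_mul]

/-- Two lifts of the same element differ by a scalar. -/
theorem scalar_of_ind {N : Subgroup G} {ι : S →* Matrix.GeneralLinearGroup (Fin n) F} {π : S →* G}
    (hM : Model N ι π) {g : G}
    {B C : Matrix.GeneralLinearGroup (Fin n) F} (h1 : Ind ι π g (tauP B 1)) (h2 : Ind ι π g (tauP C 1)) :
    ∃ c : Fˣ, B = C * Matrix.GeneralLinearGroup.scalar (Fin n) c := by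
  have hn := hM.two
  rw [ind_one hn] at h1 h2
  have hcomm : ∀ s, B * ι s * B⁻¹ = C * ι s * C⁻¹ := by
    let f1 : S →* Matrix.GeneralLinearGroup (Fin n) F := (MulAut.conj B).toMonoidHom.comp ι
    let f2 : S →* Matrix.GeneralLinearGroup (Fin n) F := (MulAut.conj C).toMonoidHom.comp ι
    have hle : commutator S ≤ MonoidHom.eqLocus f1 f2 := by
      rw [commutator_def, Subgroup.commutator_le]
      intro s _ t _
      change f1 ⁅s, t⁆ = f2 ⁅s, t⁆
      obtain ⟨s1, a1, b1⟩ := h1 s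
      obtain ⟨s2, a2, b2⟩ := h2 s
      obtain ⟨t1, c1, d1⟩ := h1 t
      obtain ⟨t2, c2, d2⟩ := h2 t
      have hz : ∀ u, (s2⁻¹ * s1) * u = u * (s2⁻¹ * s1) :=
        central_of_ker hM (by rw [map_mul, map_inv, b1, b2, inv_mul_cancel])
      have hw : ∀ u, (t2⁻¹ * t1) * u = u * (t2⁻¹ * t1) :=
        central_of_ker hM (by rw [map_mul, map_inv, d1, d2, inv_mul_cancel])
      have hs : s1 = s2 * (s2⁻¹ * s1) := by group
      have ht : t1 = t2 * (t2⁻¹ * t1) := by group
      have e1 : f1 ⁅s, t⁆ = ι ⁅s1, t1⁆ := by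
        rw [map_commutatorElement, map_commutatorElement, a1, c1]
        rfl
      have e2 : f2 ⁅s, t⁆ = ι ⁅s2, t2⁆ := by
        rw [map_commutatorElement, map_commutatorElement, a2, c2]
        rfl
      rw [e1, e2]
      congr 1
      rw [hs, ht]
      generalize s2⁻¹ * s1 = z at hz
      generalize t2⁻¹ * t1 = w at hw
      rw [commutatorElement_def, commutatorElement_def]
      calc s2 * z * (t2 * w) * (s2 * z)⁻¹ * (t2 * w)⁻¹ = s2 * (z * (t2 * w)) * z⁻¹ * s2⁻¹ * (t2 * w)⁻¹ := by group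
        _ = s2 * t2 * (w * s2⁻¹) * w⁻¹ * t2⁻¹ := by rw [hz]; group
        _ = s2 * t2 * s2⁻¹ * t2⁻¹ := by rw [hw]; group
    rw [hM.perfect] at hle
    intro s
    exact hle (Subgroup.mem_top s)
  obtain ⟨c, hc⟩ : ∃ c : F, ((C⁻¹ * B : Matrix.GeneralLinearGroup (Fin n) F) : Matrix (Fin n) (Fin n) F) =
      c • (1 : Matrix (Fin n) (Fin n) F) := by
    apply scalar_of_comm hM.span
    intro s
    have e : (C⁻¹ * B) * ι s = ι s * (C⁻¹ * B) := by
      calc (C⁻¹ * B) * ι s = C⁻¹ * (B * ι s * B⁻¹) * B := by group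
        _ = C⁻¹ * (C * ι s * C⁻¹) * B := by rw [hcomm]
        _ = ι s * (C⁻¹ * B) := by group
    exact congrArg Units.val e
  have i0 : Fin n := ⟨0, by omega⟩
  have hc0 : c ≠ 0 := by
    rintro rfl
    rw [zero_smul] at hc
    have h3 := GL_mul_inv (C⁻¹ * B)
    rw [hc, zero_mul] at h3
    have h4 := congrFun (congrFun h3 i0) i0
    rw [Matrix.zero_apply, Matrix.one_apply_eq] at h4
    exact zero_ne_one h4
  refine ⟨Units.mk0 c hc0, ?_⟩
  have h5 : C⁻¹ * B = Matrix.GeneralLinearGroup.scalar (Fin n) (Units.mk0 c hc0) := by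
    apply Units.ext
    rw [hc]
    ext i j
    simp [Matrix.GeneralLinearGroup.scalar, Matrix.diagonal_apply, Matrix.one_apply]
  rw [← h5, mul_inv_cancel_left]

theorem det_scalar (c : Fˣ) :
    Matrix.GeneralLinearGroup.det (Matrix.GeneralLinearGroup.scalar (Fin n) c) = c ^ n := by
  apply Units.ext
  simp only [Matrix.GeneralLinearGroup.scalar, _root_.RingHom.toMonoidHom_eq_coe, _root_.Matrix.GeneralLinearGroup.val_det_apply, _root_.Units.coe_map, _root_.MonoidHom.coe_coe, _root_.Matrix.scalar_apply, _root_.Matrix.det_diagonal, _root_.Finset.prod_const, _root_.Finset.card_univ, _root_.Fintype.card_fin, _root_.Units.val_pow_eq_pow_val]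

/-- `X ∩ N = 1`, all elements of `X` have lifts `x ↦ B x B⁻¹` with `B ∈ Q`: then `X` is cyclic. -/
theorem cyc_aux [Finite F] {N : Subgroup G} {ι : S →* Matrix.GeneralLinearGroup (Fin n) F} {π : S →* G}
    (hc : centralizer (N : Set G) = ⊥) (hM : Model N ι π) (Q : Subgroup (Matrix.GeneralLinearGroup (Fin n) F))
    (hQ : ∀ B ∈ Q, (Matrix.GeneralLinearGroup.det B) = 1 → ∃ s, ι s = B)
    {X : Subgroup G} (hX : X ⊓ N = ⊥) (h : ∀ x ∈ X, ∃ B ∈ Q, Ind ι π x (tauP B 1)) : IsCyclic X := by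
  classical
  have hn := hM.two
  choose B hBQ hB using fun x : X => h x.1 x.2
  -- the `n`-th powers of the scalars of `Q`
  let P : Subgroup Fˣ := (Q.comap (Matrix.GeneralLinearGroup.scalar (Fin n))).map (powMonoidHom n)
  let f : X →* Fˣ ⧸ P := MonoidHom.mk' (fun x => (Matrix.GeneralLinearGroup.det (B x) : Fˣ ⧸ P)) (by
    intro x y
    obtain ⟨c, hcc⟩ := scalar_of_ind hM (ind_mul_one hn (hB x) (hB y)) (hB (x * y))
    have hcQ : Matrix.GeneralLinearGroup.scalar (Fin n) c ∈ Q := by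
      have e : Matrix.GeneralLinearGroup.scalar (Fin n) c = (B (x * y))⁻¹ * (B x * B y) := by
        rw [hcc, inv_mul_cancel_left]
      rw [e]
      exact Q.mul_mem (Q.inv_mem (hBQ _)) (Q.mul_mem (hBQ _) (hBQ _))
    have e1 := congrArg Matrix.GeneralLinearGroup.det hcc
    rw [map_mul, map_mul, det_scalar] at e1
    rw [← QuotientGroup.mk_mul, e1]
    rw [QuotientGroup.eq]
    refine ⟨c, hcQ, ?_⟩
    simp)
  have hf : Function.Injective f := by
    rw [injective_iff_map_eq_one]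
    intro x hx
    have hx1 : (Matrix.GeneralLinearGroup.det (B x) : Fˣ ⧸ P) = 1 := hx
    rw [QuotientGroup.eq_one_iff] at hx1
    obtain ⟨c, hcQ, hcn⟩ := hx1
    have hcn' : c ^ n = Matrix.GeneralLinearGroup.det (B x) := hcn
    have e1 : Matrix.GeneralLinearGroup.det (B x * Matrix.GeneralLinearGroup.scalar (Fin n) c⁻¹) = 1 := by
      rw [map_mul, det_scalar, ← hcn', inv_pow, mul_inv_cancel]
    have hcQ' : Matrix.GeneralLinearGroup.scalar (Fin n) c⁻¹ ∈ Q := by
      rw [map_inv]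
      exact Q.inv_mem hcQ
    obtain ⟨s, hs⟩ := hQ _ (Q.mul_mem (hBQ x) hcQ') e1
    have e2 := ind_scalar hn c⁻¹ (hB x)
    rw [← hs] at e2
    have e3 := eq_of_ind hc hM.inj hM.range hn e2 (ind_self hn ι π s)
    have e4 : (x : G) ∈ X ⊓ N := ⟨x.2, by rw [← hM.range]; exact ⟨s, e3.symm⟩⟩
    rw [hX, Subgroup.mem_bot] at e4
    exact Subtype.ext e4
  have h1 : IsCyclic (Fˣ ⧸ P) := isCyclic_of_surjective (QuotientGroup.mk' P) (QuotientGroup.mk'_surjective P)
  exact isCyclic_of_injective f hf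

theorem cyc_sl [Finite F] {N : Subgroup G} {π : Matrix.SpecialLinearGroup (Fin n) F →* G} (_hN : N.Normal)
    (hc : centralizer (N : Set G) = ⊥) (hM : Model N (iSL n F) π) (X : Subgroup G) (hX : X ⊓ N = ⊥)
    (h : ∀ x ∈ X, ∃ B, Ind (iSL n F) π x (tauP B 1)) : IsCyclic X := by
  refine cyc_aux hc hM ⊤ ?_ hX (fun x hx => ?_)
  · intro B _ hB
    have hB' : (B : Matrix (Fin n) (Fin n) F).det = 1 := congrArg Units.val hB
    exact ⟨⟨B, hB'⟩, Units.ext rfl⟩
  · obtain ⟨B, hB⟩ := h x hx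
    exact ⟨B, trivial, hB⟩

end Basic

section Unitary

variable {G : Type u} [Group G] {F : Type} [Field F] [Fintype F] {n q : ℕ}

theorem cyc_su {q : ℕ} (hF : Fintype.card F = q ^ 2) {N : Subgroup G} {π : ↥(Cfsg.SU n F q) →* G} (_hN : N.Normal)
    (hc : centralizer (N : Set G) = ⊥) (hn : 3 ≤ n) (hM : Model N (iSU n F q) π) (X : Subgroup G) (hX : X ⊓ N = ⊥)
    (h : ∀ x ∈ X, ∃ B, Ind (iSU n F q) π x (tauP B 1)) : IsCyclic X := by
  refine cyc_aux hc hM (Cfsg.GU n F q) ?_ hX (fun x hx => ?_)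
  · intro B hBU hB
    have hB' : (B : Matrix (Fin n) (Fin n) F).det = 1 := congrArg Units.val hB
    obtain ⟨s, hs⟩ := H918.exists_suHom (q := q) (g := B) (H918.mem_SUg.2 ⟨hBU, hB'⟩)
    exact ⟨s, hs⟩
  · obtain ⟨B, hB⟩ := h x hx
    obtain ⟨B', hB1, hB2⟩ := scale_su hF (by omega) hM hB
    exact ⟨B', hB1, by rw [hB2]; exact hB⟩

end Unitary

end Cfsg.Agent.H296.TW
end

-- part: H607/TW/Alg
section
/-!
# S3694: calculus of lifts and invariant subalgebras (helper607)

* `Ind.comp`, `Ind.symm'`, `ind_self'`, `Ind.smul'`;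
* `inv_adjoin`, `inv_centralizer`;
* `comm_lift` : the commutator of two elements of `G` has a lift `tauP B 1`;
* `frame_of_idem` : the frame of an invariant commutative subalgebra with nontrivial idempotents.
-/

set_option autoImplicit false

namespace Cfsg.Agent.H607.TW

open Subgroup Cfsg

universe u

variable {G : Type u} [Group G] {N A X : Subgroup G} {r : ℕ} {F : Type} [Field F] {n : ℕ} {S : Type} [Group S]
  {ι : S →* Matrix.GeneralLinearGroup (Fin n) F} {π : S →* G}

open Cfsg.Agent.H296.TW (mt_mul mt_one mt_mul_inv mt_inv_mul not_comm)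

theorem Model.mt_inj (hM : Model N ι π) {s t : S} (h : mt ι s = mt ι t) : s = t := H296.TW.mt_inj hM.inj h

theorem Model.finite_S [Finite F] (hM : Model N ι π) : Finite S := Finite.of_injective ι hM.inj

theorem Model.pos (hM : Model N ι π) : 0 < n := lt_of_lt_of_le two_pos hM.two

theorem Model.mem (hM : Model N ι π) (s : S) : π s ∈ N := by
  rw [← hM.range]
  exact ⟨s, rfl⟩

theorem Model.exists_pre (hM : Model N ι π) {x : G} (hx : x ∈ N) : ∃ s, π s = x := by
  rw [← hM.range] at hx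
  exact hx

/-- `π s = π t` iff `mt s` is a scalar multiple of `mt t`. -/
theorem Model.smul_of_eq (hM : Model N ι π) {s t : S} (h : π s = π t) : ∃ c : F, mt ι s = c • mt ι t := by
  have h1 : π (s * t⁻¹) = 1 := by rw [map_mul, map_inv, h, mul_inv_cancel]
  obtain ⟨c, hc⟩ := (hM.ker _).1 h1
  refine ⟨c, ?_⟩
  have h2 : s = (s * t⁻¹) * t := by group
  rw [h2, mt_mul, hc, smul_mul_assoc, one_mul]

/-! ### Composition and inverse of lifts -/

theorem Ind.comp {g k : G} {τ ρ : Matrix (Fin n) (Fin n) F ≃+ Matrix (Fin n) (Fin n) F}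
    (h1 : Ind ι π g τ) (h2 : Ind ι π k ρ) : Ind ι π (g * k) (ρ.trans τ) := by
  rcases h1 with ⟨m1, h1⟩ | ⟨m1, h1⟩ <;> rcases h2 with ⟨m2, h2⟩ | ⟨m2, h2⟩
  · refine Or.inl ⟨fun x y => by simp only [AddEquiv.trans_apply, m2, m1], fun s => ?_⟩
    obtain ⟨s1, e1, f1⟩ := h2 s
    obtain ⟨s2, e2, f2⟩ := h1 s1
    refine ⟨s2, by rw [e2, e1]; rfl, ?_⟩
    rw [f2, f1]; group
  · refine Or.inr ⟨fun x y => by simp only [AddEquiv.trans_apply, m2, m1], fun s => ?_⟩
    obtain ⟨s1, e1, f1⟩ := h2 s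
    obtain ⟨s2, e2, f2⟩ := h1 s1
    refine ⟨s2, by rw [e2, e1]; rfl, ?_⟩
    rw [f2]
    calc (g * π s1 * g⁻¹)⁻¹ = g * (π s1)⁻¹ * g⁻¹ := by group
      _ = g * k * π s * (g * k)⁻¹ := by rw [f1]; group
  · refine Or.inr ⟨fun x y => by simp only [AddEquiv.trans_apply, m2, m1], fun s => ?_⟩
    obtain ⟨s1, e1, f1⟩ := h2 s
    obtain ⟨s2, e2, f2⟩ := h1 s1
    refine ⟨s2, by rw [e2, e1]; rfl, ?_⟩
    rw [f2, f1]; group
  · refine Or.inl ⟨fun x y => by simp only [AddEquiv.trans_apply, m2, m1], fun s => ?_⟩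
    obtain ⟨s1, e1, f1⟩ := h2 s
    obtain ⟨s2, e2, f2⟩ := h1 s1
    refine ⟨s2, by rw [e2, e1]; rfl, ?_⟩
    have h3 : π s2 = (g * π s1 * g⁻¹)⁻¹ := by rw [← f2, inv_inv]
    rw [h3]
    calc (g * π s1 * g⁻¹)⁻¹ = g * (π s1)⁻¹ * g⁻¹ := by group
      _ = g * k * π s * (g * k)⁻¹ := by rw [f1]; group

/-- the map `s ↦ s'` is surjective -/
theorem Ind.surj [Finite F] (hM : Model N ι π) {τ : Matrix (Fin n) (Fin n) F ≃+ Matrix (Fin n) (Fin n) F} {P : S → S → Prop}
    (h : ∀ s : S, ∃ s' : S, mt ι s' = τ (mt ι s) ∧ P s s') (s' : S) : ∃ s : S, mt ι s' = τ (mt ι s) ∧ P s s' := by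
  have := hM.finite_S
  choose f hf using h
  have hinj : Function.Injective f := by
    intro s t hst
    apply hM.mt_inj
    apply τ.injective
    rw [← (hf s).1, ← (hf t).1, hst]
  obtain ⟨s, rfl⟩ := Finite.surjective_of_injective hinj s'
  exact ⟨s, hf s⟩

theorem Ind.symm' [Finite F] (hM : Model N ι π) {g : G} {τ : Matrix (Fin n) (Fin n) F ≃+ Matrix (Fin n) (Fin n) F}
    (h : Ind ι π g τ) : Ind ι π g⁻¹ τ.symm := by
  rcases h with ⟨m, h⟩ | ⟨m, h⟩
  · refine Or.inl ⟨fun x y => ?_, fun s => ?_⟩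
    · apply τ.injective
      rw [m, AddEquiv.apply_symm_apply, AddEquiv.apply_symm_apply, AddEquiv.apply_symm_apply]
    · obtain ⟨t, ht, ht'⟩ := Ind.surj hM (P := fun s s' => π s' = g * π s * g⁻¹) h s
      refine ⟨t, by rw [ht, AddEquiv.symm_apply_apply], ?_⟩
      rw [ht']; group
  · refine Or.inr ⟨fun x y => ?_, fun s => ?_⟩
    · apply τ.injective
      rw [m, AddEquiv.apply_symm_apply, AddEquiv.apply_symm_apply, AddEquiv.apply_symm_apply]
    · obtain ⟨t, ht, ht'⟩ := Ind.surj hM (P := fun s s' => (π s')⁻¹ = g * π s * g⁻¹) h s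
      refine ⟨t, by rw [ht, AddEquiv.symm_apply_apply], ?_⟩
      have h3 : π s = (g * π t * g⁻¹)⁻¹ := by rw [← ht', inv_inv]
      rw [h3]; group

/-- a lift is semilinear -/
theorem Ind.smul' {g : G} {τ : Matrix (Fin n) (Fin n) F ≃+ Matrix (Fin n) (Fin n) F} (h : Ind ι π g τ) (c : F) :
    ∃ c' : F, ∀ x, τ (c • x) = c' • τ x := by
  have h1 : ∀ y, τ (c • (1 : Matrix (Fin n) (Fin n) F)) * y = y * τ (c • (1 : Matrix (Fin n) (Fin n) F)) := by
    intro y
    obtain ⟨x, rfl⟩ := τ.surjective y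
    rcases h with ⟨m, -⟩ | ⟨m, -⟩ <;>
      rw [← m, ← m, smul_mul_assoc, mul_smul_comm, one_mul, mul_one]
  have h2 : τ (c • (1 : Matrix (Fin n) (Fin n) F)) ∈ Set.range (Matrix.scalar (Fin n)) := by
    rw [Matrix.mem_range_scalar_iff_commute_single]
    intro i j _
    exact (h1 _).symm
  obtain ⟨c', hc'⟩ := h2
  rw [Matrix.scalar_apply, ← Matrix.smul_one_eq_diagonal] at hc'
  refine ⟨c', fun x => ?_⟩
  have h3 : τ (c • x) = τ (c • (1 : Matrix (Fin n) (Fin n) F)) * τ x := by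
    rcases h with ⟨m, -⟩ | ⟨m, -⟩
    · rw [← m, smul_mul_assoc, one_mul]
    · rw [← m, mul_smul_comm, mul_one]
  rw [h3, ← hc', smul_mul_assoc, one_mul]

theorem Ind.one' {g : G} {τ : Matrix (Fin n) (Fin n) F ≃+ Matrix (Fin n) (Fin n) F} (h : Ind ι π g τ) :
    τ (1 : Matrix (Fin n) (Fin n) F) = 1 := by
  have h1 : ∀ y, τ (1 : Matrix (Fin n) (Fin n) F) * y = y := by
    intro y
    obtain ⟨x, rfl⟩ := τ.surjective y
    rcases h with ⟨m, -⟩ | ⟨m, -⟩
    · rw [← m, one_mul]
    · rw [← m, mul_one]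
  simpa only [_root_.mul_one] using h1 1

/-- conjugation by the matrix of `s` -/
theorem ind_self' (hM : Model N ι π) (s : S) : Ind ι π (π s) (tauP (ι s) 1) := H296.TW.ind_self hM.two ι π s

/-! ### Invariant subalgebras -/

theorem Inv.adjoin (hX : A ≤ normalizer (X : Set G)) :
    Inv ι π A (Algebra.adjoin F (mt ι '' {s | π s ∈ X})) := by
  intro a ha τ hτ x hx
  induction hx using Algebra.adjoin_induction with
  | mem x hx =>
    obtain ⟨s, hs, rfl⟩ := hx
    rcases hτ with ⟨-, h⟩ | ⟨-, h⟩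
    · obtain ⟨s', h1, h2⟩ := h s
      rw [← h1]
      apply Algebra.subset_adjoin
      refine ⟨s', ?_, rfl⟩
      rw [Set.mem_ofPred_eq, h2]
      exact conj_mem_of_norm hX ha hs
    · obtain ⟨s', h1, h2⟩ := h s
      rw [← h1]
      apply Algebra.subset_adjoin
      refine ⟨s', ?_, rfl⟩
      rw [Set.mem_ofPred_eq, ← inv_mem_iff, h2]
      exact conj_mem_of_norm hX ha hs
  | algebraMap c =>
    obtain ⟨c', hc'⟩ := hτ.smul' c
    rw [Algebra.algebraMap_eq_smul_one, hc', hτ.one', ← Algebra.algebraMap_eq_smul_one]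
    exact Subalgebra.algebraMap_mem _ _
  | add x y _ _ hx hy => rw [map_add]; exact add_mem hx hy
  | mul x y _ _ hx hy =>
    rcases hτ with ⟨m, -⟩ | ⟨m, -⟩
    · rw [m]; exact mul_mem hx hy
    · rw [m]; exact mul_mem hy hx

theorem Inv.surj [Finite F] {E : Subalgebra F (Matrix (Fin n) (Fin n) F)} (hE : Inv ι π A E) {a : G} (ha : a ∈ A)
    {τ : Matrix (Fin n) (Fin n) F ≃+ Matrix (Fin n) (Fin n) F} (hτ : Ind ι π a τ) {y : Matrix (Fin n) (Fin n) F} (hy : y ∈ E) :
    ∃ x ∈ E, τ x = y := by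
  let f : ↥E → ↥E := fun x => ⟨τ x, hE a ha τ hτ x x.2⟩
  have hinj : Function.Injective f := by
    intro x x' h
    apply Subtype.ext
    exact τ.injective (congrArg Subtype.val h)
  obtain ⟨x, hx⟩ := Finite.surjective_of_injective hinj ⟨y, hy⟩
  exact ⟨x, x.2, congrArg Subtype.val hx⟩

theorem Inv.centralizer [Finite F] {E : Subalgebra F (Matrix (Fin n) (Fin n) F)} (hE : Inv ι π A E) :
    Inv ι π A (Subalgebra.centralizer F (E : Set (Matrix (Fin n) (Fin n) F))) := by
  intro a ha τ hτ y hy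
  rw [Subalgebra.mem_centralizer_iff] at hy ⊢
  intro x hx
  obtain ⟨x', hx', rfl⟩ := hE.surj ha hτ hx
  have h1 := hy x' hx'
  rcases hτ with ⟨m, -⟩ | ⟨m, -⟩
  · rw [← m, ← m, h1]
  · rw [← m, ← m, h1]

/-- a matrix commuting with `S` is scalar -/
theorem Model.scalar_of_comm (hM : Model N ι π) {x : Matrix (Fin n) (Fin n) F} (h : ∀ s, x * mt ι s = mt ι s * x) :
    ∃ c : F, x = c • (1 : Matrix (Fin n) (Fin n) F) := H296.TW.scalar_of_comm hM.span h

/-! ### Lifts of conjugates and commutators -/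

theorem ring_comm [Finite F] (σ ρ : F ≃+* F) : σ * ρ = ρ * σ := Lib.AutSL2Out.ringEquiv_comm σ ρ

/-- multiplicative (`b = true`) or antimultiplicative -/
def Par (b : Bool) (τ : Matrix (Fin n) (Fin n) F ≃+ Matrix (Fin n) (Fin n) F) : Prop :=
  ∀ x y, τ (x * y) = if b then τ x * τ y else τ y * τ x

def Semi (σ : F ≃+* F) (τ : Matrix (Fin n) (Fin n) F ≃+ Matrix (Fin n) (Fin n) F) : Prop :=
  ∀ (c : F) (x : Matrix (Fin n) (Fin n) F), τ (c • x) = σ c • τ x

theorem Par.comp {b b' : Bool} {τ ρ : Matrix (Fin n) (Fin n) F ≃+ Matrix (Fin n) (Fin n) F} (h1 : Par b τ) (h2 : Par b' ρ) :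
    Par (b == b') (ρ.trans τ) := by
  intro x y
  simp only [AddEquiv.trans_apply]
  cases b <;> cases b' <;> simp [h1 _ _, h2 _ _]

theorem Par.symm' {b : Bool} {τ : Matrix (Fin n) (Fin n) F ≃+ Matrix (Fin n) (Fin n) F} (h1 : Par b τ) :
    Par b τ.symm := by
  intro x y
  apply τ.injective
  cases b <;> simp only [h1 _ _, _root_.AddEquiv.apply_symm_apply, _root_.Bool.false_eq_true, ↓ _root_.reduceIte]

theorem Semi.comp {σ σ' : F ≃+* F} {τ ρ : Matrix (Fin n) (Fin n) F ≃+ Matrix (Fin n) (Fin n) F} (h1 : Semi σ τ) (h2 : Semi σ' ρ) :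
    Semi (σ * σ') (ρ.trans τ) := by
  intro c x
  simp only [AddEquiv.trans_apply]
  rw [h2, h1]
  rfl

theorem Semi.symm' {σ : F ≃+* F} {τ : Matrix (Fin n) (Fin n) F ≃+ Matrix (Fin n) (Fin n) F} (h1 : Semi σ τ) :
    Semi σ⁻¹ τ.symm := by
  intro c x
  apply τ.injective
  rw [h1, AddEquiv.apply_symm_apply, AddEquiv.apply_symm_apply]
  congr 1
  exact (RingEquiv.apply_symm_apply σ c).symm

theorem tauP_par (B : Matrix.GeneralLinearGroup (Fin n) F) (σ : F ≃+* F) : Par true (tauP B σ) := by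
  intro x y
  simp [H296.TW.tauP_mul]

theorem tauM_par (B : Matrix.GeneralLinearGroup (Fin n) F) (σ : F ≃+* F) : Par false (tauM B σ) := by
  intro x y
  simp [H296.TW.tauM_mul]

theorem tauP_semi (B : Matrix.GeneralLinearGroup (Fin n) F) (σ : F ≃+* F) : Semi σ (tauP B σ) := by
  intro c x
  rw [tauP_apply, tauP_apply]
  have h : (c • x).map σ = σ c • x.map σ := by
    ext i j; simp
  rw [h, mul_smul_comm, smul_mul_assoc]

theorem tauM_semi (B : Matrix.GeneralLinearGroup (Fin n) F) (σ : F ≃+* F) : Semi σ (tauM B σ) := by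
  intro c x
  exact tauP_semi B σ c x.transpose

/-- Skolem-Noether -/
theorem eq_tauP_one {τ : Matrix (Fin n) (Fin n) F ≃+ Matrix (Fin n) (Fin n) F} (h1 : Par true τ) (h2 : Semi 1 τ) :
    ∃ B : Matrix.GeneralLinearGroup (Fin n) F, τ = tauP B 1 := by
  have hone : τ 1 = 1 := by
    have h3 : ∀ y, τ 1 * y = y := by
      intro y
      obtain ⟨x, rfl⟩ := τ.surjective y
      have := h1 1 x
      simpa only [↓ _root_.reduceIte, _root_.one_mul] using this.symm
    simpa only [_root_.mul_one] using h3 1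
  let f : Matrix (Fin n) (Fin n) F ≃ₐ[F] Matrix (Fin n) (Fin n) F := AlgEquiv.ofRingEquiv
    (f := { τ with map_mul' := fun x y => by simpa only [_root_.AddEquiv.toEquiv_eq_coe, _root_.Equiv.toFun_as_coe, _root_.EquivLike.coe_coe, ↓ _root_.reduceIte] using h1 x y })
    (fun c => by
      rw [Algebra.algebraMap_eq_smul_one]
      exact (h2 c 1).trans (by rw [hone]; rfl))
  have hf : ∀ x, f x = τ x := fun x => rfl
  let e : Matrix (Fin n) (Fin n) F ≃ₐ[F] Module.End F (Fin n → F) := Matrix.toLinAlgEquiv'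
  obtain ⟨T, hT⟩ := AlgEquiv.eq_linearEquivConjAlgEquiv ((e.symm.trans f).trans e)
  let B : Matrix.GeneralLinearGroup (Fin n) F :=
    ⟨e.symm T.toLinearMap, e.symm T.symm.toLinearMap, by
      rw [← map_mul]
      have : (T.toLinearMap * T.symm.toLinearMap : Module.End F (Fin n → F)) = 1 := by
        ext x; simp only [_root_.LinearMap.coe_comp, _root_.LinearMap.coe_single, _root_.Function.comp_apply, _root_.Module.End.mul_apply, _root_.LinearEquiv.coe_coe, _root_.LinearEquiv.apply_symm_apply, _root_.Module.End.one_apply]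
      rw [this, map_one], by
      rw [← map_mul]
      have : (T.symm.toLinearMap * T.toLinearMap : Module.End F (Fin n → F)) = 1 := by
        ext x; simp only [_root_.LinearMap.coe_comp, _root_.LinearMap.coe_single, _root_.Function.comp_apply, _root_.Module.End.mul_apply, _root_.LinearEquiv.coe_coe, _root_.LinearEquiv.symm_apply_apply, _root_.Module.End.one_apply]
      rw [this, map_one]⟩
  refine ⟨B, ?_⟩
  ext1 x
  rw [H296.TW.tauP_one_eq]
  have h3 : e (τ x) = T.conjAlgEquiv F (e x) := by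
    rw [← hT]
    simp only [AlgEquiv.trans_apply, AlgEquiv.symm_apply_apply]
    rw [hf]
  apply e.injective
  rw [h3]
  have hB1 : e (B : Matrix (Fin n) (Fin n) F) = T.toLinearMap := e.apply_symm_apply _
  have hB2 : e ((B⁻¹ : Matrix.GeneralLinearGroup (Fin n) F) : Matrix (Fin n) (Fin n) F) = T.symm.toLinearMap :=
    e.apply_symm_apply _
  rw [map_mul, map_mul, hB1, hB2]
  ext v
  simp only [LinearEquiv.conjAlgEquiv_apply, _root_.LinearMap.coe_comp, _root_.LinearEquiv.coe_coe, _root_.LinearMap.coe_single, _root_.Function.comp_apply, _root_.Module.End.mul_apply]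

theorem Model.exists_lift' (hM : Model N ι π) (g : G) :
    ∃ (b : Bool) (σ : F ≃+* F) (τ : Matrix (Fin n) (Fin n) F ≃+ Matrix (Fin n) (Fin n) F), Par b τ ∧ Semi σ τ ∧ Ind ι π g τ := by
  obtain ⟨B, σ, h | h⟩ := hM.lift g
  · exact ⟨true, σ, _, tauP_par B σ, tauP_semi B σ, h⟩
  · exact ⟨false, σ, _, tauM_par B σ, tauM_semi B σ, h⟩

/-- the commutator of two elements has a lift of the form `x ↦ B x B⁻¹` -/
theorem Model.comm_lift [Finite F] (hM : Model N ι π) (x a : G) : ∃ B, Ind ι π (a * x * a⁻¹ * x⁻¹) (tauP B 1) := by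
  obtain ⟨b, σ, τ, p1, s1, i1⟩ := hM.exists_lift' x
  obtain ⟨b', ρ, τ', p2, s2, i2⟩ := hM.exists_lift' a
  have i3 := ((i2.comp i1).comp (i2.symm' hM)).comp (i1.symm' hM)
  have p3 := ((p2.comp p1).comp p2.symm').comp p1.symm'
  have s3 := ((s2.comp s1).comp s2.symm').comp s1.symm'
  have hb : ((((b' == b) == b') == b) : Bool) = true := by cases b <;> cases b' <;> rfl
  rw [hb] at p3
  have hs : ρ * σ * ρ⁻¹ * σ⁻¹ = 1 := by
    rw [ring_comm ρ σ]
    group
  rw [hs] at s3
  obtain ⟨B, hB⟩ := eq_tauP_one p3 s3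
  rw [hB] at i3
  exact ⟨B, i3⟩

end Cfsg.Agent.H607.TW
end

private theorem dce_2d4cb243fac2 : _root_.True := by
  try have : _root_.True := by simp only [_root_.Matrix.GeneralLinearGroup.scalar.eq_1]
  exact _root_.True.intro
end

-- part: H968/TW/T13
section
prune_inst 0x106004414002000000001000002020000004000004040004000200030900020500000101000012000000000004004000000000000000000a000000000500000000000080080100020008000000000000000000000000000000000000000000000000000
set_option linter.all false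
open scoped Cfsg.Agent.FastGrp

-- part: H502/TW/Twist
section
/-!
# S3694, T12b and T12c (helper502): subgroups of `GL_n(F)` with scalar commutators

`tw_card`: a transversal of the scalars in `K` is a basis of the span of `K`; `tw_diag`: an element acting diagonally on `K` is a
product of an element of `K` and an element centralizing `K`.
-/

set_option autoImplicit false

namespace Cfsg.Agent.H502.TW

open Cfsg.Agent.H607.TW Module

variable {F : Type} [Field F] {n : ℕ}

local notation "Mat" => Matrix (Fin n) (Fin n) F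
local notation "GLn" => Matrix.GeneralLinearGroup (Fin n) F

theorem gl_ne_zero (hn : 0 < n) (g : GLn) : (g : Mat) ≠ 0 := by
  haveI : Nonempty (Fin n) := ⟨⟨0, hn⟩⟩
  haveI : Nontrivial Mat := inferInstance
  exact g.isUnit.ne_zero

theorem smul_inj (hn : 0 < n) (g : GLn) {c d : F} (h : c • (g : Mat) = d • (g : Mat)) : c = d :=
  smul_left_injective F (gl_ne_zero hn g) h

theorem mul_val (g h : GLn) : ((g * h : GLn) : Mat) = (g : Mat) * (h : Mat) := rfl

/-- The scalar `c` with `k x = c x k`. -/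
noncomputable def chi {K : Subgroup GLn} (hK : Tw K) (x k : ↥K) : F := Classical.choose (hK.comm k k.2 x x.2)

theorem chi_spec {K : Subgroup GLn} (hK : Tw K) (x k : ↥K) :
    ((k : GLn) : Mat) * ((x : GLn) : Mat) = chi hK x k • (((x : GLn) : Mat) * ((k : GLn) : Mat)) :=
  Classical.choose_spec (hK.comm k k.2 x x.2)

theorem chi_unique (hn : 0 < n) {K : Subgroup GLn} (hK : Tw K) (x k : ↥K) {c : F}
    (h : ((k : GLn) : Mat) * ((x : GLn) : Mat) = c • (((x : GLn) : Mat) * ((k : GLn) : Mat))) : chi hK x k = c := by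
  have h1 := chi_spec hK x k
  rw [h] at h1
  exact (smul_inj hn ((x : GLn) * (k : GLn)) (by rw [mul_val]; exact h1)).symm

theorem chi_one (hn : 0 < n) {K : Subgroup GLn} (hK : Tw K) (x : ↥K) : chi hK x 1 = 1 := by
  apply chi_unique hn
  simp only [_root_.OneMemClass.coe_one, _root_.Units.val_one, _root_.one_mul, _root_.mul_one, _root_.one_smul]

theorem chi_mul (hn : 0 < n) {K : Subgroup GLn} (hK : Tw K) (x k l : ↥K) : chi hK x (k * l) = chi hK x k * chi hK x l := by
  apply chi_unique hn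
  have h1 := chi_spec hK x k
  have h2 := chi_spec hK x l
  have e : (((k * l : ↥K) : GLn) : Mat) = ((k : GLn) : Mat) * ((l : GLn) : Mat) := rfl
  rw [e, mul_assoc, h2, Matrix.mul_smul, ← mul_assoc, h1, Matrix.smul_mul, smul_smul, mul_comm (chi hK x l), mul_assoc]

/-- `k ↦ chi x k` as a homomorphism on `K` modulo its centre. -/
noncomputable def chr (hn : 0 < n) {K : Subgroup GLn} (hK : Tw K) (x : ↥K) : (↥K ⧸ Subgroup.center ↥K) →* F :=
  QuotientGroup.lift (Subgroup.center ↥K)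
    { toFun := fun k => chi hK x k
      map_one' := chi_one hn hK x
      map_mul' := chi_mul hn hK x }
    (by
      intro k hk
      rw [MonoidHom.mem_ker]
      change chi hK x k = 1
      apply chi_unique hn
      rw [Subgroup.mem_center_iff] at hk
      have h1 := congrArg (fun z : ↥K => ((z : GLn) : Mat)) (hk x)
      rw [one_smul]
      exact h1.symm)

theorem chr_mk (hn : 0 < n) {K : Subgroup GLn} (hK : Tw K) (x k : ↥K) :
    chr hn hK x (QuotientGroup.mk k) = chi hK x k := rfl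

/-- central elements of `K` are scalar. -/
theorem mem_center (hn : 0 < n) {K : Subgroup GLn} (hK : Tw K) (k : ↥K) :
    k ∈ Subgroup.center ↥K ↔ ∃ c : F, ((k : GLn) : Mat) = c • 1 := by
  constructor
  · intro hk
    rw [Subgroup.mem_center_iff] at hk
    apply hK.nondeg k k.2
    intro h hh
    exact (congrArg (fun z : ↥K => (z : GLn)) (hk ⟨h, hh⟩)).symm
  · rintro ⟨c, hc⟩
    rw [Subgroup.mem_center_iff]
    intro g
    apply Subtype.ext
    apply Units.ext
    change ((g : GLn) : Mat) * ((k : GLn) : Mat) = ((k : GLn) : Mat) * ((g : GLn) : Mat)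
    rw [hc]
    simp

theorem chr_inj (hn : 0 < n) {K : Subgroup GLn} (hK : Tw K) (x y : ↥K) (h : chr hn hK x = chr hn hK y) :
    (QuotientGroup.mk x : ↥K ⧸ Subgroup.center ↥K) = QuotientGroup.mk y := by
  rw [QuotientGroup.eq, Subgroup.mem_center_iff]
  intro k
  have h1 : chi hK x k = chi hK y k := by rw [← chr_mk hn, ← chr_mk hn, h]
  have hx := chi_spec hK x k
  have hy := chi_spec hK y k
  rw [← h1] at hy
  have hc : chi hK x k ≠ 0 := by
    intro h0
    rw [h0, zero_smul] at hx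
    exact gl_ne_zero hn ((k : GLn) * (x : GLn)) hx
  apply Subtype.ext
  apply Units.ext
  change ((k : GLn) : Mat) * ((((x : GLn)⁻¹ : GLn) : Mat) * ((y : GLn) : Mat)) =
    ((((x : GLn)⁻¹ : GLn) : Mat) * ((y : GLn) : Mat)) * ((k : GLn) : Mat)
  have hxi : (((x : GLn)⁻¹ : GLn) : Mat) * ((x : GLn) : Mat) = 1 := by
    rw [← mul_val, inv_mul_cancel]; rfl
  have hxi' : ((x : GLn) : Mat) * (((x : GLn)⁻¹ : GLn) : Mat) = 1 := by
    rw [← mul_val, mul_inv_cancel]; rfl
  -- `x⁻¹ k = c k x⁻¹`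
  have h2 : (((x : GLn)⁻¹ : GLn) : Mat) * ((k : GLn) : Mat) =
      chi hK x k • (((k : GLn) : Mat) * (((x : GLn)⁻¹ : GLn) : Mat)) := by
    calc (((x : GLn)⁻¹ : GLn) : Mat) * ((k : GLn) : Mat)
        = (((x : GLn)⁻¹ : GLn) : Mat) * (((k : GLn) : Mat) * ((x : GLn) : Mat)) * (((x : GLn)⁻¹ : GLn) : Mat) := by
          rw [mul_assoc, mul_assoc, hxi', mul_one]
      _ = chi hK x k • (((k : GLn) : Mat) * (((x : GLn)⁻¹ : GLn) : Mat)) := by
          rw [hx, Matrix.mul_smul, Matrix.smul_mul, ← mul_assoc, hxi, one_mul]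
  have h3 : chi hK x k • (((k : GLn) : Mat) * ((((x : GLn)⁻¹ : GLn) : Mat) * ((y : GLn) : Mat))) =
      chi hK x k • (((((x : GLn)⁻¹ : GLn) : Mat) * ((y : GLn) : Mat)) * ((k : GLn) : Mat)) := by
    calc chi hK x k • (((k : GLn) : Mat) * ((((x : GLn)⁻¹ : GLn) : Mat) * ((y : GLn) : Mat)))
        = (chi hK x k • (((k : GLn) : Mat) * (((x : GLn)⁻¹ : GLn) : Mat))) * ((y : GLn) : Mat) := by
          rw [Matrix.smul_mul, mul_assoc]
      _ = (((x : GLn)⁻¹ : GLn) : Mat) * (((k : GLn) : Mat) * ((y : GLn) : Mat)) := by rw [← h2, mul_assoc]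
      _ = _ := by rw [hy, Matrix.mul_smul, mul_assoc]
  exact smul_right_injective _ hc h3

/-- A transversal of the centre. -/
noncomputable def rep {K : Subgroup GLn} (q : ↥K ⧸ Subgroup.center ↥K) : ↥K := Quotient.out q

theorem mk_rep {K : Subgroup GLn} (q : ↥K ⧸ Subgroup.center ↥K) : (QuotientGroup.mk (rep q) : ↥K ⧸ Subgroup.center ↥K) = q :=
  Quotient.out_eq' q

theorem chr_rep_inj (hn : 0 < n) {K : Subgroup GLn} (hK : Tw K) :
    Function.Injective (fun q : ↥K ⧸ Subgroup.center ↥K => chr hn hK (rep q)) := by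
  intro q q' h
  have h1 := chr_inj hn hK _ _ h
  rw [mk_rep, mk_rep] at h1
  exact h1

/-- The transversal is linearly independent. -/
theorem linInd (hn : 0 < n) {K : Subgroup GLn} (hK : Tw K) :
    LinearIndependent F (fun q : ↥K ⧸ Subgroup.center ↥K => ((rep q : GLn) : Mat)) := by
  have hli := (linearIndependent_monoidHom (↥K ⧸ Subgroup.center ↥K) F).comp
    (fun q : ↥K ⧸ Subgroup.center ↥K => chr hn hK (rep q)) (chr_rep_inj hn hK)
  rw [linearIndependent_iff'] at hli ⊢
  intro s a ha q hq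
  obtain ⟨i, j, hij⟩ : ∃ i j, ((rep q : GLn) : Mat) i j ≠ 0 := by
    by_contra hcon
    push Not at hcon
    exact gl_ne_zero hn (rep q : GLn) (by ext i j; exact hcon i j)
  have h1 := hli s (fun q => a q * ((rep q : GLn) : Mat) i j) (by
    ext z
    induction z using QuotientGroup.induction_on with
    | H k =>
      rw [Finset.sum_apply]
      simp only [Function.comp, Pi.smul_apply, smul_eq_mul, Pi.zero_apply]
      -- conjugate the relation by `k`
      have h2 : ∑ q ∈ s, (a q * chi hK (rep q) k) • ((rep q : GLn) : Mat) = 0 := by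
        have h3 : ((k : GLn) : Mat) * (∑ q ∈ s, a q • ((rep q : GLn) : Mat)) = 0 := by rw [ha, mul_zero]
        rw [Finset.mul_sum] at h3
        have h4 : (∑ q ∈ s, (a q * chi hK (rep q) k) • ((rep q : GLn) : Mat)) * ((k : GLn) : Mat) = 0 := by
          rw [Finset.sum_mul, ← h3]
          refine Finset.sum_congr rfl fun q _ => ?_
          rw [Matrix.mul_smul, chi_spec hK (rep q) k, Matrix.smul_mul, smul_smul]
        have h5 : ((k : GLn) : Mat) * (((k : GLn)⁻¹ : GLn) : Mat) = 1 := by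
          rw [← mul_val, mul_inv_cancel]; rfl
        have h6 := congrArg (fun X : Mat => X * (((k : GLn)⁻¹ : GLn) : Mat)) h4
        simp only [zero_mul] at h6
        rwa [mul_assoc, h5, mul_one] at h6
      have h7 := congrFun (congrFun h2 i) j
      rw [Matrix.sum_apply] at h7
      simp only [Matrix.smul_apply, smul_eq_mul, Matrix.zero_apply] at h7
      rw [← h7]
      refine Finset.sum_congr rfl fun q _ => ?_
      rw [chr_mk]
      ring) q hq
  exact (mul_eq_zero.mp h1).resolve_right hij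

theorem span_eq (hn : 0 < n) {K : Subgroup GLn} (hK : Tw K) :
    Submodule.span F (Set.range fun q : ↥K ⧸ Subgroup.center ↥K => ((rep q : GLn) : Mat)) =
      Submodule.span F ((fun k : GLn => (k : Mat)) '' (K : Set GLn)) := by
  apply le_antisymm
  · rw [Submodule.span_le]
    rintro _ ⟨q, rfl⟩
    exact Submodule.subset_span ⟨_, (rep q).2, rfl⟩
  · rw [Submodule.span_le]
    rintro _ ⟨k, hk, rfl⟩
    have h1 : (QuotientGroup.mk (rep (QuotientGroup.mk ⟨k, hk⟩)) : ↥K ⧸ Subgroup.center ↥K) = QuotientGroup.mk ⟨k, hk⟩ :=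
      mk_rep _
    rw [QuotientGroup.eq, mem_center hn hK] at h1
    obtain ⟨c, hc⟩ := h1
    have h2 : (k : Mat) = c • ((rep (QuotientGroup.mk ⟨k, hk⟩ : ↥K ⧸ Subgroup.center ↥K) : GLn) : Mat) := by
      have h3 : (rep (QuotientGroup.mk ⟨k, hk⟩ : ↥K ⧸ Subgroup.center ↥K) : GLn) *
          (((rep (QuotientGroup.mk ⟨k, hk⟩ : ↥K ⧸ Subgroup.center ↥K))⁻¹ * ⟨k, hk⟩ : ↥K) : GLn) = k := by
        change _ * (_⁻¹ * _) = _
        rw [mul_inv_cancel_left]
      have h4 := congrArg (fun g : GLn => (g : Mat)) h3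
      simp only [mul_val] at h4
      rw [hc] at h4
      rw [← h4]
      simp
    simp only [SetLike.mem_coe]
    rw [h2]
    exact Submodule.smul_mem _ _ (Submodule.subset_span ⟨_, rfl⟩)

/-- T12b : `K` modulo scalars is a basis of the span of `K`. -/
theorem tw_card [Fintype F] (hn : 0 < n) {K : Subgroup (Matrix.GeneralLinearGroup (Fin n) F)} (hK : Tw K) (Z : Subgroup ↥K)
    (hZ : ∀ k : ↥K, k ∈ Z ↔ ∃ c : F, ((k : Matrix.GeneralLinearGroup (Fin n) F) : Matrix (Fin n) (Fin n) F) = c • 1) :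
    Z.index = Module.finrank F ↥(Submodule.span F ((fun k : Matrix.GeneralLinearGroup (Fin n) F =>
      (k : Matrix (Fin n) (Fin n) F)) '' (K : Set (Matrix.GeneralLinearGroup (Fin n) F)))) := by
  classical
  have hZc : Z = Subgroup.center ↥K := by
    ext k
    rw [hZ, mem_center hn hK]
  subst hZc
  haveI : Finite ↥K := inferInstance
  haveI : Fintype (↥K ⧸ Subgroup.center ↥K) := Fintype.ofFinite _
  rw [← span_eq hn hK, finrank_span_eq_card (linInd hn hK), Subgroup.index, Nat.card_eq_fintype_card]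

/-- T12c : an element acting on `K` diagonally is a product of an element of `K` and one of the centralizer. -/
theorem tw_diag [Fintype F] {K : Subgroup (Matrix.GeneralLinearGroup (Fin n) F)} (hK : Tw K)
    (g : Matrix.GeneralLinearGroup (Fin n) F)
    (hg : ∀ k ∈ K, ∃ c : F, (g : Matrix (Fin n) (Fin n) F) * (k : Matrix (Fin n) (Fin n) F) =
      c • ((k : Matrix (Fin n) (Fin n) F) * (g : Matrix (Fin n) (Fin n) F))) :
    ∃ k₀ ∈ K, ∀ k ∈ K, (k₀⁻¹ * g) * k = k * (k₀⁻¹ * g) := by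
  classical
  rcases Nat.eq_zero_or_pos n with h0 | hn
  · subst h0
    exact ⟨1, K.one_mem, fun k _ => Units.ext (Subsingleton.elim _ _)⟩
  haveI : Finite ↥K := inferInstance
  haveI : Fintype (↥K ⧸ Subgroup.center ↥K) := Fintype.ofFinite _
  -- the inverse scalars
  have hg' : ∀ k : ↥K, ∃ c : F, ((k : GLn) : Mat) * (g : Mat) = c • ((g : Mat) * ((k : GLn) : Mat)) := by
    intro k
    obtain ⟨c, hc⟩ := hg k k.2
    have hc0 : c ≠ 0 := by
      rintro rfl
      rw [zero_smul] at hc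
      exact gl_ne_zero hn (g * (k : GLn)) hc
    refine ⟨c⁻¹, ?_⟩
    rw [hc, smul_smul, inv_mul_cancel₀ hc0, one_smul]
  choose l hl using hg'
  have huniq : ∀ (k : ↥K) (c : F), ((k : GLn) : Mat) * (g : Mat) = c • ((g : Mat) * ((k : GLn) : Mat)) → l k = c := by
    intro k c h
    have h1 := hl k
    rw [h] at h1
    exact (smul_inj hn (g * (k : GLn)) (by rw [mul_val]; exact h1)).symm
  let L : (↥K ⧸ Subgroup.center ↥K) →* F := QuotientGroup.lift (Subgroup.center ↥K)
    { toFun := l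
      map_one' := huniq 1 1 (by simp only [_root_.OneMemClass.coe_one, _root_.Units.val_one, _root_.one_mul, _root_.mul_one, _root_.one_smul])
      map_mul' := fun k k' => huniq _ _ (by
        have e : (((k * k' : ↥K) : GLn) : Mat) = ((k : GLn) : Mat) * ((k' : GLn) : Mat) := rfl
        rw [e, mul_assoc, hl k', Matrix.mul_smul, ← mul_assoc, hl k, Matrix.smul_mul, smul_smul, mul_comm (l k'), mul_assoc]) }
    (by
      intro k hk
      rw [MonoidHom.mem_ker]
      change l k = 1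
      apply huniq
      rw [mem_center hn hK] at hk
      obtain ⟨c, hc⟩ := hk
      rw [hc]
      simp)
  have hL : ∀ k : ↥K, L (QuotientGroup.mk k) = l k := fun k => rfl
  -- `L` is one of the characters `chr x`
  obtain ⟨q, hq⟩ : ∃ q : ↥K ⧸ Subgroup.center ↥K, chr hn hK (rep q) = L := by
    by_contra hcon
    push Not at hcon
    let f : Option (↥K ⧸ Subgroup.center ↥K) → ((↥K ⧸ Subgroup.center ↥K) →* F) :=
      fun o => o.elim L (fun q => chr hn hK (rep q))
    have hf : Function.Injective f := by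
      intro a b hab
      cases a with
      | none =>
        cases b with
        | none => rfl
        | some b => exact absurd hab.symm (hcon b)
      | some a =>
        cases b with
        | none => exact absurd hab (hcon a)
        | some b => exact congrArg some (chr_rep_inj hn hK hab)
    have hli := (linearIndependent_monoidHom (↥K ⧸ Subgroup.center ↥K) F).comp f hf
    have hcard := hli.fintype_card_le_finrank
    rw [Module.finrank_fintype_fun_eq_card, Fintype.card_option] at hcard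
    omega
  refine ⟨(rep q : GLn), (rep q).2, fun k hk => ?_⟩
  have h1 : chi hK (rep q) ⟨k, hk⟩ = l ⟨k, hk⟩ := by rw [← chr_mk hn, hq, hL]
  have h2 := chi_spec hK (rep q) ⟨k, hk⟩
  have h3 := hl ⟨k, hk⟩
  rw [h1] at h2
  simp only at h2 h3
  have hl0 : l ⟨k, hk⟩ ≠ 0 := by
    intro h0
    rw [h0, zero_smul] at h3
    exact gl_ne_zero hn (k * g) h3
  have hxi : (((rep q : GLn)⁻¹ : GLn) : Mat) * ((rep q : GLn) : Mat) = 1 := by
    rw [← mul_val, inv_mul_cancel]; rfl
  have hxi' : ((rep q : GLn) : Mat) * (((rep q : GLn)⁻¹ : GLn) : Mat) = 1 := by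
    rw [← mul_val, mul_inv_cancel]; rfl
  have h4 : (((rep q : GLn)⁻¹ : GLn) : Mat) * (k : Mat) = l ⟨k, hk⟩ • ((k : Mat) * (((rep q : GLn)⁻¹ : GLn) : Mat)) := by
    calc (((rep q : GLn)⁻¹ : GLn) : Mat) * (k : Mat)
        = (((rep q : GLn)⁻¹ : GLn) : Mat) * ((k : Mat) * ((rep q : GLn) : Mat)) * (((rep q : GLn)⁻¹ : GLn) : Mat) := by
          rw [mul_assoc, mul_assoc, hxi', mul_one]
      _ = l ⟨k, hk⟩ • ((k : Mat) * (((rep q : GLn)⁻¹ : GLn) : Mat)) := by
          rw [h2, Matrix.mul_smul, Matrix.smul_mul, ← mul_assoc, hxi, one_mul]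
  apply Units.ext
  change ((((rep q : GLn)⁻¹ : GLn) : Mat) * (g : Mat)) * (k : Mat) = (k : Mat) * ((((rep q : GLn)⁻¹ : GLn) : Mat) * (g : Mat))
  apply smul_right_injective _ hl0
  change l ⟨k, hk⟩ • _ = l ⟨k, hk⟩ • _
  calc l ⟨k, hk⟩ • (((((rep q : GLn)⁻¹ : GLn) : Mat) * (g : Mat)) * (k : Mat))
      = (((rep q : GLn)⁻¹ : GLn) : Mat) * (l ⟨k, hk⟩ • ((g : Mat) * (k : Mat))) := by rw [Matrix.mul_smul, mul_assoc]
    _ = ((((rep q : GLn)⁻¹ : GLn) : Mat) * (k : Mat)) * (g : Mat) := by rw [← h3, mul_assoc]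
    _ = _ := by rw [h4, Matrix.smul_mul, mul_assoc]

end Cfsg.Agent.H502.TW
end

-- part: H502/TW/Tensor
section
/-!
# S3694, T12d (helper502): the tensor decomposition

If the span `B` of a subgroup `K` of `GL_n(F)` with scalar commutators and scalar centre is semisimple then `B ≅ M_v(F)` and its
centralizer is `≅ M_w(F)`, `v w = n`.
-/

set_option autoImplicit false

namespace Cfsg.Agent.H502.TW

open Cfsg.Agent.H607.TW Module

/-- Rank factorization of an idempotent. -/
theorem exists_factor {F : Type*} [Field F] {ι : Type*} [Fintype ι] [DecidableEq ι] (e : Matrix ι ι F) (he : e * e = e) :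
    ∃ (w : ℕ) (P : Matrix ι (Fin w) F) (Q : Matrix (Fin w) ι F), Q * P = 1 ∧ P * Q = e := by
  classical
  let f : (ι → F) →ₗ[F] (ι → F) := Matrix.toLin' e
  let W : Submodule F (ι → F) := LinearMap.range f
  let b : Basis (Fin (finrank F W)) F W := Module.finBasis F W
  refine ⟨finrank F W, LinearMap.toMatrix' (W.subtype ∘ₗ (b.equivFun.symm : (Fin (finrank F W) → F) →ₗ[F] W)),
    LinearMap.toMatrix' ((b.equivFun : W →ₗ[F] (Fin (finrank F W) → F)) ∘ₗ f.rangeRestrict), ?_, ?_⟩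
  · rw [← LinearMap.toMatrix'_comp, ← LinearMap.toMatrix'_id]
    congr 1
    apply LinearMap.ext
    intro x
    simp only [LinearMap.comp_apply, LinearMap.id_apply, LinearEquiv.coe_coe]
    have h1 : f.rangeRestrict (W.subtype (b.equivFun.symm x)) = b.equivFun.symm x := by
      apply Subtype.ext
      change f ((b.equivFun.symm x : W) : ι → F) = ((b.equivFun.symm x : W) : ι → F)
      obtain ⟨y, hy⟩ := (b.equivFun.symm x).2
      rw [← hy]
      change f (f y) = f y
      simp only [f, Matrix.toLin'_apply, Matrix.mulVec_mulVec, he]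
    rw [h1, LinearEquiv.apply_symm_apply]
  · rw [← LinearMap.toMatrix'_comp]
    have h1 : (W.subtype ∘ₗ (b.equivFun.symm : (Fin (finrank F W) → F) →ₗ[F] W)) ∘ₗ
        ((b.equivFun : W →ₗ[F] (Fin (finrank F W) → F)) ∘ₗ f.rangeRestrict) = f := by
      apply LinearMap.ext
      intro x
      simp only [LinearMap.comp_apply, LinearEquiv.coe_coe, LinearEquiv.symm_apply_apply]
      rfl
    rw [h1]
    exact LinearMap.toMatrix'_toLin' e

/-- The centralizer of a full matrix subalgebra `φ(M_v(F))` of `M_n(F)` is a full matrix algebra `ψ(M_w(F))`, `v w = n`. -/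
theorem exists_psi {F : Type*} [Field F] {n v : ℕ} (hv : 0 < v)
    (φ : Matrix (Fin v) (Fin v) F →ₐ[F] Matrix (Fin n) (Fin n) F) :
    ∃ (w : ℕ) (ψ : Matrix (Fin w) (Fin w) F →ₙ+* Matrix (Fin n) (Fin n) F), v * w = n ∧ Function.Injective ψ ∧ ψ 1 = 1 ∧
      (∀ x, (∃ m, ψ m = x) ↔ ∀ m, x * φ m = φ m * x) := by
  classical
  let o : Fin v := ⟨0, hv⟩
  let E : Fin v → Fin v → Matrix (Fin n) (Fin n) F := fun i j => φ (Matrix.single i j 1)
  have hE : ∀ i j k l, E i j * E k l = if j = k then E i l else 0 := by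
    intro i j k l
    simp only [E]
    rw [← map_mul]
    split_ifs with h
    · subst h
      rw [Matrix.single_mul_single_same, mul_one]
    · rw [Matrix.single_mul_single_of_ne _ _ _ _ h, map_zero]
  have hsum : ∑ i, E i i = 1 := by
    simp only [E]
    rw [← map_sum, ← map_one φ]
    congr 1
    exact Matrix.sum_single_one
  obtain ⟨w, P, Q, hQP, hPQ⟩ := exists_factor (E o o) (by rw [hE, if_pos rfl])
  have hQe : Q * E o o = Q := by rw [← hPQ, ← Matrix.mul_assoc, hQP, Matrix.one_mul]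
  have heP : E o o * P = P := by rw [← hPQ, Matrix.mul_assoc, hQP, Matrix.mul_one]
  let ψ0 : Matrix (Fin w) (Fin w) F → Matrix (Fin n) (Fin n) F := fun N => ∑ i, E i o * P * N * Q * E o i
  have hcore : ∀ i j (N N' : Matrix (Fin w) (Fin w) F),
      (E i o * P * N * Q * E o i) * (E j o * P * N' * Q * E o j) = if i = j then E i o * P * (N * N') * Q * E o j else 0 := by
    intro i j N N'
    have h1 : (E i o * P * N * Q * E o i) * (E j o * P * N' * Q * E o j) =
        E i o * P * N * Q * (E o i * E j o) * P * N' * Q * E o j := by simp only [Matrix.mul_assoc]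
    rw [h1, hE]
    split_ifs with h
    · have h2 : E i o * P * N * Q * E o o * P * N' * Q * E o j = E i o * P * N * (Q * E o o * P) * N' * Q * E o j := by
        simp only [Matrix.mul_assoc]
      rw [h2, hQe, hQP, Matrix.mul_one]
      simp only [Matrix.mul_assoc]
    · simp
  let ψ : Matrix (Fin w) (Fin w) F →ₙ+* Matrix (Fin n) (Fin n) F :=
    { toFun := ψ0
      map_mul' := by
        intro N N'
        simp only [ψ0]
        rw [Finset.sum_mul]
        refine Finset.sum_congr rfl fun i _ => ?_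
        rw [Finset.mul_sum]
        rw [Finset.sum_congr rfl fun j _ => hcore i j N N']
        rw [Finset.sum_ite_eq]
        simp only [_root_.Finset.mem_univ, ↓ _root_.reduceIte]
      map_zero' := by simp only [ψ0, _root_.Matrix.mul_zero, _root_.Matrix.zero_mul, _root_.MulZeroClass.zero_mul, _root_.Finset.sum_const_zero]
      map_add' := by
        intro N N'
        simp only [ψ0]
        rw [← Finset.sum_add_distrib]
        refine Finset.sum_congr rfl fun i _ => ?_
        rw [Matrix.mul_add, Matrix.add_mul, Matrix.add_mul] }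
  have hψ : ∀ N, ψ N = ∑ i, E i o * P * N * Q * E o i := fun N => rfl
  have hone : ψ 1 = 1 := by
    rw [hψ, ← hsum]
    refine Finset.sum_congr rfl fun i _ => ?_
    have h1 : E i o * P * (1 : Matrix (Fin w) (Fin w) F) * Q * E o i = E i o * (P * Q) * E o i := by
      rw [Matrix.mul_one]
      simp only [Matrix.mul_assoc]
    rw [h1, hPQ, hE, if_pos rfl, hE, if_pos rfl]
  have hback : ∀ N, Q * ψ N * P = N := by
    intro N
    rw [hψ, Matrix.mul_sum, Matrix.sum_mul, Finset.sum_eq_single o]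
    · have h1 : Q * (E o o * P * N * Q * E o o) * P = (Q * E o o * P) * N * (Q * E o o * P) := by
        simp only [Matrix.mul_assoc]
      rw [h1, hQe, hQP, Matrix.one_mul, Matrix.mul_one]
    · intro i _ hi
      have h1 : Q * (E i o * P * N * Q * E o i) * P = (Q * E o o) * (E i o * P * N * Q * E o i) * P := by rw [hQe]
      have h2 : (Q * E o o) * (E i o * P * N * Q * E o i) * P = Q * (E o o * E i o) * (P * N * Q * E o i) * P := by
        simp only [Matrix.mul_assoc]
      rw [h1, h2, hE, if_neg (Ne.symm hi)]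
      simp
    · intro h
      exact absurd (Finset.mem_univ o) h
  -- the range commutes with the matrix units
  have hcomm : ∀ N k l, ψ N * E k l = E k l * ψ N := by
    intro N k l
    rw [hψ, Finset.sum_mul, Finset.mul_sum]
    have h1 : ∀ i, E i o * P * N * Q * E o i * E k l = if i = k then E i o * P * N * Q * E o l else 0 := by
      intro i
      rw [Matrix.mul_assoc _ (E o i), hE]
      split_ifs <;> simp
    have h2 : ∀ i, E k l * (E i o * P * N * Q * E o i) = if l = i then E k o * P * N * Q * E o i else 0 := by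
      intro i
      have h3 : E k l * (E i o * P * N * Q * E o i) = (E k l * E i o) * P * N * Q * E o i := by simp only [Matrix.mul_assoc]
      rw [h3, hE]
      split_ifs <;> simp
    rw [Finset.sum_congr rfl fun i _ => h1 i, Finset.sum_congr rfl fun i _ => h2 i, Finset.sum_ite_eq', Finset.sum_ite_eq]
    simp only [_root_.Finset.mem_univ, ↓ _root_.reduceIte]
  have hφE : ∀ m, φ m = ∑ i, ∑ j, m i j • E i j := by
    intro m
    conv_lhs => rw [Matrix.matrix_eq_sum_single m]
    simp only [map_sum, E]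
    refine Finset.sum_congr rfl fun i _ => Finset.sum_congr rfl fun j _ => ?_
    rw [← map_smul, Matrix.smul_single, smul_eq_mul, mul_one]
  refine ⟨w, ψ, ?_, ?_, hone, ?_⟩
  · -- dimensions
    let P' : Matrix (Fin n) (Fin v × Fin w) F := Matrix.of fun a b => (E b.1 o * P) a b.2
    let Q' : Matrix (Fin v × Fin w) (Fin n) F := Matrix.of fun a b => (Q * E o a.1) a.2 b
    have h1 : P' * Q' = 1 := by
      have h2 : P' * Q' = ∑ i, (E i o * P) * (Q * E o i) := by
        ext a b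
        rw [Matrix.mul_apply, Fintype.sum_prod_type, Matrix.sum_apply]
        refine Finset.sum_congr rfl fun i _ => ?_
        rw [Matrix.mul_apply]
        rfl
      rw [h2, ← hone, hψ]
      refine Finset.sum_congr rfl fun i _ => ?_
      rw [Matrix.mul_one]
      simp only [Matrix.mul_assoc]
    have h3 : Q' * P' = 1 := by
      ext ⟨a, b⟩ ⟨c, d⟩
      have h4 : (Q' * P') (a, b) (c, d) = ((Q * E o a) * (E c o * P)) b d := by
        rw [Matrix.mul_apply, Matrix.mul_apply]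
        rfl
      rw [h4]
      have h5 : (Q * E o a) * (E c o * P) = Q * (E o a * E c o) * P := by simp only [Matrix.mul_assoc]
      rw [h5, hE]
      by_cases hac : a = c
      · subst hac
        rw [if_pos rfl, hQe, hQP]
        by_cases hbd : b = d
        · subst hbd
          rw [Matrix.one_apply_eq, Matrix.one_apply_eq]
        · rw [Matrix.one_apply_ne hbd, Matrix.one_apply_ne (fun h => hbd (congrArg Prod.snd h))]
      · rw [if_neg hac, Matrix.mul_zero, Matrix.zero_mul, Matrix.zero_apply,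
          Matrix.one_apply_ne (fun h => hac (congrArg Prod.fst h))]
    have h6 := (Matrix.toLin'OfInv h1 h3).finrank_eq
    rw [Module.finrank_fintype_fun_eq_card, Module.finrank_fintype_fun_eq_card, Fintype.card_prod, Fintype.card_fin,
      Fintype.card_fin, Fintype.card_fin] at h6
    omega
  · intro N N' h
    rw [← hback N, ← hback N', h]
  · intro x
    constructor
    · rintro ⟨N, rfl⟩ m
      rw [hφE, Finset.mul_sum, Finset.sum_mul]
      refine Finset.sum_congr rfl fun i _ => ?_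
      rw [Finset.mul_sum, Finset.sum_mul]
      refine Finset.sum_congr rfl fun j _ => ?_
      rw [Matrix.mul_smul, Matrix.smul_mul, hcomm]
    · intro hx
      refine ⟨Q * x * P, ?_⟩
      rw [hψ]
      have hxE : ∀ i j, x * E i j = E i j * x := fun i j => hx _
      have h1 : ∀ i, E i o * P * (Q * x * P) * Q * E o i = x * E i i := by
        intro i
        have h2 : E i o * P * (Q * x * P) * Q * E o i = E i o * (P * Q) * x * (P * Q) * E o i := by
          simp only [Matrix.mul_assoc]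
        rw [h2, hPQ, hE, if_pos rfl, ← hxE, Matrix.mul_assoc x, hE, if_pos rfl, Matrix.mul_assoc x, hE, if_pos rfl]
      rw [Finset.sum_congr rfl fun i _ => h1 i, ← Finset.mul_sum, hsum, mul_one]

/-- A finite-dimensional semisimple algebra over a finite field with centre `F` is a matrix algebra over `F`. -/
theorem exists_algEquiv {F : Type} [Field F] [Finite F] {B : Type} [Ring B] [Algebra F B] [Module.Finite F B] [Nontrivial B]
    (hs : IsSemisimpleRing B) (hc : ∀ z : B, (∀ b, z * b = b * z) → ∃ c : F, z = algebraMap F B c) :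
    ∃ v : ℕ, 0 < v ∧ Nonempty (B ≃ₐ[F] Matrix (Fin v) (Fin v) F) := by
  classical
  obtain ⟨m, D, d, iD, iA, iF, hd, ⟨e⟩⟩ := IsSemisimpleRing.exists_algEquiv_pi_matrix_divisionRing_finite F B
  haveI : ∀ i, NeZero (d i) := hd
  -- an index
  have hm : Nonempty (Fin m) := by
    by_contra hcon
    haveI : IsEmpty (Fin m) := not_nonempty_iff.mp hcon
    have h1 : (1 : B) = 0 := by
      apply e.injective
      exact Subsingleton.elim _ _
    exact one_ne_zero h1
  obtain ⟨o⟩ := hm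
  -- central elements of the product come from `F`
  have hcen : ∀ z : (Π i, Matrix (Fin (d i)) (Fin (d i)) (D i)), (∀ b, z * b = b * z) →
      ∃ c : F, z = algebraMap F _ c := by
    intro z hz
    obtain ⟨c, hc'⟩ := hc (e.symm z) (by
      intro b
      apply e.injective
      rw [map_mul, map_mul, AlgEquiv.apply_symm_apply, hz])
    refine ⟨c, ?_⟩
    rw [← AlgEquiv.apply_symm_apply e z, hc', AlgEquiv.commutes]
  -- only one index
  have huniq : ∀ i, i = o := by
    intro i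
    by_contra hi
    obtain ⟨c, hc'⟩ := hcen (Pi.single o 1) (by
      intro b
      ext1 j
      rw [Pi.mul_apply, Pi.mul_apply]
      by_cases hj : j = o
      · subst hj
        rw [Pi.single_eq_same, one_mul, mul_one]
      · rw [Pi.single_eq_of_ne hj, zero_mul, mul_zero])
    have h1 := congrFun hc' i
    have h2 := congrFun hc' o
    rw [Pi.single_eq_of_ne hi, Pi.algebraMap_apply] at h1
    rw [Pi.single_eq_same, Pi.algebraMap_apply] at h2
    haveI : Nonempty (Fin (d i)) := ⟨0⟩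
    haveI : Nontrivial (Matrix (Fin (d i)) (Fin (d i)) (D i)) := inferInstance
    haveI : Nonempty (Fin (d o)) := ⟨0⟩
    haveI : Nontrivial (Matrix (Fin (d o)) (Fin (d o)) (D o)) := inferInstance
    have h3 : c = 0 := by
      apply (algebraMap F (Matrix (Fin (d i)) (Fin (d i)) (D i))).injective
      rw [← h1, map_zero]
    rw [h3, map_zero] at h2
    exact one_ne_zero h2
  -- the division algebra is `F`
  haveI : Finite (D o) := Module.finite_of_finite F
  have hDcomm : ∀ a b : D o, a * b = b * a := fun a b => (littleWedderburn (D o)).mul_comm a b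
  have hsurj : Function.Surjective (algebraMap F (D o)) := by
    intro a
    obtain ⟨c, hc'⟩ := hcen (Pi.single o (Matrix.scalar (Fin (d o)) a)) (by
      intro b
      ext1 j
      rw [Pi.mul_apply, Pi.mul_apply]
      obtain rfl := huniq j
      rw [Pi.single_eq_same]
      exact Matrix.scalar_commute a (fun r => hDcomm a r) (b j))
    refine ⟨c, ?_⟩
    have h1 := congrFun hc' o
    rw [Pi.single_eq_same, Pi.algebraMap_apply] at h1
    have h2 := congrFun (congrFun h1 0) 0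
    rw [Matrix.scalar_apply, Matrix.diagonal_apply_eq, Matrix.algebraMap_matrix_apply, if_pos rfl] at h2
    exact h2.symm
  let eD : F ≃ₐ[F] D o := AlgEquiv.ofBijective (Algebra.ofId F (D o)) ⟨(algebraMap F (D o)).injective, hsurj⟩
  let ev : (Π i, Matrix (Fin (d i)) (Fin (d i)) (D i)) ≃ₐ[F] Matrix (Fin (d o)) (Fin (d o)) (D o) :=
    AlgEquiv.ofBijective (Pi.evalAlgHom F (fun i => Matrix (Fin (d i)) (Fin (d i)) (D i)) o) ⟨by
      intro x y h
      ext1 j
      obtain rfl := huniq j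
      exact h, by
      intro y
      exact ⟨Pi.single o y, Pi.single_eq_same _ _⟩⟩
  exact ⟨d o, Nat.pos_of_ne_zero (NeZero.ne _), ⟨(e.trans ev).trans eD.mapMatrix.symm⟩⟩

variable {F : Type} [Field F] {n : ℕ}

local notation "Mat" => Matrix (Fin n) (Fin n) F
local notation "GLn" => Matrix.GeneralLinearGroup (Fin n) F

/-- the elements of the span of `K` commuting with `K` are scalars. -/
theorem span_center [Fintype F] (hn : 0 < n) {K : Subgroup GLn} (hK : Tw K) {z : Mat}
    (hz : z ∈ Submodule.span F ((fun k : GLn => (k : Mat)) '' (K : Set GLn)))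
    (hcomm : ∀ k ∈ K, z * (k : Mat) = (k : Mat) * z) : ∃ c : F, z = c • 1 := by
  classical
  haveI : Finite ↥K := inferInstance
  haveI : Fintype (↥K ⧸ Subgroup.center ↥K) := Fintype.ofFinite _
  rw [← span_eq hn hK] at hz
  obtain ⟨a, ha⟩ := (Submodule.mem_span_range_iff_exists_fun F).mp hz
  have hli := linInd hn hK
  rw [Fintype.linearIndependent_iff] at hli
  have key : ∀ (k : ↥K) (q : ↥K ⧸ Subgroup.center ↥K), a q * (chi hK (rep q) k - 1) = 0 := by
    intro k
    apply hli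
    have h1 := hcomm k k.2
    rw [← ha, Finset.sum_mul, Finset.mul_sum] at h1
    have h2 : (∑ q, (a q * (chi hK (rep q) k - 1)) • ((rep q : GLn) : Mat)) * ((k : GLn) : Mat) = 0 := by
      rw [Finset.sum_mul]
      have h3 : ∀ q : ↥K ⧸ Subgroup.center ↥K, (a q * (chi hK (rep q) k - 1)) • ((rep q : GLn) : Mat) * ((k : GLn) : Mat) =
          ((k : GLn) : Mat) * (a q • ((rep q : GLn) : Mat)) - (a q • ((rep q : GLn) : Mat)) * ((k : GLn) : Mat) := by
        intro q
        rw [Matrix.mul_smul, chi_spec hK (rep q) k, Matrix.smul_mul, Matrix.smul_mul, smul_smul, ← sub_smul]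
        congr 1
        ring
      rw [Finset.sum_congr rfl fun q _ => h3 q, Finset.sum_sub_distrib, h1, sub_self]
    have h5 : ((k : GLn) : Mat) * (((k : GLn)⁻¹ : GLn) : Mat) = 1 := by
      rw [← mul_val, mul_inv_cancel]; rfl
    have h6 := congrArg (fun X : Mat => X * (((k : GLn)⁻¹ : GLn) : Mat)) h2
    simp only [zero_mul] at h6
    rwa [mul_assoc, h5, mul_one] at h6
  have hq : ∀ q : ↥K ⧸ Subgroup.center ↥K, ∃ c : F, a q • ((rep q : GLn) : Mat) = c • 1 := by
    intro q
    by_cases h0 : a q = 0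
    · exact ⟨0, by rw [h0, zero_smul, zero_smul]⟩
    · obtain ⟨c, hc⟩ := hK.nondeg (rep q : GLn) (rep q).2 (by
        intro h hh
        have h1 := (mul_eq_zero.mp (key ⟨h, hh⟩ q)).resolve_left h0
        have h2 := chi_spec hK (rep q) ⟨h, hh⟩
        rw [sub_eq_zero.mp h1, one_smul] at h2
        exact Units.ext h2.symm)
      exact ⟨a q * c, by rw [hc, smul_smul]⟩
  choose c hc using hq
  refine ⟨∑ q, c q, ?_⟩
  rw [← ha, Finset.sum_smul]
  exact Finset.sum_congr rfl fun q _ => hc q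

/-- T12d : if the span `B` of `K` is semisimple then `M_n(F) = M_v(F) ⊗ M_w(F)` with `B = M_v(F) ⊗ 1`. -/
theorem tw_tensor [Fintype F] (hn : 0 < n) {K : Subgroup (Matrix.GeneralLinearGroup (Fin n) F)} (hK : Tw K)
    (B : Subalgebra F (Matrix (Fin n) (Fin n) F))
    (hB : (Subalgebra.toSubmodule B) = Submodule.span F ((fun k : Matrix.GeneralLinearGroup (Fin n) F =>
      (k : Matrix (Fin n) (Fin n) F)) '' (K : Set (Matrix.GeneralLinearGroup (Fin n) F))))
    (hs : IsSemisimpleRing ↥B) :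
    ∃ (v w : ℕ) (φ : Matrix (Fin v) (Fin v) F →ₙ+* Matrix (Fin n) (Fin n) F)
      (ψ : Matrix (Fin w) (Fin w) F →ₙ+* Matrix (Fin n) (Fin n) F),
      v * w = n ∧ v * v = Module.finrank F ↥B ∧ Function.Injective φ ∧ Function.Injective ψ ∧ φ 1 = 1 ∧ ψ 1 = 1 ∧
      (∀ x, (∃ m, φ m = x) ↔ x ∈ B) ∧ (∀ x, (∃ m, ψ m = x) ↔ ∀ y ∈ B, x * y = y * x) := by
  classical
  haveI : Nonempty (Fin n) := ⟨⟨0, hn⟩⟩
  haveI : Nontrivial Mat := inferInstance
  haveI : Nontrivial ↥B := inferInstance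
  haveI : Module.Finite F ↥B := inferInstance
  obtain ⟨v, hv, ⟨e⟩⟩ := exists_algEquiv (F := F) hs (by
    intro z hz
    obtain ⟨c, hc⟩ := span_center hn hK (z := (z : Mat)) (by
      rw [← hB]
      exact z.2) (by
      intro k hk
      have hkB : (k : Mat) ∈ B := by
        rw [← Subalgebra.mem_toSubmodule, hB]
        exact Submodule.subset_span ⟨k, hk, rfl⟩
      exact congrArg Subtype.val (hz ⟨(k : Mat), hkB⟩))
    refine ⟨c, ?_⟩
    apply Subtype.ext
    rw [hc, Algebra.algebraMap_eq_smul_one]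
    rfl)
  let φ : Matrix (Fin v) (Fin v) F →ₐ[F] Matrix (Fin n) (Fin n) F := B.val.comp (e.symm : Matrix (Fin v) (Fin v) F →ₐ[F] ↥B)
  have hφ : ∀ m, φ m = ((e.symm m : ↥B) : Mat) := fun m => rfl
  have hrange : ∀ x, (∃ m, φ m = x) ↔ x ∈ B := by
    intro x
    constructor
    · rintro ⟨m, rfl⟩
      exact (e.symm m).2
    · intro hx
      refine ⟨e ⟨x, hx⟩, ?_⟩
      rw [hφ, AlgEquiv.symm_apply_apply]
  obtain ⟨w, ψ, hvw, hψi, hψ1, hψr⟩ := exists_psi hv φ
  refine ⟨v, w, ((φ : Matrix (Fin v) (Fin v) F →+* Matrix (Fin n) (Fin n) F) :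
    Matrix (Fin v) (Fin v) F →ₙ+* Matrix (Fin n) (Fin n) F), ψ, hvw, ?_, ?_, hψi, ?_, hψ1, hrange, ?_⟩
  · rw [e.toLinearEquiv.finrank_eq, Module.finrank_matrix, Fintype.card_fin, Module.finrank_self, mul_one]
  · intro x y h
    apply e.symm.injective
    exact Subtype.ext h
  · exact map_one φ
  · intro x
    rw [hψr]
    constructor
    · intro h y hy
      obtain ⟨m, rfl⟩ := (hrange y).mpr hy
      exact h m
    · intro h m
      exact h _ ((hrange _).mp ⟨m, rfl⟩)

end Cfsg.Agent.H502.TW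
end

-- part: H968/TW/NonabK
section
/-!
# S3694, T13: the nonabelian case, the group `K` (helper968)
-/

set_option autoImplicit false

namespace Cfsg.Agent.H968.TW

open Subgroup Cfsg.Agent.H607.TW

universe u

variable {G : Type u} [Group G] {N A X : Subgroup G} {r : ℕ} {F : Type} [Field F] {n : ℕ}
  {S : Type} [Group S] {ι : S →* Matrix.GeneralLinearGroup (Fin n) F} {π : S →* G}

/-- the preimage of `X` in `GL` -/
def KX (ι : S →* Matrix.GeneralLinearGroup (Fin n) F) (π : S →* G) (X : Subgroup G) :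
    Subgroup (Matrix.GeneralLinearGroup (Fin n) F) := (X.comap π).map ι

theorem coe_KX : (fun k : Matrix.GeneralLinearGroup (Fin n) F => (k : Matrix (Fin n) (Fin n) F)) ''
    (KX ι π X : Set (Matrix.GeneralLinearGroup (Fin n) F)) = H607.TW.mt ι '' {s | π s ∈ X} := by
  ext x
  constructor
  · rintro ⟨_, ⟨s, hs, rfl⟩, rfl⟩
    exact ⟨s, hs, rfl⟩
  · rintro ⟨s, hs, rfl⟩
    exact ⟨_, ⟨s, hs, rfl⟩, rfl⟩

/-- the algebra generated by `X̂` is its span -/
theorem adjoin_eq_span : Subalgebra.toSubmodule (Algebra.adjoin F (H607.TW.mt ι '' {s | π s ∈ X})) =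
    Submodule.span F (H607.TW.mt ι '' {s | π s ∈ X}) := by
  rw [Algebra.adjoin_eq_span]
  congr 1
  let M0 : Submonoid (Matrix (Fin n) (Fin n) F) :=
    { carrier := H607.TW.mt ι '' {s | π s ∈ X}
      one_mem' := ⟨1, by show π 1 ∈ X; rw [map_one]; exact X.one_mem, mt_one⟩
      mul_mem' := by
        rintro _ _ ⟨s, hs, rfl⟩ ⟨t, ht, rfl⟩
        exact ⟨s * t, by show π (s * t) ∈ X; rw [map_mul]; exact X.mul_mem hs ht, mt_mul s t⟩ }
  have h : Submonoid.closure (H607.TW.mt ι '' {s | π s ∈ X}) = M0 := by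
    apply le_antisymm
    · exact Submonoid.closure_le.2 fun x hx => hx
    · exact fun x hx => Submonoid.subset_closure hx
  rw [h]
  rfl

/-- commuting modulo scalars -/
theorem comm_scalar (hM : Model N ι π) {s t : S} (h : π s * π t = π t * π s) :
    ∃ c : F, H607.TW.mt ι s * H607.TW.mt ι t = c • (H607.TW.mt ι t * H607.TW.mt ι s) := by
  obtain ⟨c, hc⟩ := mt_eq_smul hM (s := s * t) (t := t * s) (by rw [map_mul, map_mul, h])
  rw [mt_mul, mt_mul] at hc
  exact ⟨c, hc⟩

/-- `K` is twisted -/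
theorem tw_K [Finite F] (hM : Model N ι π) (hX : MinX N A X r)
    (hnon : ∃ s t : S, π s ∈ X ∧ π t ∈ X ∧ s * t ≠ t * s) : Tw (KX ι π X) := by
  have hXn : ∀ a ∈ A, ∀ x ∈ X, a * x * a⁻¹ ∈ X := fun a ha x hx => conj_mem_of_norm hX.norm ha hx
  have hXc : ∀ x ∈ X, ∀ y ∈ X, x * y = y * x := fun x hx y hy => hX.comm x hx y (hX.le hy).1
  -- the centre of `X̂`
  let Z : Subgroup S :=
    { carrier := {s | π s ∈ X ∧ ∀ t, π t ∈ X → s * t = t * s}
      one_mem' := ⟨by rw [map_one]; exact X.one_mem, fun t _ => by rw [one_mul, mul_one]⟩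
      mul_mem' := by
        rintro a b ⟨ha, ha'⟩ ⟨hb, hb'⟩
        refine ⟨by rw [map_mul]; exact X.mul_mem ha hb, fun t ht => ?_⟩
        rw [mul_assoc, hb' t ht, ← mul_assoc, ha' t ht, mul_assoc]
      inv_mem' := by
        rintro a ⟨ha, ha'⟩
        refine ⟨by rw [map_inv]; exact X.inv_mem ha, fun t ht => ?_⟩
        exact ((show Commute a t from ha' t ht).inv_left) }
  have hZX : Z.map π ≤ X := by
    rintro _ ⟨s, hs, rfl⟩
    exact hs.1
  -- it is invariant
  have hZn : A ≤ normalizer ((Z.map π : Subgroup G) : Set G) := by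
    apply le_normalizer_of_conj
    rintro a ha _ ⟨s, hs, rfl⟩
    obtain ⟨B, σ, hBσ⟩ := hM.lift a
    obtain ⟨τ, hτ⟩ : ∃ τ, Ind ι π a τ := by
      rcases hBσ with h | h
      · exact ⟨_, h⟩
      · exact ⟨_, h⟩
    have hfS := hM.finite_S
    have hmem : ∀ s' : S, H607.TW.mt ι s' = τ (H607.TW.mt ι s) → π s' ∈ X → s' ∈ Z := by
      intro s' h1 h2
      refine ⟨h2, fun t ht => ?_⟩
      apply hM.mt_inj
      rw [mt_mul, mt_mul]
      rcases ind_surj hM.inj hτ with ⟨hm, hs1⟩ | ⟨hm, hs1⟩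
      · obtain ⟨t', h3, h4⟩ := hs1 t
        have h5 : π t' ∈ X := by
          have h6 := hXn a⁻¹ (A.inv_mem ha) _ ht
          rw [h4] at h6
          have h7 : a⁻¹ * (a * π t' * a⁻¹) * a⁻¹⁻¹ = π t' := by group
          rwa [h7] at h6
        rw [h1, h3, ← hm, ← hm, ← mt_mul, ← mt_mul, hs.2 t' h5]
      · obtain ⟨t', h3, h4⟩ := hs1 t
        have h5 : π t' ∈ X := by
          have h6 := hXn a⁻¹ (A.inv_mem ha) _ (X.inv_mem ht)
          rw [h4] at h6
          have h7 : a⁻¹ * (a * π t' * a⁻¹) * a⁻¹⁻¹ = π t' := by group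
          rwa [h7] at h6
        rw [h1, h3, ← hm, ← hm, ← mt_mul, ← mt_mul, hs.2 t' h5]
    rcases hτ with ⟨-, h⟩ | ⟨-, h⟩
    · obtain ⟨s', h1, h2⟩ := h s
      exact ⟨s', hmem s' h1 (by rw [h2]; exact hXn a ha _ hs.1), h2⟩
    · obtain ⟨s', h1, h2⟩ := h s
      have h3 : π s' ∈ X := by
        rw [← X.inv_mem_iff, h2]
        exact hXn a ha _ hs.1
      refine ⟨s'⁻¹, Z.inv_mem (hmem s' h1 h3), ?_⟩
      rw [map_inv, h2]
  have hZbot : Z.map π = ⊥ := by
    by_contra hne
    have h1 := hX.min _ hZX hne hZn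
    obtain ⟨s, t, hs, ht, hst⟩ := hnon
    apply hst
    rw [← h1] at hs
    obtain ⟨z, hz, hzs⟩ := hs
    obtain ⟨c, hc⟩ := mt_eq_smul hM hzs.symm
    apply hM.mt_inj
    rw [mt_mul, mt_mul, hc, smul_mul_assoc, mul_smul_comm, ← mt_mul, ← mt_mul, hz.2 t ht]
  constructor
  · rintro _ ⟨s, hs, rfl⟩ _ ⟨t, ht, rfl⟩
    exact comm_scalar hM (hXc _ hs _ ht)
  · rintro _ ⟨s, hs, rfl⟩ hc
    have hsZ : s ∈ Z := by
      refine ⟨hs, fun t ht => ?_⟩
      apply hM.inj
      rw [map_mul, map_mul]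
      exact hc _ ⟨t, ht, rfl⟩
    have h1 : π s ∈ Z.map π := ⟨s, hsZ, rfl⟩
    rw [hZbot, mem_bot] at h1
    exact (hM.ker s).1 h1

/-- `|X|` is the dimension of the span -/
theorem card_X [Fintype F] (hM : Model N ι π) (hX : MinX N A X r)
    (hnon : ∃ s t : S, π s ∈ X ∧ π t ∈ X ∧ s * t ≠ t * s) :
    Nat.card ↥X = Module.finrank F ↥(Algebra.adjoin F (H607.TW.mt ι '' {s | π s ∈ X})) := by
  have hK := tw_K hM hX hnon
  let e : ↥(X.comap π) ≃* ↥(KX ι π X) := (X.comap π).equivMapOfInjective ι hM.inj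
  let f : ↥(KX ι π X) →* G := (π.comp (X.comap π).subtype).comp e.symm.toMonoidHom
  have hfe : ∀ s : ↥(X.comap π), f (e s) = π s := by
    intro s
    show π ((X.comap π).subtype (e.symm (e s))) = π s
    rw [e.symm_apply_apply]
    rfl
  have hecoe : ∀ s : ↥(X.comap π), ((e s : ↥(KX ι π X)) : Matrix.GeneralLinearGroup (Fin n) F) = ι s := fun s => rfl
  have hrange : f.range = X := by
    ext x
    constructor
    · rintro ⟨k, rfl⟩
      obtain ⟨s, rfl⟩ := e.surjective k
      rw [hfe]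
      exact s.2
    · intro hx
      obtain ⟨s, rfl⟩ := hM.exists_pre (hX.le hx).2
      exact ⟨e ⟨s, hx⟩, hfe _⟩
  have hker : ∀ k : ↥(KX ι π X), k ∈ f.ker ↔ ∃ c : F, ((k : Matrix.GeneralLinearGroup (Fin n) F) :
      Matrix (Fin n) (Fin n) F) = c • 1 := by
    intro k
    obtain ⟨s, rfl⟩ := e.surjective k
    rw [MonoidHom.mem_ker, hfe, hecoe]
    exact hM.ker s
  have h1 := Cfsg.Agent.H502.TW.tw_card hM.pos hK f.ker hker
  rw [Subgroup.index_ker, hrange, coe_KX, ← adjoin_eq_span] at h1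
  exact h1

end Cfsg.Agent.H968.TW
end

-- part: H968/TW/Count
section
/-!
# S3694, T13: counting (helper968)
-/

set_option autoImplicit false

namespace Cfsg.Agent.H968.TW

open Subgroup

/-- counting by fibres -/
theorem card_le_fiber {S β : Type*} [Group S] [Finite S] [Finite β] (D C : Set S) (p : ↥D → β)
    (hp : ∀ s s' : ↥D, p s = p s' → (s' : S)⁻¹ * s ∈ C) : Nat.card ↥D ≤ Nat.card β * Nat.card ↥C := by
  choose rep hrep using (fun b : Set.range p => b.2)
  rw [← Nat.card_prod]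
  refine Nat.card_le_card_of_injective
    (fun s : ↥D => ((p s, ⟨(rep ⟨p s, s, rfl⟩ : S)⁻¹ * s, hp _ _ (hrep ⟨p s, s, rfl⟩).symm⟩) : β × ↥C)) ?_
  intro s s' h
  have h1 : p s = p s' := congrArg Prod.fst h
  have h2 : (rep ⟨p s, s, rfl⟩ : S)⁻¹ * s = (rep ⟨p s', s', rfl⟩ : S)⁻¹ * s' := congrArg (fun q : β × ↥C => (q.2 : S)) h
  have h3 : (⟨p s, s, rfl⟩ : Set.range p) = ⟨p s', s', rfl⟩ := Subtype.ext h1
  rw [h3] at h2
  exact Subtype.ext (mul_left_cancel h2)

/-- the automorphisms of a finite field -/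
theorem card_aut_le (F : Type*) [Field F] [Finite F] : Nat.card (F ≃+* F) ≤ Nat.card F - 1 := by
  classical
  let _ : Fintype F := Fintype.ofFinite _
  obtain ⟨g, hg⟩ := IsCyclic.exists_generator (α := Fˣ)
  have h1 : Nat.card Fˣ = Nat.card F - 1 := Nat.card_units F
  rw [← h1]
  refine Nat.card_le_card_of_injective (fun σ : F ≃+* F => Units.map (σ : F →* F) g) ?_
  intro σ ρ h
  ext x
  by_cases hx : x = 0
  · rw [hx, map_zero, map_zero]
  · obtain ⟨k, hk⟩ := mem_zpowers_iff.1 (hg (Units.mk0 x hx))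
    have h2 : Units.map (σ : F →* F) (Units.mk0 x hx) = Units.map (ρ : F →* F) (Units.mk0 x hx) := by
      rw [← hk, map_zpow, map_zpow]
      exact congrArg (· ^ k) h
    exact congrArg Units.val h2

/-- a group of order `v²` and prime exponent is generated by two elements -/
theorem exists_two_gen {G : Type*} [Group G] [Finite G] {X : Subgroup G} {r v : ℕ} (hr : r.Prime) (hv : v.Prime)
    (hX : Nat.card ↥X = v * v) (hexp : ∀ x ∈ X, x ^ r = 1) :
    ∃ x ∈ X, ∃ y ∈ X, x ≠ 1 ∧ y ≠ 1 ∧ X ≤ _root_.Subgroup.closure {x, y} := by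
  have hv2 := hv.two_le
  have hne : X ≠ ⊥ := by
    rintro rfl
    rw [card_bot] at hX
    nlinarith
  obtain ⟨⟨x, hx⟩, hx1⟩ := Subgroup.ne_bot_iff_exists_ne_one.1 hne
  have hx1' : x ≠ 1 := fun h => hx1 (Subtype.ext h)
  have hrf : Fact r.Prime := ⟨hr⟩
  have hox : orderOf x = r := orderOf_eq_prime (hexp x hx) hx1'
  have hrv : r = v := by
    have h1 : orderOf x ∣ Nat.card ↥X := by
      rw [← Subgroup.orderOf_mk x hx]
      exact _root_.orderOf_dvd_natCard _
    rw [hox, hX] at h1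
    rcases (Nat.Prime.dvd_mul hr).1 h1 with h2 | h2 <;> exact (Nat.prime_dvd_prime_iff_eq hr hv).1 h2
  have hxX : zpowers x ≤ X := zpowers_le.2 hx
  obtain ⟨y, hy, hyx⟩ : ∃ y ∈ X, y ∉ zpowers x := by
    by_contra hcon
    push Not at hcon
    have h1 : zpowers x = X := le_antisymm hxX hcon
    have h2 : Nat.card ↥X = r := by rw [← h1, Nat.card_zpowers, hox]
    rw [hX, hrv] at h2
    nlinarith only [hv2, h2]
  refine ⟨x, hx, y, hy, hx1', fun h => hyx (by rw [h]; exact one_mem _), ?_⟩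
  have hcX : _root_.Subgroup.closure {x, y} ≤ X := by
    rw [closure_le]
    rintro z (rfl | hz)
    · exact hx
    · rw [Set.mem_singleton_iff] at hz; rw [hz]; exact hy
  have hxc : zpowers x ≤ closure {x, y} := zpowers_le.2 (_root_.Subgroup.subset_closure (Or.inl rfl))
  have hd1 : Nat.card ↥(closure {x, y}) ∣ v * v := by rw [← hX]; exact card_dvd_of_le hcX
  have hd2 : v ∣ Nat.card ↥(closure {x, y}) := by
    have := card_dvd_of_le hxc
    rwa [Nat.card_zpowers, hox, hrv] at this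
  have hlt : v < Nat.card ↥(closure {x, y}) := by
    refine lt_of_le_of_ne (Nat.le_of_dvd Nat.card_pos hd2) fun h => ?_
    have h1 : zpowers x = closure {x, y} := by
      apply Subgroup.eq_of_le_of_card_ge hxc
      rw [Nat.card_zpowers, hox, hrv, ← h]
    exact hyx (by rw [h1]; exact _root_.Subgroup.subset_closure (Or.inr rfl))
  have heq : Nat.card ↥(closure {x, y}) = v * v := by
    obtain ⟨m, hm⟩ := hd2
    rw [hm] at hd1 hlt ⊢
    have h3 : m ∣ v := Nat.dvd_of_mul_dvd_mul_left hv.pos hd1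
    rcases (Nat.dvd_prime hv).1 h3 with rfl | rfl
    · omega
    · rfl
  exact (Subgroup.eq_of_le_of_card_ge hcX (by rw [hX, heq])).ge

theorem card_mat (F : Type*) [Finite F] (w : ℕ) : Nat.card (Matrix (Fin w) (Fin w) F) = (Nat.card F ^ w) ^ w := by
  have h : Nat.card (Matrix (Fin w) (Fin w) F) = Nat.card (Fin w → Fin w → F) := rfl
  rw [h, Nat.card_fun, Nat.card_fun, Nat.card_fin]

/-- the numerical estimate -/
theorem numeric {v w q : ℕ} (hv : (v = 2 ∧ q ≤ 9) ∨ (v = 3 ∧ q = 4)) (hw : (w = 2 ∧ q ≤ 9) ∨ (w = 3 ∧ q = 4)) :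
    (v * v - 1) * (v * v - 1) * (v * v * (q ^ w) ^ w) * (2 * (q - 1)) ≤ 955514880 := by
  rcases hv with ⟨rfl, hq⟩ | ⟨rfl, rfl⟩ <;> rcases hw with ⟨rfl, hq'⟩ | ⟨rfl, hq'⟩
  · interval_cases q <;> norm_num
  · subst hq'; norm_num
  · norm_num
  · norm_num

end Cfsg.Agent.H968.TW
end

-- part: H968/TW/T13
section
/-!
# S3694, T13: the nonabelian case (helper968)
-/

set_option autoImplicit false

namespace Cfsg.Agent.H968.TW

open Subgroup Cfsg.Agent.H607.TW

universe u

variable {G : Type u} [Group G] [Finite G] {N A X : Subgroup G} {r : ℕ} {F : Type} [Field F] [Fintype F] {n : ℕ}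
  {S : Type} [Group S] {ι : S →* Matrix.GeneralLinearGroup (Fin n) F} {π : S →* G}

omit [Finite G] [Fintype F] in
/-- the elements of `S` with matrices centralizing `B` -/
def CB (ι : S →* Matrix.GeneralLinearGroup (Fin n) F) (B : Subalgebra F (Matrix (Fin n) (Fin n) F)) : Subgroup S where
  carrier := {s | ∀ y ∈ B, H607.TW.mt ι s * y = y * H607.TW.mt ι s}
  one_mem' := fun y _ => by rw [mt_one, one_mul, mul_one]
  mul_mem' := by
    intro a b ha hb y hy
    rw [mt_mul, mul_assoc, hb y hy, ← mul_assoc, ha y hy, mul_assoc]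
  inv_mem' := by
    intro a ha y hy
    have h1 : H607.TW.mt ι a⁻¹ * H607.TW.mt ι a = 1 := by rw [← mt_mul, inv_mul_cancel, mt_one]
    have h2 : H607.TW.mt ι a * H607.TW.mt ι a⁻¹ = 1 := by rw [← mt_mul, mul_inv_cancel, mt_one]
    calc H607.TW.mt ι a⁻¹ * y = H607.TW.mt ι a⁻¹ * y * (H607.TW.mt ι a * H607.TW.mt ι a⁻¹) := by rw [h2, mul_one]
      _ = H607.TW.mt ι a⁻¹ * (y * H607.TW.mt ι a) * H607.TW.mt ι a⁻¹ := by simp only [mul_assoc]
      _ = H607.TW.mt ι a⁻¹ * H607.TW.mt ι a * y * H607.TW.mt ι a⁻¹ := by rw [← ha y hy]; simp only [mul_assoc]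
      _ = y * H607.TW.mt ι a⁻¹ := by rw [h1, one_mul]

omit [Finite G] [Fintype F] in
theorem ker_CB (hM : Model N ι π) {B : Subalgebra F (Matrix (Fin n) (Fin n) F)} {s : S} (hs : π s = 1) :
    s ∈ CB ι B := by
  obtain ⟨c, hc⟩ := (hM.ker s).1 hs
  intro y _
  rw [hc, smul_mul_assoc, one_mul, mul_smul_comm, mul_one]

omit [Finite G] in
/-- an element commuting with `X` is a product of an element of `X̂` and one of `C(B)` -/
theorem exists_t0 (hM : Model N ι π) (hK : Tw (KX ι π X)) {s : S} (hs : ∀ t, π t ∈ X → π s * π t = π t * π s) :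
    ∃ t₀ : S, π t₀ ∈ X ∧ t₀⁻¹ * s ∈ CB ι (Algebra.adjoin F (H607.TW.mt ι '' {s | π s ∈ X})) := by
  obtain ⟨k₀, ⟨t₀, ht₀, rfl⟩, hk⟩ := Cfsg.Agent.H502.TW.tw_diag hK (ι s) (by
    rintro _ ⟨t, ht, rfl⟩
    exact comm_scalar hM (hs t ht))
  refine ⟨t₀, ht₀, ?_⟩
  have h1 : Algebra.adjoin F (H607.TW.mt ι '' {s | π s ∈ X}) ≤
      Subalgebra.centralizer F {H607.TW.mt ι (t₀⁻¹ * s)} := by
    apply Algebra.adjoin_le
    rintro _ ⟨t, ht, rfl⟩
    rw [SetLike.mem_coe, Subalgebra.mem_centralizer_iff]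
    intro z hz
    rw [Set.mem_singleton_iff] at hz
    rw [hz, ← mt_mul, ← mt_mul]
    unfold H607.TW.mt
    congr 1
    have h2 := hk _ ⟨t, ht, rfl⟩
    rw [← map_inv, ← map_mul, ← map_mul, ← map_mul] at h2
    exact h2
  intro y hy
  exact ((Subalgebra.mem_centralizer_iff F).1 (h1 hy) _ rfl)

/-- `|A|` in terms of the preimage -/
theorem card_A_le (h : Loc N A r) (hM : Model N ι π)
    (hidx : N.index ≤ 2 * Nat.card (F ≃+* F) * Nat.card π.ker) :
    Nat.card ↥A ≤ Nat.card ↥(A.comap π) * (2 * Nat.card (F ≃+* F)) := by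
  have hfS : Finite S := hM.finite_S
  let f : ↥(A.comap π) →* G := π.comp (A.comap π).subtype
  have hrange : f.range = A ⊓ N := by
    ext x
    constructor
    · rintro ⟨s, rfl⟩
      exact ⟨s.2, hM.mem s⟩
    · rintro ⟨h1, h2⟩
      obtain ⟨s, rfl⟩ := hM.exists_pre h2
      exact ⟨⟨s, h1⟩, rfl⟩
  have hle : π.ker ≤ A.comap π := by
    intro s hs
    rw [MonoidHom.mem_ker] at hs
    rw [mem_comap, hs]
    exact A.one_mem
  have hker : Nat.card ↥f.ker = Nat.card ↥π.ker := by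
    have h1 : f.ker = π.ker.subgroupOf (A.comap π) := by
      ext s
      rw [MonoidHom.mem_ker, mem_subgroupOf, MonoidHom.mem_ker]
      rfl
    rw [h1]
    exact Nat.card_congr (subgroupOfEquivOfLe hle).toEquiv
  have h1 : Nat.card ↥f.ker * f.ker.index = Nat.card ↥(A.comap π) := f.ker.card_mul_index
  rw [Subgroup.index_ker, hrange, hker] at h1
  have h2 := h.card_le
  calc Nat.card ↥A ≤ Nat.card ↥(A ⊓ N : Subgroup G) * N.index := h2
    _ ≤ Nat.card ↥(A ⊓ N : Subgroup G) * (2 * Nat.card (F ≃+* F) * Nat.card π.ker) := Nat.mul_le_mul_left _ hidx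
    _ = Nat.card ↥(A.comap π) * (2 * Nat.card (F ≃+* F)) := by rw [← h1]; ring

/-- T13 : the nonabelian case -/
theorem type_nonab (h : Loc N A r)
    (_hr : ¬ r ∣ Fintype.card F) (hM : Model N ι π) (hS : SemiAx ι π A) (hC : CompAx ι π A)
    (hidx : N.index ≤ 2 * Nat.card (F ≃+* F) * Nat.card π.ker) {X : Subgroup G} (hX : MinX N A X r)
    (hnon : ∃ s t : S, π s ∈ X ∧ π t ∈ X ∧ s * t ≠ t * s) : Extra ι π N A r ∨ Nat.card ↥A ≤ M 5 := by
  have hfS : Finite S := hM.finite_S
  have hK := tw_K hM hX hnon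
  have hInvB : _root_.Cfsg.Agent.H607.TW.Inv ι π A (Algebra.adjoin F (H607.TW.mt ι '' {s | π s ∈ X})) := Inv.adjoin hX.norm
  have hcX := card_X hM hX hnon
  have hex := fun {s : S} (hs : ∀ t, π t ∈ X → π s * π t = π t * π s) => exists_t0 hM hK hs
  obtain ⟨B, hB⟩ : ∃ B, B = Algebra.adjoin F (H607.TW.mt ι '' {s | π s ∈ X}) := ⟨_, rfl⟩
  have hspan := adjoin_eq_span (ι := ι) (π := π) (X := X)
  rw [← coe_KX] at hspan
  have hgen : ∀ s : S, π s ∈ X → H607.TW.mt ι s ∈ B := fun s hs => by rw [hB]; exact Algebra.subset_adjoin ⟨s, hs, rfl⟩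
  rw [← hB] at hInvB hcX hex
  rw [coe_KX, ← hB, ← coe_KX] at hspan
  obtain ⟨v, w, φ, ψ, hvw, hvv, hφ, hψ, hφ1, hψ1, hφr, hψr⟩ :=
    Cfsg.Agent.H502.TW.tw_tensor hM.pos hK B hspan (hS B hInvB)
  rw [← hvv] at hcX
  have hn := hM.two
  have hne : Nonempty (Fin n) := ⟨⟨0, by omega⟩⟩
  have hnoncomm : ¬ ∀ x ∈ B, ∀ y ∈ B, x * y = y * x := by
    intro hc
    obtain ⟨s, t, hs, ht, hst⟩ := hnon
    apply hst
    apply hM.mt_inj
    rw [mt_mul, mt_mul, hc _ (hgen s hs) _ (hgen t ht)]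
  have hw0 : w ≠ 0 := by rintro rfl; rw [mul_zero] at hvw; omega
  have hv0 : v ≠ 0 := by rintro rfl; rw [zero_mul] at hvw; omega
  have hv1 : v ≠ 1 := by
    rintro rfl
    apply hX.ne
    rw [mul_one] at hcX
    exact Subgroup.card_eq_one.1 hcX
  have hfull : Module.finrank F (Matrix (Fin n) (Fin n) F) = n * n := by
    rw [Module.finrank_matrix, Fintype.card_fin, Module.finrank_self, mul_one]
  by_cases hw1 : w = 1
  · -- the extraspecial case
    left
    subst hw1
    rw [mul_one] at hvw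
    subst hvw
    have htop : B = ⊤ := by
      rw [← Algebra.toSubmodule_eq_top]
      apply Submodule.eq_top_of_finrank_eq
      rw [hfull]
      exact hvv.symm
    have hscal : ∀ s : S, s ∈ CB ι B → π s = 1 := by
      intro s hs
      rw [hM.ker]
      apply scalar_of_comm
      intro y
      exact hs y (by rw [htop]; exact Algebra.mem_top)
    have hself : ∀ g ∈ N, (∀ k ∈ X, g * k = k * g) → g ∈ X := by
      intro g hg hgk
      obtain ⟨s, rfl⟩ := hM.exists_pre hg
      obtain ⟨t₀, ht₀, h1⟩ := hex (s := s) fun t ht => hgk _ ht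
      have h2 := hscal _ h1
      rw [map_mul, map_inv, inv_mul_eq_one] at h2
      rw [← h2]; exact ht₀
    have hEX : OO r A ⊓ N = X := by
      apply le_antisymm _ hX.le
      rintro g ⟨hg1, hg2⟩
      exact hself g hg2 fun k hk => (hX.comm k hk g hg1).symm
    constructor
    · rw [hEX]; exact hX.ne
    · intro K' hK' hK'1 hK'n
      rw [hEX] at hK' ⊢
      exact hX.min K' hK' hK'1 hK'n
    · intro x hx y hy
      rw [hEX] at hx
      exact hX.comm x hx y hy
    · intro x hx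
      rw [hEX] at hx
      exact hX.exp x hx
    · rw [hEX]; exact hself
    · intro x hx
      rw [hEX] at hx
      apply scalar_of_comm
      have h1 : B ≤ Subalgebra.centralizer F {x} := by
        rw [hB]
        apply Algebra.adjoin_le
        rintro _ ⟨t, ht, rfl⟩
        rw [SetLike.mem_coe, Subalgebra.mem_centralizer_iff]
        intro z hz
        rw [Set.mem_singleton_iff] at hz
        rw [hz, hx t ht]
      intro y
      exact (Subalgebra.mem_centralizer_iff F).1 (h1 (by rw [htop]; exact Algebra.mem_top)) _ rfl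
    · rw [hEX]; exact hnon
  · -- the small case
    right
    have hBtop : B ≠ ⊤ := by
      intro htop
      have h1 : v * v = n * n := by
        rw [hvv, htop, ← hfull]
        exact Subalgebra.topEquiv.toLinearEquiv.finrank_eq
      have h2 : v = n := by nlinarith only [h1]
      rw [h2] at hvw
      exact hw1 (Nat.eq_of_mul_eq_mul_left (by omega : 0 < n) (hvw.trans (mul_one n).symm))
    have hmemE : ∀ x, x ∈ Subalgebra.centralizer F (B : Set (Matrix (Fin n) (Fin n) F)) ↔ ∀ y ∈ B, x * y = y * x := by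
      intro x
      rw [Subalgebra.mem_centralizer_iff]
      exact ⟨fun h1 y hy => (h1 y hy).symm, fun h1 y hy => (h1 y hy).symm⟩
    have hEtop : Subalgebra.centralizer F (B : Set (Matrix (Fin n) (Fin n) F)) ≠ ⊤ := by
      intro h1
      apply hnoncomm
      intro x hx y hy
      have h2 : x ∈ Subalgebra.centralizer F (B : Set (Matrix (Fin n) (Fin n) F)) := by rw [h1]; exact Algebra.mem_top
      exact (hmemE x).1 h2 y hy
    have cv := hC B hInvB hBtop F v φ hφ (fun x => by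
      rw [hφr, hφ1, one_mul]
      exact ⟨fun h1 => ⟨h1, rfl⟩, fun h1 => h1.1⟩) (fun x _ => by rw [hφ1, one_mul, mul_one])
    have cw := hC _ hInvB.centralizer hEtop F w ψ hψ (fun x => by
      rw [hψr, hmemE, hψ1, one_mul]
      exact ⟨fun h1 => ⟨h1, rfl⟩, fun h1 => h1.1⟩) (fun x _ => by rw [hψ1, one_mul, mul_one])
    have cv' : (v = 2 ∧ Nat.card F ≤ 9) ∨ (v = 3 ∧ Nat.card F = 4) := by
      rcases cv with h1 | ⟨h1, -, h2⟩ | ⟨h1, -, h2⟩
      · (clear * - hv0 hv1 h1; omega)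
      · exact Or.inl ⟨h1, h2⟩
      · exact Or.inr ⟨h1, h2⟩
    have cw' : (w = 2 ∧ Nat.card F ≤ 9) ∨ (w = 3 ∧ Nat.card F = 4) := by
      rcases cw with h1 | ⟨h1, -, h2⟩ | ⟨h1, -, h2⟩
      · (clear * - hw0 hw1 h1; omega)
      · exact Or.inl ⟨h1, h2⟩
      · exact Or.inr ⟨h1, h2⟩
    have hvp : v.Prime := by
      rcases cv' with ⟨rfl, -⟩ | ⟨rfl, -⟩ <;> norm_num
    obtain ⟨x, hx, y, hy, hx1, hy1, hgenX⟩ := exists_two_gen h.prime hvp hcX hX.exp
    have hXn : ∀ a ∈ A, ∀ x ∈ X, a * x * a⁻¹ ∈ X := fun a ha x hx => conj_mem_of_norm hX.norm ha hx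
    -- the subgroup of `S` centralizing `X`
    let Ch : Set S := {s | ∀ t, π t ∈ X → π s * π t = π t * π s}
    let X' := {z : ↥X // z ≠ 1}
    have hX' : Nat.card X' = v * v - 1 := by
      classical
      have h1 : Nat.card X' = Nat.card ↥X - 1 := by
        let _ : Fintype ↥X := Fintype.ofFinite _
        have h2 : Nat.card X' = Fintype.card {z : ↥X // z ≠ 1} := Nat.card_eq_fintype_card
        have h3 : Nat.card ↥X = Fintype.card ↥X := Nat.card_eq_fintype_card
        rw [h2, h3, Fintype.card_subtype_compl, Fintype.card_subtype_eq]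
      rw [h1, hcX]
    have hconj1 : ∀ {g z : G}, z ≠ 1 → g * z * g⁻¹ ≠ 1 := by
      intro g z hz h1
      apply hz
      calc z = g⁻¹ * (g * z * g⁻¹) * g := by group
        _ = 1 := by rw [h1]; group
    have s1 : Nat.card ↥(A.comap π) ≤ (v * v - 1) * (v * v - 1) * Nat.card ↥Ch := by
      rw [← hX', ← Nat.card_prod]
      refine card_le_fiber (A.comap π : Set S) Ch
        (fun s => ((⟨⟨π s * x * (π s)⁻¹, hXn _ s.2 x hx⟩, fun h1 => hconj1 hx1 (congrArg Subtype.val h1)⟩,
          ⟨⟨π s * y * (π s)⁻¹, hXn _ s.2 y hy⟩, fun h1 => hconj1 hy1 (congrArg Subtype.val h1)⟩) : X' × X')) ?_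
      intro s s' hss t ht
      have e1 : π s * x * (π s)⁻¹ = π s' * x * (π s')⁻¹ := congrArg (fun q : X' × X' => ((q.1 : ↥X) : G)) hss
      have e2 : π s * y * (π s)⁻¹ = π s' * y * (π s')⁻¹ := congrArg (fun q : X' × X' => ((q.2 : ↥X) : G)) hss
      have key : ∀ z : G, π s * z * (π s)⁻¹ = π s' * z * (π s')⁻¹ →
          π ((s' : S)⁻¹ * s) * z = z * π ((s' : S)⁻¹ * s) := by
        intro z hz
        rw [map_mul, map_inv]
        calc (π s')⁻¹ * π s * z = (π s')⁻¹ * (π s * z * (π s)⁻¹) * π s := by group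
          _ = z * ((π s')⁻¹ * π s) := by rw [hz]; group
      have hcl : _root_.Subgroup.closure {x, y} ≤ centralizer {π ((s' : S)⁻¹ * s)} := by
        rw [closure_le]
        rintro z (rfl | hz)
        · exact mem_centralizer_singleton_iff.2 (key _ e1).symm
        · rw [Set.mem_singleton_iff] at hz
          rw [hz]
          exact mem_centralizer_singleton_iff.2 (key _ e2).symm
      exact (mem_centralizer_singleton_iff.1 (hcl (hgenX ht))).symm
    have hT : ∀ z : ↥X, ∃ t : S, π t = z := fun z => hM.exists_pre (hX.le z.2).2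
    choose T hTs using hT
    have s2 : Nat.card ↥Ch ≤ (v * v) * Nat.card ↥(CB ι B) := by
      rw [← hcX]
      have hp : ∀ s : ↥Ch, ∃ z : ↥X, (T z)⁻¹ * (s : S) ∈ CB ι B := by
        intro s
        obtain ⟨t₀, ht₀, h1⟩ := hex (s := s) s.2
        refine ⟨⟨π t₀, ht₀⟩, ?_⟩
        have h2 : (T ⟨π t₀, ht₀⟩)⁻¹ * t₀ ∈ CB ι B := by
          apply ker_CB hM
          rw [map_mul, map_inv, hTs, inv_mul_cancel]
        have h3 := (CB ι B).mul_mem h2 h1
        rwa [mul_assoc, mul_inv_cancel_left] at h3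
      choose p hp using hp
      refine card_le_fiber Ch (CB ι B : Set S) p ?_
      intro s s' hss
      have h1 := hp s
      rw [hss] at h1
      have h2 := (CB ι B).mul_mem ((CB ι B).inv_mem (hp s')) h1
      have h3 : ((T (p s'))⁻¹ * (s' : S))⁻¹ * ((T (p s'))⁻¹ * s) = (s' : S)⁻¹ * s := by group
      rwa [h3] at h2
    have s3 : Nat.card ↥(CB ι B) ≤ (Nat.card F ^ w) ^ w := by
      rw [← card_mat]
      have hq : ∀ s : ↥(CB ι B), ∃ m, ψ m = H607.TW.mt ι s := fun s => (hψr _).2 s.2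
      choose q hq using hq
      have hfm : Finite (Matrix (Fin w) (Fin w) F) := inferInstanceAs (Finite (Fin w → Fin w → F))
      refine Nat.card_le_card_of_injective q fun s s' hss => ?_
      apply Subtype.ext
      apply hM.mt_inj
      rw [← hq, ← hq, hss]
    have s4 := card_A_le h hM hidx
    have s5 : Nat.card (F ≃+* F) ≤ Nat.card F - 1 := card_aut_le F
    rw [M_five]
    calc Nat.card ↥A ≤ Nat.card ↥(A.comap π) * (2 * Nat.card (F ≃+* F)) := s4
      _ ≤ ((v * v - 1) * (v * v - 1) * (v * v * (Nat.card F ^ w) ^ w)) * (2 * (Nat.card F - 1)) := by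
        refine Nat.mul_le_mul (s1.trans (Nat.mul_le_mul_left _ (s2.trans (Nat.mul_le_mul_left _ s3))))
          (Nat.mul_le_mul_left _ s5)
      _ ≤ 955514880 := numeric cv' cw'

end Cfsg.Agent.H968.TW
end

private theorem dce_b8767aaa1d30 : _root_.True := by
  try have : _root_.True := by simp only [_root_.Cfsg.Agent.H502.TW.chi.congr_simp]
  try have : _root_.True := by simp only [_root_.Cfsg.Agent.H502.TW.chr.congr_simp]
  exact _root_.True.intro
end

-- part: H607/TW/Outer_mg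
section
prune_inst 0x210020444140000200000010802000401400013200040000008200040108000000800040002010040208000100010048110000000000000000000000000000000000000480480000000080000080000000000000010000000000000000000004000000000
set_option linter.all false
open scoped Cfsg.Agent.FastGrp

-- part: H607/TW/Outer
section
/-!
# S3694: outer elements (helper607)
-/

set_option autoImplicit false

namespace Cfsg.Agent.H607.TW

open Subgroup Cfsg

universe u

variable {G : Type u} [Group G] {N A X : Subgroup G} {r : ℕ} {F : Type} [Field F] {n : ℕ} {S : Type} [Group S]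
  {ι : S →* Matrix.GeneralLinearGroup (Fin n) F} {π : S →* G}

/-- `H296.TW.cyc_sl`, `H296.TW.cyc_su` -/
def CycAx (ι : S →* Matrix.GeneralLinearGroup (Fin n) F) (π : S →* G) (N : Subgroup G) : Prop :=
  ∀ X : Subgroup G, X ⊓ N = ⊥ → (∀ x ∈ X, ∃ B, Ind ι π x (tauP B 1)) → IsCyclic ↥X

theorem Model.ind_one (hM : Model N ι π) : Ind ι π 1 (tauP 1 1) := by
  have := ind_self' hM (1 : S)
  rwa [map_one, map_one] at this

/-- the elements of `K` with a lift `x ↦ B x B⁻¹` -/
def Dg [Finite G] (hM : Model N ι π) (K : Subgroup G) : Subgroup G where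
  carrier := {x | x ∈ K ∧ ∃ B, Ind ι π x (tauP B 1)}
  one_mem' := ⟨K.one_mem, 1, hM.ind_one⟩
  mul_mem' := by
    rintro x y ⟨hx, B, hB⟩ ⟨hy, C, hC⟩
    exact ⟨K.mul_mem hx hy, B * C, H296.TW.ind_mul_one hM.two hB hC⟩
  inv_mem' := by
    rintro x ⟨hx, B, hB⟩
    refine ⟨K.inv_mem hx, ?_⟩
    have h1 : ∀ k : ℕ, ∃ C, Ind ι π (x ^ k) (tauP C 1) := by
      intro k
      induction k with
      | zero => exact ⟨1, by rw [pow_zero]; exact hM.ind_one⟩
      | succ k ih =>
        obtain ⟨C, hC⟩ := ih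
        exact ⟨C * B, by rw [pow_succ]; exact H296.TW.ind_mul_one hM.two hC hB⟩
    have h2 : x⁻¹ = x ^ (orderOf x - 1) := by
      rw [inv_eq_iff_mul_eq_one, ← pow_succ', Nat.sub_add_cancel (orderOf_pos x), pow_orderOf_eq_one]
    rw [h2]
    exact h1 _

theorem Dg_le [Finite G] (hM : Model N ι π) (K : Subgroup G) : Dg hM K ≤ K := fun _ hx => hx.1

theorem comm_mem_Dg [Finite G] [Finite F] (hM : Model N ι π) {K : Subgroup G} (hK : A ≤ normalizer (K : Set G)) {x a : G}
    (hx : x ∈ K) (ha : a ∈ A) : a * x * a⁻¹ * x⁻¹ ∈ Dg hM K :=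
  ⟨K.mul_mem (conj_mem_of_norm hK ha hx) (K.inv_mem hx), hM.comm_lift x a⟩

theorem norm_Dg [Finite G] [Finite F] (hM : Model N ι π) {K : Subgroup G} (hK : A ≤ normalizer (K : Set G)) :
    A ≤ normalizer (Dg hM K : Set G) := by
  apply le_normalizer_of_conj
  intro a ha x hx
  have h1 := comm_mem_Dg hM hK hx.1 ha
  have h2 := (Dg hM K).mul_mem h1 hx
  simpa only [_root_.inv_mul_cancel_right] using h2

theorem outer [Finite G] [Finite F] (h : Loc N A r) (hM : Model N ι π) (hcyc : CycAx ι π N) {K : Subgroup G}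
    (hK : K ≤ OO r A) (hn : A ≤ normalizer (K : Set G)) (hne : K ≠ ⊥) (hKN : K ⊓ N = ⊥) :
    ∃ x ∈ K, x ≠ 1 ∧ x ^ r = 1 ∧ x ∉ N ∧ A ≤ normalizer ((zpowers x : Subgroup G) : Set G) ∧
      (∀ y ∈ A ⊓ N, x * y = y * x) ∧ (∀ y ∈ N, x * y = y * x → y ∈ A) ∧
      ((∃ B, Ind ι π x (tauP B 1)) ∨ ∀ a ∈ A, a * x = x * a) := by
  obtain ⟨X, hXK, hX1, hXn, hmin, -, hexp⟩ := h.exists_min hK hn hne
  have key : ∃ x ∈ X, x ≠ 1 ∧ A ≤ normalizer ((zpowers x : Subgroup G) : Set G) ∧
      ((∃ B, Ind ι π x (tauP B 1)) ∨ ∀ a ∈ A, a * x = x * a) := by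
    by_cases hD : Dg hM X = ⊥
    · obtain ⟨x, hx, hx1⟩ := (Subgroup.ne_bot_iff_exists_ne_one.mp hX1 : ∃ a : ↥X, a ≠ 1) |>.imp
        (fun a ha => ha) |> fun ⟨a, ha⟩ => (⟨a, a.2, fun h => ha (Subtype.ext h)⟩ : ∃ x : G, x ∈ X ∧ x ≠ 1)
      have hc : ∀ a ∈ A, a * x = x * a := by
        intro a ha
        have h1 := comm_mem_Dg hM hXn hx ha
        rw [hD, mem_bot, mul_inv_eq_one, mul_inv_eq_iff_eq_mul] at h1
        exact h1
      refine ⟨x, hx, hx1, ?_, Or.inr hc⟩
      apply le_normalizer_of_conj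
      rintro a ha _ ⟨k, rfl⟩
      have h2 : a * x ^ k * a⁻¹ = x ^ k := by
        have : Commute a (x ^ k) := (show Commute a x from hc a ha).zpow_right k
        rw [this.eq, mul_inv_cancel_right]
      simp only
      rw [h2]
      exact ⟨k, rfl⟩
    · have hDX := hmin _ (Dg_le hM X) hD (norm_Dg hM hXn)
      have hXN : X ⊓ N = ⊥ := by
        rw [eq_bot_iff, ← hKN]
        exact inf_le_inf_right N hXK
      have hX2 : ∀ x ∈ X, ∃ B, Ind ι π x (tauP B 1) := by
        intro x hx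
        rw [← hDX] at hx
        exact hx.2
      have hc := hcyc X hXN hX2
      obtain ⟨x, hx⟩ := hc.exists_generator
      have h3 : zpowers (x : G) = X := by
        ext y
        constructor
        · rintro ⟨k, rfl⟩
          exact X.zpow_mem x.2 k
        · intro hy
          obtain ⟨k, hk⟩ := hx ⟨y, hy⟩
          exact ⟨k, congrArg Subtype.val hk⟩
      refine ⟨x, x.2, ?_, by rw [h3]; exact hXn, Or.inl (hX2 x x.2)⟩
      intro h4
      apply hX1
      rw [← h3, h4, zpowers_one_eq_bot]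
  obtain ⟨x, hx, hx1, hxn, hkind⟩ := key
  have hxK := hXK hx
  have hxN : x ∉ N := fun h1 => hx1 (by
    have : x ∈ K ⊓ N := ⟨hxK, h1⟩
    rwa [hKN, mem_bot] at this)
  refine ⟨x, hxK, hx1, hexp x hx, hxN, hxn, ?_, ?_, hkind⟩
  · rintro y ⟨hyA, hyN⟩
    have h1 : x * y * x⁻¹ * y⁻¹ ∈ K ⊓ N := by
      refine ⟨?_, ?_⟩
      · have h2 : y * x⁻¹ * y⁻¹ ∈ K := conj_mem_of_norm hn hyA (K.inv_mem hxK)
        have := K.mul_mem hxK h2
        simpa only [mul_assoc, _root_.Subgroup.coe_toSubmonoid, _root_.SetLike.mem_coe] using this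
      · exact N.mul_mem (h.normal.conj_mem y hyN x) (N.inv_mem hyN)
    rw [hKN, mem_bot, mul_inv_eq_one, mul_inv_eq_iff_eq_mul] at h1
    exact h1
  · intro y hy hxy
    let H : Subgroup G := N ⊓ centralizer (zpowers x : Set G)
    have hH1 : y ∈ H := by
      refine ⟨hy, ?_⟩
      change y ∈ centralizer (zpowers x : Set G)
      rw [mem_centralizer_iff]
      rintro _ ⟨k, rfl⟩
      exact ((show Commute x y from hxy).zpow_left k).eq
    have hH2 : H ≠ N := by
      intro h1
      apply hx1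
      apply h.eq_one_of_comm
      intro z hz
      rw [← h1] at hz
      exact mem_centralizer_iff.mp hz.2 x (mem_zpowers x)
    have hH3 : A ≤ normalizer (H : Set G) := by
      apply le_normalizer_of_conj
      rintro a ha z ⟨hz1, hz2⟩
      refine ⟨h.normal.conj_mem z hz1 a, ?_⟩
      have hz3 : z ∈ centralizer (zpowers x : Set G) := hz2
      rw [mem_centralizer_iff] at hz3
      change a * z * a⁻¹ ∈ centralizer (zpowers x : Set G)
      rw [mem_centralizer_iff]
      intro w hw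
      have h4 : a⁻¹ * w * a ∈ zpowers x := by
        have := conj_mem_of_norm hxn (A.inv_mem ha) hw
        simpa using this
      calc w * (a * z * a⁻¹) = a * ((a⁻¹ * w * a) * z) * a⁻¹ := by group
        _ = a * (z * (a⁻¹ * w * a)) * a⁻¹ := by rw [hz3 _ h4]
        _ = a * z * a⁻¹ * w := by group
    exact h.le_of_norm' inf_le_left hH2 hH3 hH1

end Cfsg.Agent.H607.TW
end

-- part: H748/TW/CompSL
section
/-!
# S3694, T3: the simple factors of an invariant subalgebra, linear case (helper748)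

`comp_false` : a quasisimple group `T` with a homomorphism `ψ : T → S`, injective, with image in `HE ι E` and normalised by `HE ι E`,
does not exist (for every `Model`, `E ≠ ⊤` invariant).
-/

set_option autoImplicit false
set_option linter.unusedSectionVars false

namespace Cfsg.Agent.H748.TW

open Subgroup Cfsg Cfsg.Agent.H607.TW

universe u

/-- a quasisimple subgroup, normal in a normal subgroup of `A`, does not exist -/
theorem qs_false {G : Type u} [Group G] [Finite G] {N A : Subgroup G} {r : ℕ} (h : Loc N A r) {Q H : Subgroup G} (hH : H ≤ A)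
    (hAH : A ≤ normalizer (H : Set G)) (hQ : Q ≤ H) (hHQ : H ≤ normalizer (Q : Set G)) (hq : IsQuasisimple ↥Q) : False := by
  refine no_comp h (K := Q.subgroupOf A) ⟨?_, ?_⟩
  · refine Subgroup.IsSubnormal.step _ (H.subgroupOf A) (comap_mono hQ) ?_ ?_
    · exact Subgroup.Normal.isSubnormal ((normal_subgroupOf_iff_le_normalizer hH).2 hAH)
    · refine ⟨fun x hx y => ?_⟩
      rw [mem_subgroupOf, mem_subgroupOf] at hx ⊢
      exact (mem_normalizer_iff.1 (hHQ y.2) _).1 hx
  · exact Cfsg.Agent.SignalizersComponents.Components.isQuasisimple_of_mulEquiv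
      (subgroupOfEquivOfLe (hQ.trans hH)).symm hq

section

variable {G : Type u} [Group G] [Finite G] {N A : Subgroup G} {r : ℕ} {F : Type} [Field F] [Fintype F] {n : ℕ} {S : Type}
  [Group S] {ι : S →* Matrix.GeneralLinearGroup (Fin n) F} {π : S →* G}

theorem comp_false [Finite S] (h : Loc N A r) (hM : Model N ι π) {E : Subalgebra F (Matrix (Fin n) (Fin n) F)}
    (hE : _root_.Cfsg.Agent.H607.TW.Inv ι π A E) (hne : E ≠ ⊤) {T : Type} [Group T] (hT : IsQuasisimple T) (ψ : T →* S)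
    (hψ : Function.Injective ψ) (hm : ∀ t, _root_.Cfsg.Agent.H607.TW.mt ι (ψ t) ∈ E)
    (hn : ∀ s : S, _root_.Cfsg.Agent.H607.TW.mt ι s ∈ E → ∀ t, ∃ t', s * ψ t * s⁻¹ = ψ t') : False := by
  refine qs_false h (Q := (π.comp ψ).range) (H := (HE ι E).map π) (HE_le h hM hE hne) (HE_norm hM hE) ?_ ?_ ?_
  · rintro _ ⟨t, rfl⟩
    exact ⟨ψ t, hm t, rfl⟩
  · apply le_normalizer_of
    rintro _ ⟨s, hs, rfl⟩ _ ⟨t, rfl⟩
    obtain ⟨t', ht'⟩ := hn s hs t
    refine ⟨t', ?_⟩
    show π (ψ t') = π s * π (ψ t) * (π s)⁻¹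
    rw [← ht', map_mul, map_mul, map_inv]
  · have hnt : Nontrivial ↥((π.comp ψ).range) := by
      by_contra hcon
      rw [not_nontrivial_iff_subsingleton] at hcon
      have h1 : ∀ t, π (ψ t) = 1 := by
        intro t
        have h2 : (⟨π (ψ t), ⟨t, rfl⟩⟩ : ↥((π.comp ψ).range)) = 1 := Subsingleton.elim _ _
        exact congrArg Subtype.val h2
      apply Cfsg.Agent.SignalizersComponents.Components.quasisimple_not_isMulCommutative hT
      refine ⟨⟨fun a b => ?_⟩⟩
      apply hψ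
      rw [map_mul, map_mul]
      apply mt_inj hM.inj
      obtain ⟨c, hc⟩ := (hM.ker _).1 (h1 a)
      rw [mt_mul, mt_mul, hc, smul_mul_assoc, one_mul, mul_smul_comm, mul_one]
    exact Cfsg.Agent.SignalizersComponents.ComponentImage.isQuasisimple_of_surjective hT
      (π.comp ψ).rangeRestrict (π.comp ψ).rangeRestrict_surjective hnt

end

section Factor

variable {F : Type} [Field F] [Fintype F] {n : ℕ} {L : Type} [Field L] {w : ℕ}
  {φ : Matrix (Fin w) (Fin w) L →ₙ+* Matrix (Fin n) (Fin n) F} {E : Subalgebra F (Matrix (Fin n) (Fin n) F)}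

theorem phi_mul_one (m : Matrix (Fin w) (Fin w) L) : φ m * φ 1 = φ m := by rw [← map_mul, mul_one]
theorem phi_one_mul (m : Matrix (Fin w) (Fin w) L) : φ 1 * φ m = φ m := by rw [← map_mul, one_mul]

theorem phi_mem (hr : ∀ x, (∃ m, φ m = x) ↔ x ∈ E ∧ φ 1 * x = x) (m : Matrix (Fin w) (Fin w) L) : φ m ∈ E :=
  ((hr _).1 ⟨m, rfl⟩).1

/-- `s ↦ φ s + (1 - φ 1)` -/
def psi (φ : Matrix (Fin w) (Fin w) L →ₙ+* Matrix (Fin n) (Fin n) F) :
    Matrix (Fin w) (Fin w) L →* Matrix (Fin n) (Fin n) F where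
  toFun s := φ s + (1 - φ 1)
  map_one' := by rw [add_sub_cancel]
  map_mul' s t := by
    have e1 : φ s * (1 - φ 1) = 0 := by rw [mul_sub, mul_one, phi_mul_one, sub_self]
    have e2 : (1 - φ 1) * φ t = 0 := by rw [sub_mul, one_mul, phi_one_mul, sub_self]
    have e3 : (1 - φ 1) * (1 - φ 1) = 1 - φ 1 := by
      rw [mul_sub, mul_one, sub_mul, one_mul, phi_mul_one, sub_self, sub_zero]
    rw [mul_add, add_mul, add_mul, e1, e2, e3, map_mul, add_zero, zero_add]

theorem psi_apply (s : Matrix (Fin w) (Fin w) L) : psi φ s = φ s + (1 - φ 1) := rfl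

/-- conjugation by the units of `E` -/
theorem conj_phi (hφ : Function.Injective φ) (hr : ∀ x, (∃ m, φ m = x) ↔ x ∈ E ∧ φ 1 * x = x)
    (hc : ∀ x ∈ E, φ 1 * x = x * φ 1) {u v : Matrix (Fin n) (Fin n) F} (hu : u ∈ E) (hv : v ∈ E) (huv : u * v = 1) :
    ∃ m m' : Matrix (Fin w) (Fin w) L, m * m' = 1 ∧ ∀ s, u * φ s * v = φ (m * s * m') := by
  have h1 : ∀ u ∈ E, ∃ m, φ m = u * φ 1 := by
    intro u hu
    rw [hr]
    refine ⟨mul_mem hu (phi_mem hr 1), ?_⟩
    rw [← hc u hu, ← mul_assoc, ← map_mul, mul_one]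
  obtain ⟨m, hm⟩ := h1 u hu
  obtain ⟨m', hm'⟩ := h1 v hv
  refine ⟨m, m', ?_, ?_⟩
  · apply hφ
    rw [map_mul, hm, hm', mul_assoc, ← mul_assoc (φ 1) v, hc v hv, mul_assoc v, phi_one_mul, ← mul_assoc, huv, one_mul]
  · intro s
    rw [map_mul, map_mul, hm, hm', ← hc v hv, mul_assoc u (φ 1), phi_one_mul, ← mul_assoc, mul_assoc u (φ s) (φ 1),
      phi_mul_one]

theorem psi_conj (hφ : Function.Injective φ) (hr : ∀ x, (∃ m, φ m = x) ↔ x ∈ E ∧ φ 1 * x = x)
    (hc : ∀ x ∈ E, φ 1 * x = x * φ 1) {u v : Matrix (Fin n) (Fin n) F} (hu : u ∈ E) (hv : v ∈ E) (huv : u * v = 1) :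
    ∃ m m' : Matrix (Fin w) (Fin w) L, m * m' = 1 ∧ ∀ s, u * psi φ s * v = psi φ (m * s * m') := by
  obtain ⟨m, m', h1, h2⟩ := conj_phi hφ hr hc hu hv huv
  refine ⟨m, m', h1, fun s => ?_⟩
  rw [psi_apply, psi_apply, mul_add, add_mul, h2, mul_sub, sub_mul, mul_one, huv, ← hc u hu, mul_assoc (φ 1) u, huv, mul_one]

theorem finite_L (hφ : Function.Injective φ) (hw : 1 ≤ w) : Finite L := by
  have h1 : Function.Injective (fun c : L => φ (Matrix.diagonal fun _ => c)) := by
    intro c c' h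
    have h2 := congrFun (congrFun (hφ h) ⟨0, by omega⟩) ⟨0, by omega⟩
    simpa using h2
  exact Finite.of_injective _ h1

/-- `F` embeds in `L` -/
theorem card_le (hφ : Function.Injective φ) (hr : ∀ x, (∃ m, φ m = x) ↔ x ∈ E ∧ φ 1 * x = x) (hw : 1 ≤ w) :
    Nat.card F ≤ Nat.card L := by
  have hfin := finite_L hφ hw
  have h1 : ∀ c : F, ∃ l : L, φ (Matrix.scalar (Fin w) l) = c • φ 1 := by
    intro c
    obtain ⟨m, hm⟩ := (hr (c • φ 1)).2 ⟨E.smul_mem (phi_mem hr 1) c, by rw [mul_smul_comm, ← map_mul, mul_one]⟩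
    have h2 : m ∈ Set.range (Matrix.scalar (Fin w) : L →+* Matrix (Fin w) (Fin w) L) := by
      rw [Matrix.mem_range_scalar_iff_commute_single']
      intro i j
      apply hφ
      rw [map_mul, map_mul, hm, smul_mul_assoc, mul_smul_comm, phi_one_mul, phi_mul_one]
    obtain ⟨l, hl⟩ := h2
    exact ⟨l, by rw [hl, hm]⟩
  choose f hf using h1
  have hf' : Function.Injective f := by
    intro c c' h
    have h2 : c • φ 1 = c' • φ 1 := by rw [← hf, ← hf, h]
    have h3 : φ 1 ≠ 0 := by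
      intro h4
      rw [← map_zero φ] at h4
      have h5 := congrFun (congrFun (hφ h4) ⟨0, by omega⟩) ⟨0, by omega⟩
      simp at h5
    have h4 : (c - c') • φ 1 = 0 := by rw [sub_smul, h2, sub_self]
    rcases smul_eq_zero.1 h4 with h5 | h5
    · exact sub_eq_zero.1 h5
    · exact absurd h5 h3
  exact Nat.card_le_card_of_injective f hf'

theorem card_eq (hφ : Function.Injective φ) (hr : ∀ x, (∃ m, φ m = x) ↔ x ∈ E ∧ φ 1 * x = x) (hw : 1 ≤ w)
    (h3 : Nat.card L ≤ 3) : Nat.card L = Nat.card F ∧ Nat.card F ≤ 3 := by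
  have hfin := finite_L hφ hw
  have h1 := card_le hφ hr hw
  have h2 : 2 ≤ Nat.card F := Finite.one_lt_card
  refine ⟨?_, h1.trans h3⟩
  by_contra hne
  have hF : Nat.card F = 2 := by omega
  have hL : Nat.card L = 3 := by omega
  have e1 : (2 : F) = 0 := by
    have := Nat.cast_card_eq_zero F
    rw [← Nat.card_eq_fintype_card, hF] at this
    exact_mod_cast this
  have hfl : Fintype L := Fintype.ofFinite L
  have e2 : (3 : L) = 0 := by
    have := Nat.cast_card_eq_zero L
    rw [← Nat.card_eq_fintype_card, hL] at this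
    exact_mod_cast this
  have e3 : φ (1 + 1) = 0 := by
    rw [map_add, ← two_smul F, e1, zero_smul]
  rw [← map_zero φ] at e3
  have e4 := congrFun (congrFun (hφ e3) ⟨0, by omega⟩) ⟨0, by omega⟩
  have e5 : (1 : L) + 1 = 0 := by simpa only [_root_.Matrix.add_apply, _root_.Matrix.one_apply_eq, _root_.Matrix.zero_apply] using e4
  have e6 : (1 : L) = 0 := by
    calc (1 : L) = 3 - (1 + 1) := by norm_num
      _ = 0 := by rw [e2, e5, sub_zero]
  exact one_ne_zero e6

end Factor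

section SL

variable {G : Type u} [Group G] [Finite G] {N A : Subgroup G} {r : ℕ} {F : Type} [Field F] [Fintype F] {n : ℕ}

theorem quasi_sl {L : Type} [Field L] [Finite L] {w : ℕ} (hw : 2 ≤ w) (h : ¬ (w = 2 ∧ Nat.card L ≤ 3)) :
    IsQuasisimple (Matrix.SpecialLinearGroup (Fin w) L) := by
  rcases Nat.lt_or_ge w 3 with h1 | h1
  · have h2 : w = 2 := by omega
    subst h2
    exact Cfsg.Agent.SignalizersComponents.SLQuasisimple.isQuasisimple_two (by
      by_contra h3
      exact h ⟨rfl, by omega⟩)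
  · exact Cfsg.Agent.SignalizersComponents.SLQuasisimple.isQuasisimple_of_three_le (by simpa only [_root_.Fintype.card_fin, _root_.ge_iff_le] using h1)

/-- **the simple factors of a proper invariant subalgebra**, linear case -/
theorem comp_sl {π : Matrix.SpecialLinearGroup (Fin n) F →* G} (h : Loc N A r) (hM : Model N (iSL n F) π)
    (E : Subalgebra F (Matrix (Fin n) (Fin n) F)) (hE : _root_.Cfsg.Agent.H607.TW.Inv (iSL n F) π A E) (hne : E ≠ ⊤)
    (L : Type) [Field L] (w : ℕ) (φ : Matrix (Fin w) (Fin w) L →ₙ+* Matrix (Fin n) (Fin n) F) (hφ : Function.Injective φ)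
    (hr : ∀ x, (∃ m, φ m = x) ↔ x ∈ E ∧ φ 1 * x = x) (hc : ∀ x ∈ E, φ 1 * x = x * φ 1) :
    w ≤ 1 ∨ (w = 2 ∧ Nat.card L = Nat.card F ∧ Nat.card F ≤ 3) := by
  rcases Nat.lt_or_ge 1 w with hw | hw
  · right
    have hfin := finite_L hφ (by omega)
    by_cases h3 : w = 2 ∧ Nat.card L ≤ 3
    · exact ⟨h3.1, card_eq hφ hr (by omega) h3.2⟩
    · exfalso
      have hq := quasi_sl (L := L) (by omega) h3
      -- the determinant
      let δ : Matrix.SpecialLinearGroup (Fin w) L →* F :=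
        { toFun := fun s => (psi φ (s : Matrix (Fin w) (Fin w) L)).det
          map_one' := by rw [Matrix.SpecialLinearGroup.coe_one, map_one, Matrix.det_one]
          map_mul' := fun s t => by rw [Matrix.SpecialLinearGroup.coe_mul, map_mul, Matrix.det_mul] }
      have hδ : ∀ s : Matrix.SpecialLinearGroup (Fin w) L, (psi φ (s : Matrix (Fin w) (Fin w) L)).det = 1 := by
        intro s
        have h1 := Cfsg.Agent.SignalizersComponents.CompBasic.hom_eq_one_of_perfect hq.1 δ.toHomUnits s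
        exact congrArg (fun u : Fˣ => (u : F)) h1
      let ψ : Matrix.SpecialLinearGroup (Fin w) L →* Matrix.SpecialLinearGroup (Fin n) F :=
        { toFun := fun s => ⟨psi φ (s : Matrix (Fin w) (Fin w) L), hδ s⟩
          map_one' := Subtype.ext (by
            show psi φ ((1 : Matrix.SpecialLinearGroup (Fin w) L) : Matrix (Fin w) (Fin w) L) = 1
            rw [Matrix.SpecialLinearGroup.coe_one, map_one])
          map_mul' := fun s t => Subtype.ext (by
            show psi φ ((s * t : Matrix.SpecialLinearGroup (Fin w) L) : Matrix (Fin w) (Fin w) L) = psi φ _ * psi φ _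
            rw [Matrix.SpecialLinearGroup.coe_mul, map_mul]) }
      have hmt : ∀ s, _root_.Cfsg.Agent.H607.TW.mt (iSL n F) (ψ s) = psi φ (s : Matrix (Fin w) (Fin w) L) := fun s => rfl
      have hψ : Function.Injective ψ := by
        intro s t hst
        have h1 : psi φ (s : Matrix (Fin w) (Fin w) L) = psi φ (t : Matrix (Fin w) (Fin w) L) := by
          rw [← hmt, ← hmt, hst]
        rw [psi_apply, psi_apply] at h1
        exact Subtype.ext (hφ (add_right_cancel h1))
      have hfS : Finite (Matrix.SpecialLinearGroup (Fin n) F) := finite_S hM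
      refine comp_false h hM hE hne hq ψ hψ ?_ ?_
      · intro t
        rw [hmt, psi_apply]
        exact add_mem (phi_mem hr _) (sub_mem (one_mem E) (phi_mem hr 1))
      · intro s hs t
        have hs' : s ∈ HE (iSL n F) E := hs
        obtain ⟨m, m', h1, h2⟩ := psi_conj hφ hr hc hs (mem_HE.1 (inv_mem hs')) (mt_mul_inv s)
        have h4 : (m * (t : Matrix (Fin w) (Fin w) L) * m').det = 1 := by
          rw [Matrix.det_mul, Matrix.det_mul, t.2, mul_one, ← Matrix.det_mul, h1, Matrix.det_one]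
        refine ⟨⟨_, h4⟩, ?_⟩
        apply mt_inj hM.inj
        rw [mt_mul, mt_mul, hmt]
        exact h2 _
  · exact Or.inl hw

end SL

end Cfsg.Agent.H748.TW
end

-- part: H588/TWG/Core
section
/-!
# S3694, T10: involutory graph automorphisms in the extraspecial case, the core (helper588)

* `card_fix_le` : the elements `t` of a subset for which `s_t = (1 + t g)(1 - t g)⁻¹` normalizes the extraspecial group: at most 9;
* `card_le_sq` : `|F| ≤ |Fix σ|²` for an involutory automorphism;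
* `fix_of_perfect` : a ring automorphism inducing the identity on `S / scalars` fixes the elements of `S`;
* `core` : the polynomial equation for `t`.
-/

set_option autoImplicit false

namespace Cfsg.Agent.H588.TWG

open Matrix Subgroup Cfsg.Agent.H607.TW

universe u

section field

variable {F : Type} [Field F] [Fintype F]

open Polynomial in
/-- the roots of a polynomial of degree nine -/
theorem card_fix_le {σ : F ≃+* F} (δ : F)
    (h : ∀ t : F, σ t = t → 1 - δ * t ^ 2 ≠ 0 →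
      t * (1 + δ * t ^ 2) * ((1 + δ * t ^ 2) ^ 2 + 4 * δ * t ^ 2) = 0) :
    Nat.card {t : F // σ t = t} ≤ 9 := by
  classical
  let P : F[X] := (X * (1 + C δ * X ^ 2) * ((1 + C δ * X ^ 2) ^ 2 + 4 * C δ * X ^ 2)) * (1 - C δ * X ^ 2)
  have hP0 : P ≠ 0 := by
    have h1 : P = X * ((1 + C δ * X ^ 2) * ((1 + C δ * X ^ 2) ^ 2 + 4 * C δ * X ^ 2) * (1 - C δ * X ^ 2)) := by
      change (X * (1 + C δ * X ^ 2) * ((1 + C δ * X ^ 2) ^ 2 + 4 * C δ * X ^ 2)) * (1 - C δ * X ^ 2) = _
      ring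
    rw [h1]
    refine mul_ne_zero X_ne_zero ?_
    intro h2
    have h3 := congrArg (Polynomial.eval 0) h2
    simp at h3
  have hdeg : P.natDegree ≤ 9 := by
    change (((X * (1 + C δ * X ^ 2) * ((1 + C δ * X ^ 2) ^ 2 + 4 * C δ * X ^ 2)) * (1 - C δ * X ^ 2)) : F[X]).natDegree ≤ 9
    compute_degree
  have hroot : ∀ t : F, σ t = t → t ∈ P.roots.toFinset := by
    intro t ht
    rw [Multiset.mem_toFinset, mem_roots hP0, IsRoot.def]
    change (((X * (1 + C δ * X ^ 2) * ((1 + C δ * X ^ 2) ^ 2 + 4 * C δ * X ^ 2)) * (1 - C δ * X ^ 2)) : F[X]).eval t = 0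
    by_cases h0 : 1 - δ * t ^ 2 = 0
    · simp only [eval_mul, eval_sub, eval_one, eval_C, eval_pow, eval_X]
      rw [h0, mul_zero]
    · have h1 := h t ht h0
      simp only [eval_mul, eval_sub, eval_one, eval_C, eval_pow, eval_X, eval_add, eval_ofNat]
      rw [h1, zero_mul]
  calc Nat.card {t : F // σ t = t} ≤ Nat.card (P.roots.toFinset : Finset F) :=
        Nat.card_le_card_of_injective (fun t => (⟨t.1, hroot t.1 t.2⟩ : (P.roots.toFinset : Finset F))) fun a b hab => by
          have := congrArg Subtype.val hab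
          exact Subtype.ext this
    _ = P.roots.toFinset.card := by rw [Nat.card_eq_fintype_card, Fintype.card_coe]
    _ ≤ Multiset.card P.roots := Multiset.toFinset_card_le _
    _ ≤ P.natDegree := P.card_roots'
    _ ≤ 9 := hdeg

/-- `|F| ≤ |Fix σ|²` -/
theorem card_le_sq {σ : F ≃+* F} (h2 : (2 : F) ≠ 0) (hσ : ∀ c, σ (σ c) = c) :
    Nat.card F ≤ Nat.card {t : F // σ t = t} * Nat.card {t : F // σ t = t} := by
  classical
  obtain ⟨w, hw⟩ : ∃ w : F, ∀ c : F, σ (w * (c - σ c)) = w * (c - σ c) ∧ (w = 0 → ∀ c, σ c = c) := by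
    by_cases h : ∀ c, σ c = c
    · exact ⟨0, fun c => ⟨by simp, fun _ => h⟩⟩
    · push Not at h
      obtain ⟨y, hy⟩ := h
      refine ⟨y - σ y, fun c => ⟨?_, fun h0 => absurd (sub_eq_zero.1 h0).symm hy⟩⟩
      rw [map_mul, map_sub, map_sub, hσ, hσ]
      ring
  rw [← Nat.card_prod]
  refine Nat.card_le_card_of_injective (fun c : F =>
    ((⟨c + σ c, by rw [map_add, hσ, add_comm]⟩, ⟨w * (c - σ c), (hw c).1⟩) : {t : F // σ t = t} × {t : F // σ t = t})) ?_
  intro a b hab
  have h1 : a + σ a = b + σ b := congrArg (fun p => (p.1 : F)) hab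
  have h3 : w * (a - σ a) = w * (b - σ b) := congrArg (fun p => (p.2 : F)) hab
  by_cases hw0 : w = 0
  · have h4 := (hw 0).2 hw0
    rw [h4, h4] at h1
    have h5 : (2 : F) * a = 2 * b := by linear_combination h1
    exact mul_left_cancel₀ h2 h5
  · have h4 := mul_left_cancel₀ hw0 h3
    have h5 : (2 : F) * a = 2 * b := by linear_combination h1 + h4
    exact mul_left_cancel₀ h2 h5

end field

section perfect

/-- a homomorphism `s ↦ z_s s` with `z_s` central fixes a perfect group -/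
theorem fix_of_perfect {S : Type u} [Group S] (hp : commutator S = ⊤) (f : S →* S)
    (hf : ∀ s, ∃ z : S, (∀ t : S, z * t = t * z) ∧ f s = z * s) (s : S) : f s = s := by
  have h1 : commutator S ≤ MonoidHom.eqLocus f (MonoidHom.id S) := by
    rw [commutator_def, commutator_le]
    intro a _ b _
    change f (a * b * a⁻¹ * b⁻¹) = a * b * a⁻¹ * b⁻¹
    obtain ⟨y, hy, ha⟩ := hf a
    obtain ⟨z, hz, hb⟩ := hf b
    rw [map_mul, map_mul, map_mul, map_inv, map_inv, ha, hb]
    have e1 : y * a * (z * b) * (y * a)⁻¹ * (z * b)⁻¹ = (y * (a * (z * b))) * (a⁻¹ * y⁻¹) * (b⁻¹ * z⁻¹) := by group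
    have e2 : y * (a * (z * b)) = (a * (z * b)) * y := hy _
    have e3 : a * (z * b) = z * (a * b) := by rw [← mul_assoc, ← hz a, mul_assoc]
    have e4 : a * b * (a⁻¹ * b⁻¹) * z = z * (a * b * (a⁻¹ * b⁻¹)) := (hz _).symm
    rw [e1, e2, e3]
    calc z * (a * b) * y * (a⁻¹ * y⁻¹) * (b⁻¹ * z⁻¹) = z * (a * b) * (y * a⁻¹) * y⁻¹ * b⁻¹ * z⁻¹ := by group
      _ = z * (a * b) * (a⁻¹ * y) * y⁻¹ * b⁻¹ * z⁻¹ := by rw [hy a⁻¹]
      _ = z * (a * b * (a⁻¹ * b⁻¹)) * z⁻¹ := by group
      _ = a * b * (a⁻¹ * b⁻¹) * z * z⁻¹ := by rw [e4]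
      _ = _ := by group
  rw [hp] at h1
  exact h1 (mem_top s)

end perfect

end Cfsg.Agent.H588.TWG
end

-- part: H588/TWG/Alg
section
/-!
# S3694, T10: the polynomial equation (helper588)

* `core` : if `g, h` anticommute, `h` and `g` (up to a scalar) lie in the preimage of `E = O_2(A) ∩ N`, and
  `U = (1 + t g)² / (1 - δ t²)` lies in the preimage of `A`, then `t (1 + δ t²) ((1 + δ t²)² + 4 δ t²) = 0`.
* `tt_fix` : a ring automorphism which induces the identity on `N` fixes the matrices of `S`.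
-/

set_option autoImplicit false

namespace Cfsg.Agent.H588.TWG

open Matrix Subgroup Cfsg.Agent.H607.TW

universe u

section ring

variable {F : Type} [Field F] {n : ℕ}

local notation "R" => Matrix (Fin n) (Fin n) F

/-- `U_t = (1 + t g)² / c` -/
def uu (g : R) (c t : F) : R := c⁻¹ • ((1 + t • g) * (1 + t • g))

theorem one_mul_one {g : R} {δ : F} (hg : g * g = δ • (1 : R)) (t : F) :
    (1 + t • g) * (1 + (-t) • g) = (1 - δ * t ^ 2) • (1 : R) := by
  have h1 : (1 + t • g) * (1 + (-t) • g) = 1 - (t * t) • (g * g) := by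
    simp only [add_mul, mul_add, one_mul, mul_one, smul_mul_smul_comm, neg_smul, mul_neg]
    abel
  rw [h1, hg, smul_smul, sub_smul, one_smul]
  congr 2
  ring

theorem uu_mul_neg {g : R} {δ : F} (hg : g * g = δ • (1 : R)) {t : F} (ht : 1 - δ * t ^ 2 ≠ 0) :
    uu g (1 - δ * t ^ 2) t * uu g (1 - δ * t ^ 2) (-t) = 1 := by
  have h1 := one_mul_one hg t
  unfold uu
  rw [smul_mul_smul_comm]
  have h2 : (1 + t • g) * (1 + t • g) * ((1 + (-t) • g) * (1 + (-t) • g)) =
      ((1 - δ * t ^ 2) * (1 - δ * t ^ 2)) • (1 : R) := by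
    calc (1 + t • g) * (1 + t • g) * ((1 + (-t) • g) * (1 + (-t) • g))
        = (1 + t • g) * ((1 + t • g) * (1 + (-t) • g)) * (1 + (-t) • g) := by simp only [mul_assoc]
      _ = ((1 + t • g) * (1 + (-t) • g)) * ((1 - δ * t ^ 2) • (1 : R)) := by
          rw [h1, mul_smul_comm, mul_one, smul_mul_assoc, mul_smul_comm, mul_one, h1]
      _ = _ := by rw [h1, smul_mul_smul_comm, one_mul]
  rw [h2, smul_smul]
  have h3 : (1 - δ * t ^ 2)⁻¹ * (1 - δ * t ^ 2)⁻¹ * ((1 - δ * t ^ 2) * (1 - δ * t ^ 2)) = 1 := by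
    field_simp
  rw [h3, one_smul]

theorem uu_neg_mul {g : R} {δ : F} (hg : g * g = δ • (1 : R)) {t : F} (ht : 1 - δ * t ^ 2 ≠ 0) :
    uu g (1 - δ * t ^ 2) (-t) * uu g (1 - δ * t ^ 2) t = 1 := by
  have h1 := uu_mul_neg hg (t := -t) (by rw [neg_sq]; exact ht)
  rwa [neg_sq, neg_neg] at h1

theorem one_conj {g h : R} (hgh : g * h = -(h * g)) (t : F) : (1 + t • g) * h = h * (1 + (-t) • g) := by
  rw [add_mul, mul_add, one_mul, mul_one, smul_mul_assoc, hgh, mul_smul_comm, smul_neg, neg_smul]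

/-- `h U_t⁻¹ = U_t h` -/
theorem uu_conj {g h : R} (hgh : g * h = -(h * g)) (c t : F) : uu g c t * h = h * uu g c (-t) := by
  unfold uu
  rw [smul_mul_assoc, mul_smul_comm, mul_assoc, one_conj hgh, ← mul_assoc, one_conj hgh, mul_assoc]

/-- `U_t²` -/
theorem uu_sq {g : R} {δ : F} (hg : g * g = δ • (1 : R)) (c t : F) :
    uu g c t * uu g c t = (c⁻¹ * c⁻¹ * ((1 + δ * t ^ 2) ^ 2 + 4 * δ * t ^ 2)) • (1 : R) +
      (c⁻¹ * c⁻¹ * (4 * t * (1 + δ * t ^ 2))) • g := by
  have h1 : (1 + t • g) * (1 + t • g) = (1 + δ * t ^ 2) • (1 : R) + (2 * t) • g := by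
    simp only [add_mul, mul_add, one_mul, mul_one, smul_mul_smul_comm, hg, smul_smul]
    rw [add_smul, one_smul, two_mul, add_smul]
    have : t * t * δ = δ * t ^ 2 := by ring
    rw [this]
    abel
  have h2 : ∀ a b : F, (a • (1 : R) + b • g) * (a • (1 : R) + b • g) = (a * a + b * b * δ) • (1 : R) + (2 * a * b) • g := by
    intro a b
    rw [add_mul, mul_add, mul_add, smul_mul_smul_comm, smul_mul_smul_comm, smul_mul_smul_comm, smul_mul_smul_comm, one_mul,
      mul_one, hg, smul_smul, one_mul, add_smul]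
    have : 2 * a * b = a * b + b * a := by ring
    rw [this, add_smul]
    abel
  unfold uu
  rw [h1, smul_mul_smul_comm, h2, smul_add, smul_smul, smul_smul]
  congr 2 <;> ring

end ring

section core

variable {G : Type u} [Group G] {N A : Subgroup G} {F : Type} [Field F] {n : ℕ} {S : Type} [Group S]
  {ι : S →* Matrix.GeneralLinearGroup (Fin n) F} {π : S →* G}

local notation "R" => Matrix (Fin n) (Fin n) F

theorem mt_mul (s t : S) : _root_.Cfsg.Agent.H607.TW.mt ι (s * t) = _root_.Cfsg.Agent.H607.TW.mt ι s * _root_.Cfsg.Agent.H607.TW.mt ι t := by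
  unfold Cfsg.Agent.H607.TW.mt
  rw [map_mul, Units.val_mul]

theorem mt_one : _root_.Cfsg.Agent.H607.TW.mt ι (1 : S) = 1 := by
  unfold Cfsg.Agent.H607.TW.mt
  rw [map_one, Units.val_one]

theorem mt_mul_inv (s : S) : _root_.Cfsg.Agent.H607.TW.mt ι s * _root_.Cfsg.Agent.H607.TW.mt ι s⁻¹ = 1 := by rw [← mt_mul, mul_inv_cancel, mt_one]

theorem mt_inv_mul (s : S) : _root_.Cfsg.Agent.H607.TW.mt ι s⁻¹ * _root_.Cfsg.Agent.H607.TW.mt ι s = 1 := by rw [← mt_mul, inv_mul_cancel, mt_one]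

theorem mt_inj (hM : Model N ι π) {s t : S} (h : _root_.Cfsg.Agent.H607.TW.mt ι s = _root_.Cfsg.Agent.H607.TW.mt ι t) : s = t :=
  hM.inj (Units.ext h)

theorem mt_inv_eq {s : S} {x : R} (h : _root_.Cfsg.Agent.H607.TW.mt ι s * x = 1) : _root_.Cfsg.Agent.H607.TW.mt ι s⁻¹ = x := by
  calc _root_.Cfsg.Agent.H607.TW.mt ι s⁻¹ = _root_.Cfsg.Agent.H607.TW.mt ι s⁻¹ * (_root_.Cfsg.Agent.H607.TW.mt ι s * x) := by rw [h, mul_one]
    _ = x := by rw [← mul_assoc, mt_inv_mul, one_mul]

/-- two elements with the same image in `N` differ by a scalar -/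
theorem smul_of_eq (hM : Model N ι π) {s t : S} (h : π s = π t) : ∃ c : F, _root_.Cfsg.Agent.H607.TW.mt ι s = c • _root_.Cfsg.Agent.H607.TW.mt ι t := by
  have h1 : π (s * t⁻¹) = 1 := by rw [map_mul, map_inv, h, mul_inv_cancel]
  obtain ⟨c, hc⟩ := (hM.ker _).1 h1
  refine ⟨c, ?_⟩
  calc _root_.Cfsg.Agent.H607.TW.mt ι s = _root_.Cfsg.Agent.H607.TW.mt ι (s * t⁻¹) * _root_.Cfsg.Agent.H607.TW.mt ι t := by rw [← mt_mul]; group
    _ = _ := by rw [hc, smul_mul_assoc, one_mul]

theorem OO_le (r : ℕ) (A : Subgroup G) : OO r A ≤ A := by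
  rintro _ ⟨x, -, rfl⟩
  exact x.2

theorem OO_conj {r : ℕ} {A : Subgroup G} {a x : G} (ha : a ∈ A) (hx : x ∈ OO r A) : a * x * a⁻¹ ∈ OO r A := by
  obtain ⟨y, hy, rfl⟩ := hx
  have hn : (Cfsg.pCore r ↥A).Normal := Cfsg.Agent.Lib.Cores.pCore_normal r
  exact ⟨(⟨a, ha⟩ * y * ⟨a, ha⟩⁻¹ :), hn.conj_mem y hy _, rfl⟩

/-- **The core.** -/
theorem core (h2 : (2 : F) ≠ 0) (hn : N.Normal) (hM : Model N ι π)
    (hcomm : ∀ x ∈ OO 2 A ⊓ N, ∀ y ∈ OO 2 A, x * y = y * x) {g h : R} {δ : F} (hg : g * g = δ • (1 : R)) (hδ : δ ≠ 0)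
    (hgh : g * h = -(h * g)) {s : S} (hs : π s ∈ OO 2 A ⊓ N) (hsh : _root_.Cfsg.Agent.H607.TW.mt ι s = h) {t : F} (ht : 1 - δ * t ^ 2 ≠ 0)
    {u : S} (hu : π u ∈ A) (huu : _root_.Cfsg.Agent.H607.TW.mt ι u = uu g (1 - δ * t ^ 2) t) :
    t * (1 + δ * t ^ 2) * ((1 + δ * t ^ 2) ^ 2 + 4 * δ * t ^ 2) = 0 := by
  have hui : _root_.Cfsg.Agent.H607.TW.mt ι u⁻¹ = uu g (1 - δ * t ^ 2) (-t) := mt_inv_eq (by rw [huu]; exact uu_mul_neg hg ht)
  have h1 : u * s * u⁻¹ = u * u * s := by
    apply mt_inj hM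
    rw [mt_mul, mt_mul, mt_mul, mt_mul, hui, huu, hsh, mul_assoc, ← uu_conj hgh, mul_assoc]
  have h3 : π (u * s * u⁻¹) ∈ OO 2 A ⊓ N := by
    rw [map_mul, map_mul, map_inv]
    exact ⟨OO_conj hu hs.1, hn.conj_mem _ hs.2 _⟩
  have h4 : π (u * u) ∈ OO 2 A ⊓ N := by
    have h5 : π (u * u) = π (u * s * u⁻¹) * (π s)⁻¹ := by rw [h1, map_mul _ (u * u) s]; group
    rw [h5]
    exact mul_mem h3 (inv_mem hs)
  obtain ⟨c, hc⟩ := smul_of_eq hM (s := u * u * s) (t := s * (u * u)) (by
    rw [map_mul, map_mul π s (u * u)]; exact hcomm _ h4 _ hs.1)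
  rw [mt_mul, mt_mul, mt_mul, mt_mul, huu, hsh, uu_sq hg] at hc
  set α := (1 - δ * t ^ 2)⁻¹ * (1 - δ * t ^ 2)⁻¹ * ((1 + δ * t ^ 2) ^ 2 + 4 * δ * t ^ 2) with hα
  set β := (1 - δ * t ^ 2)⁻¹ * (1 - δ * t ^ 2)⁻¹ * (4 * t * (1 + δ * t ^ 2)) with hβ
  have hinv : h * _root_.Cfsg.Agent.H607.TW.mt ι s⁻¹ = 1 := by rw [← hsh, mt_mul_inv]
  have h6 : (α - c * α) • (1 : R) + (β + c * β) • g = 0 := by
    have h7 : ((α - c * α) • (1 : R) + (β + c * β) • g) * h = 0 := by
      have h8 : h * g = -(g * h) := by rw [hgh, neg_neg]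
      rw [add_mul, mul_add, smul_add, smul_mul_assoc, one_mul, smul_mul_assoc, mul_smul_comm, mul_one, mul_smul_comm, h8,
        smul_smul, smul_neg, smul_neg, smul_smul] at hc
      rw [add_mul, smul_mul_assoc, one_mul, smul_mul_assoc, sub_smul, add_smul]
      have h9 : α • h + β • (g * h) - ((c * α) • h + -((c * β) • (g * h))) = 0 := by rw [hc, sub_self]
      rw [← h9]
      abel
    calc (α - c * α) • (1 : R) + (β + c * β) • g
        = ((α - c * α) • (1 : R) + (β + c * β) • g) * h * _root_.Cfsg.Agent.H607.TW.mt ι s⁻¹ := by rw [mul_assoc, hinv, mul_one]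
      _ = 0 := by rw [h7, zero_mul]
  have hn0 : (1 : R) ≠ 0 := by
    intro h0
    have := hM.two
    have h9 := congrArg (fun M : R => M ⟨0, by omega⟩ ⟨0, by omega⟩) h0
    simp at h9
  have hh0 : h ≠ 0 := by
    intro h0
    rw [h0, zero_mul] at hinv
    exact hn0 hinv.symm
  -- `g` is not a scalar
  have hgs : ∀ e : F, g ≠ e • (1 : R) := by
    intro e he
    have h9 : (2 * e) • h = 0 := by
      rw [he, smul_mul_assoc, one_mul, mul_smul_comm, mul_one] at hgh
      rw [two_mul, add_smul]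
      nth_rewrite 1 [hgh]
      simp
    rcases smul_eq_zero.1 h9 with h10 | h10
    · have h11 : e = 0 := (mul_eq_zero.1 h10).resolve_left h2
      rw [he, h11, zero_smul, zero_mul] at hg
      rcases smul_eq_zero.1 hg.symm with h12 | h12
      · exact hδ h12
      · exact hn0 h12
    · exact hh0 h10
  have h10 : β + c * β = 0 := by
    by_contra hne
    apply hgs (-(β + c * β)⁻¹ * (α - c * α))
    have h11 : (β + c * β)⁻¹ • ((α - c * α) • (1 : R) + (β + c * β) • g) = 0 := by rw [h6, smul_zero]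
    rw [smul_add, smul_smul, smul_smul, inv_mul_cancel₀ hne, one_smul] at h11
    rw [neg_mul, neg_smul]
    exact eq_neg_of_add_eq_zero_right h11
  have h11 : α - c * α = 0 := by
    rw [h10, zero_smul, add_zero] at h6
    exact (smul_eq_zero.1 h6).resolve_right hn0
  have h12 : α * β = 0 := by
    have e1 : α * (1 - c) = 0 := by linear_combination h11
    have e2 : β * (1 + c) = 0 := by linear_combination h10
    rcases mul_eq_zero.1 e1 with h13 | h13
    · rw [h13, zero_mul]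
    · rcases mul_eq_zero.1 e2 with h14 | h14
      · rw [h14, mul_zero]
      · exact absurd (by linear_combination h13 + h14) h2
  have hci : (1 - δ * t ^ 2)⁻¹ ≠ 0 := inv_ne_zero ht
  have h4' : (4 : F) ≠ 0 := by
    have : (4 : F) = 2 * 2 := by norm_num
    rw [this]
    exact mul_ne_zero h2 h2
  have h13 : ((1 - δ * t ^ 2)⁻¹ * (1 - δ * t ^ 2)⁻¹ * (1 - δ * t ^ 2)⁻¹ * (1 - δ * t ^ 2)⁻¹ * 4) *
      (t * (1 + δ * t ^ 2) * ((1 + δ * t ^ 2) ^ 2 + 4 * δ * t ^ 2)) = 0 := by
    rw [hα, hβ] at h12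
    linear_combination h12
  refine (mul_eq_zero.1 h13).resolve_left ?_
  exact mul_ne_zero (mul_ne_zero (mul_ne_zero (mul_ne_zero hci hci) hci) hci) h4'

/-- A ring automorphism inducing the identity on `N` fixes the matrices of `S`. -/
theorem tt_fix (hM : Model N ι π) (T : R → R) (hT : ∀ x y, T (x * y) = T x * T y)
    (hl : ∀ s : S, ∃ s' : S, _root_.Cfsg.Agent.H607.TW.mt ι s' = T (_root_.Cfsg.Agent.H607.TW.mt ι s) ∧ π s' = π s) (s : S) : T (_root_.Cfsg.Agent.H607.TW.mt ι s) = _root_.Cfsg.Agent.H607.TW.mt ι s := by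
  choose f hf hf' using hl
  let φ : S →* S :=
    { toFun := f
      map_one' := by
        have h1 : f 1 * f 1 = f 1 := by
          apply mt_inj hM
          rw [mt_mul, hf, ← hT, ← mt_mul, mul_one]
        exact mul_eq_left.1 h1
      map_mul' := by
        intro a b
        apply mt_inj hM
        rw [mt_mul, hf, hf, hf, ← hT, ← mt_mul] }
  have h1 := fix_of_perfect hM.perfect φ (fun s => by
    obtain ⟨c, hc⟩ := smul_of_eq hM (hf' s)
    refine ⟨f s * s⁻¹, fun t => ?_, ?_⟩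
    · apply mt_inj hM
      have h2 : _root_.Cfsg.Agent.H607.TW.mt ι (f s * s⁻¹) = c • (1 : R) := by rw [mt_mul, hc, smul_mul_assoc, mt_mul_inv]
      rw [mt_mul (f s * s⁻¹) t, mt_mul t (f s * s⁻¹), h2, smul_mul_assoc, mul_smul_comm, one_mul, mul_one]
    · change f s = f s * s⁻¹ * s
      group) s
  rw [← hf]
  change _root_.Cfsg.Agent.H607.TW.mt ι (φ s) = _
  rw [h1]

end core

end Cfsg.Agent.H588.TWG
end

-- part: H588/TWG/Sl
section
/-!
# S3694, T10, the linear case (helper588)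

`graph_q_sl` : `x` an involutory graph (or graph-field) automorphism of `PSL_n(F)` centralizing `A ∩ N`, `A ∩ N` extraspecial
type: `|F| ≤ 81`.
-/

set_option autoImplicit false

namespace Cfsg.Agent.H588.TWG

open Matrix Subgroup Cfsg.Agent.H607.TW

universe u

section tau

variable {F : Type} [Field F] {n : ℕ} (B : Matrix.GeneralLinearGroup (Fin n) F) (σ : F ≃+* F)

local notation "R" => Matrix (Fin n) (Fin n) F

theorem coe_inv_mul : ((B⁻¹ : Matrix.GeneralLinearGroup (Fin n) F) : R) * (B : R) = 1 := by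
  rw [← Units.val_mul, inv_mul_cancel, Units.val_one]

theorem coe_mul_inv : (B : R) * ((B⁻¹ : Matrix.GeneralLinearGroup (Fin n) F) : R) = 1 := by
  rw [← Units.val_mul, mul_inv_cancel, Units.val_one]

theorem tauP_mul (x y : R) : tauP B σ (x * y) = tauP B σ x * tauP B σ y := by
  rw [tauP_apply, tauP_apply, tauP_apply]
  have h1 : (x * y).map σ = x.map σ * y.map σ := Matrix.map_mul
  rw [h1]
  calc (B : R) * (x.map σ * y.map σ) * ((B⁻¹ : Matrix.GeneralLinearGroup (Fin n) F) : R)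
      = (B : R) * x.map σ * (((B⁻¹ : Matrix.GeneralLinearGroup (Fin n) F) : R) * (B : R)) * y.map σ *
        ((B⁻¹ : Matrix.GeneralLinearGroup (Fin n) F) : R) := by rw [coe_inv_mul]; simp only [mul_assoc, mul_one]
    _ = _ := by simp only [mul_assoc]

theorem map_smul' (c : F) (x : R) : (c • x).map σ = σ c • x.map σ := by
  ext i j
  simp

theorem tauP_smul (c : F) (x : R) : tauP B σ (c • x) = σ c • tauP B σ x := by
  rw [tauP_apply, tauP_apply, map_smul', mul_smul_comm, smul_mul_assoc]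

theorem tauP_one : tauP B σ (1 : R) = 1 := by
  rw [tauP_apply, Matrix.map_one _ (map_zero σ) (map_one σ), mul_one, coe_mul_inv]

theorem tauM_eq (x : R) : tauM B σ x = tauP B σ xᵀ := rfl

theorem tauM_mul (x y : R) : tauM B σ (x * y) = tauM B σ y * tauM B σ x := by
  rw [tauM_eq, tauM_eq, tauM_eq, Matrix.transpose_mul, tauP_mul]

theorem tauM_smul (c : F) (x : R) : tauM B σ (c • x) = σ c • tauM B σ x := by
  rw [tauM_eq, tauM_eq, Matrix.transpose_smul, tauP_smul]

theorem tauM_one : tauM B σ (1 : R) = 1 := by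
  rw [tauM_eq, Matrix.transpose_one, tauP_one]

end tau

section ind

variable {G : Type u} [Group G] {N A : Subgroup G} {F : Type} [Field F] {n : ℕ} {S : Type} [Group S]
  {ι : S →* Matrix.GeneralLinearGroup (Fin n) F} {π : S →* G}

local notation "R" => Matrix (Fin n) (Fin n) F

theorem not_comm_mat (hn : 2 ≤ n) (h : ∀ x y : R, x * y = y * x) : False := by
  let i : Fin n := ⟨0, by omega⟩
  let j : Fin n := ⟨1, by omega⟩
  have hij : i ≠ j := by
    intro h1
    have := congrArg Fin.val h1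
    simp [i, j] at this
  have h1 := h (Matrix.single i j 1) (Matrix.single j i 1)
  rw [Matrix.single_mul_single_same, Matrix.single_mul_single_same] at h1
  have h2 := congrFun (congrFun h1 i) i
  simp [hij.symm] at h2

theorem ind_tauM (hn : 2 ≤ n) {B : Matrix.GeneralLinearGroup (Fin n) F} {σ : F ≃+* F} {g : G}
    (h : Ind ι π g (tauM B σ)) (s : S) : ∃ s' : S, _root_.Cfsg.Agent.H607.TW.mt ι s' = tauM B σ (_root_.Cfsg.Agent.H607.TW.mt ι s) ∧ (π s')⁻¹ = g * π s * g⁻¹ := by
  rcases h with ⟨h1, -⟩ | ⟨-, h2⟩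
  · exfalso
    refine not_comm_mat (F := F) hn fun x y => (tauM B σ).injective ?_
    rw [h1, tauM_mul]
  · exact h2 s

theorem ind_tauP (hn : 2 ≤ n) {B : Matrix.GeneralLinearGroup (Fin n) F} {σ : F ≃+* F} {g : G}
    (h : Ind ι π g (tauP B σ)) (s : S) : ∃ s' : S, _root_.Cfsg.Agent.H607.TW.mt ι s' = tauP B σ (_root_.Cfsg.Agent.H607.TW.mt ι s) ∧ π s' = g * π s * g⁻¹ := by
  rcases h with ⟨-, h2⟩ | ⟨h1, -⟩
  · exact h2 s
  · exfalso
    refine not_comm_mat (F := F) hn fun x y => (tauP B σ).injective ?_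
    rw [h1, tauP_mul]

/-- the square of an element of the preimage of an elementary abelian `2`-group -/
theorem sq_scal (hM : Model N ι π) {s : S} (h : π s ^ 2 = 1) : ∃ δ : F, _root_.Cfsg.Agent.H607.TW.mt ι s * _root_.Cfsg.Agent.H607.TW.mt ι s = δ • (1 : R) := by
  obtain ⟨c, hc⟩ := (hM.ker (s * s)).1 (by rw [map_mul, ← pow_two, h])
  exact ⟨c, by rw [← mt_mul, hc]⟩

theorem one_ne_zero_mat (hn : 2 ≤ n) : (1 : R) ≠ 0 := by
  intro h0
  have h9 := congrArg (fun M : R => M ⟨0, by omega⟩ ⟨0, by omega⟩) h0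
  simp at h9

theorem mt_ne_zero (hn : 2 ≤ n) (s : S) : _root_.Cfsg.Agent.H607.TW.mt ι s ≠ 0 := by
  intro h
  have h1 := mt_mul_inv (ι := ι) s
  rw [h, zero_mul] at h1
  exact one_ne_zero_mat hn h1.symm

theorem scal_inj (hn : 2 ≤ n) {a b : F} (s : S) (h : a • _root_.Cfsg.Agent.H607.TW.mt ι s = b • _root_.Cfsg.Agent.H607.TW.mt ι s) : a = b :=
  smul_left_injective F (mt_ne_zero hn s) h

/-- anticommuting elements -/
theorem anti (hM : Model N ι π) {s t : S} (hs : π s ^ 2 = 1) (hst : π s * π t = π t * π s)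
    (hne : s * t ≠ t * s) : _root_.Cfsg.Agent.H607.TW.mt ι s * _root_.Cfsg.Agent.H607.TW.mt ι t = -(_root_.Cfsg.Agent.H607.TW.mt ι t * _root_.Cfsg.Agent.H607.TW.mt ι s) := by
  obtain ⟨c, hc⟩ := smul_of_eq hM (s := s * t) (t := t * s) (by rw [map_mul, map_mul, hst])
  obtain ⟨δ, hδ⟩ := sq_scal hM hs
  have hδ0 : δ ≠ 0 := by
    rintro rfl
    rw [zero_smul, ← mt_mul] at hδ
    exact mt_ne_zero hM.two _ hδ
  rw [mt_mul, mt_mul] at hc
  have h3 : δ • _root_.Cfsg.Agent.H607.TW.mt ι t = (c * c * δ) • _root_.Cfsg.Agent.H607.TW.mt ι t := by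
    calc δ • _root_.Cfsg.Agent.H607.TW.mt ι t = _root_.Cfsg.Agent.H607.TW.mt ι s * (_root_.Cfsg.Agent.H607.TW.mt ι s * _root_.Cfsg.Agent.H607.TW.mt ι t) := by rw [← mul_assoc, hδ, smul_mul_assoc, one_mul]
      _ = c • (_root_.Cfsg.Agent.H607.TW.mt ι s * _root_.Cfsg.Agent.H607.TW.mt ι t * _root_.Cfsg.Agent.H607.TW.mt ι s) := by
          nth_rewrite 1 [hc]
          rw [mul_smul_comm, ← mul_assoc]
      _ = (c * c) • (_root_.Cfsg.Agent.H607.TW.mt ι t * (_root_.Cfsg.Agent.H607.TW.mt ι s * _root_.Cfsg.Agent.H607.TW.mt ι s)) := by rw [hc, smul_mul_assoc, smul_smul, mul_assoc]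
      _ = _ := by rw [hδ, mul_smul_comm, mul_one, smul_smul]
  have h4 := scal_inj hM.two t h3
  have h5 : δ * ((1 - c) * (1 + c)) = 0 := by linear_combination h4
  have h6 := (mul_eq_zero.1 h5).resolve_left hδ0
  rcases mul_eq_zero.1 h6 with h7 | h7
  · exfalso
    apply hne
    apply mt_inj hM
    rw [mt_mul, mt_mul, hc]
    have : c = 1 := by linear_combination -h7
    rw [this, one_smul]
  · have : c = -1 := by linear_combination h7
    rw [hc, this, neg_one_smul]

/-- Hilbert 90 for an involutory automorphism -/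
theorem hilbert {σ : F ≃+* F} {c : F} (hc : σ c * c = 1) (h : c ≠ 1 ∨ σ ≠ 1) :
    ∃ l : F, l ≠ 0 ∧ ((∀ y, σ (σ y) = y) → σ l * c = -l) := by
  by_cases h1 : c = 1
  · have h2 : σ ≠ 1 := h.resolve_left fun h3 => h3 h1
    obtain ⟨y, hy⟩ : ∃ y, σ y ≠ y := by
      by_contra hcon
      push Not at hcon
      exact h2 (RingEquiv.ext hcon)
    refine ⟨y - σ y, fun h3 => hy (sub_eq_zero.1 h3).symm, fun hσ => ?_⟩
    rw [map_sub, hσ, h1]
    ring
  · refine ⟨1 - c, fun h3 => h1 (sub_eq_zero.1 h3).symm, fun _ => ?_⟩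
    rw [map_sub, map_one]
    linear_combination -hc

/-- the determinant of `U_t` -/
theorem det_uu {g h h' : R} {δ : F} (hg : g * g = δ • (1 : R)) (hgh : g * h = -(h * g)) (hh : h * h' = 1) {t : F}
    (ht : 1 - δ * t ^ 2 ≠ 0) : (uu g (1 - δ * t ^ 2) t).det = 1 := by
  have h1 := congrArg Matrix.det (one_conj hgh t)
  rw [Matrix.det_mul, Matrix.det_mul, mul_comm] at h1
  have hd : h.det ≠ 0 := by
    intro h0
    have h2 := congrArg Matrix.det hh
    rw [Matrix.det_mul, h0, zero_mul, Matrix.det_one] at h2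
    exact zero_ne_one h2
  have h3 := mul_left_cancel₀ hd h1
  have h4 := congrArg Matrix.det (one_mul_one hg t)
  rw [Matrix.det_mul, ← h3, Matrix.det_smul, Matrix.det_one, mul_one, Fintype.card_fin] at h4
  unfold uu
  rw [Matrix.det_smul, Matrix.det_mul, h4, Fintype.card_fin, ← mul_pow, inv_mul_cancel₀ ht, one_pow]

/-- a lift of an element of `G` centralizing an element of `E` -/
theorem eigen (hM : Model N ι π) {s s' : S} (h : π s' = π s) {T : R → R} (hs' : _root_.Cfsg.Agent.H607.TW.mt ι s' = T (_root_.Cfsg.Agent.H607.TW.mt ι s)) :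
    ∃ c : F, T (_root_.Cfsg.Agent.H607.TW.mt ι s) = c • _root_.Cfsg.Agent.H607.TW.mt ι s := by
  obtain ⟨c, hc⟩ := smul_of_eq hM h
  exact ⟨c, by rw [← hs', hc]⟩

end ind

section sl

variable {G : Type u} [Group G] {N A : Subgroup G} {F : Type} [Field F] {n : ℕ}

local notation "R" => Matrix (Fin n) (Fin n) F

/-- the square of the field automorphism -/
theorem sigma_sq_sl (hn : 2 ≤ n) {B : Matrix.GeneralLinearGroup (Fin n) F} {σ : F ≃+* F}
    (h : ∀ s : Matrix.SpecialLinearGroup (Fin n) F, tauM B σ (tauM B σ (_root_.Cfsg.Agent.H607.TW.mt (iSL n F) s)) = _root_.Cfsg.Agent.H607.TW.mt (iSL n F) s) (c : F) :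
    σ (σ c) = c := by
  let i : Fin n := ⟨0, by omega⟩
  let j : Fin n := ⟨1, by omega⟩
  have hij : i ≠ j := by
    intro h1
    have := congrArg Fin.val h1
    simp [i, j] at this
  have h1 : ∀ c : F, tauM B σ (tauM B σ (Matrix.single i j c)) = Matrix.single i j c := by
    intro c
    have h2 := h ⟨Matrix.transvection i j c, Matrix.det_transvection_of_ne i j hij c⟩
    change tauM B σ (tauM B σ (1 + Matrix.single i j c)) = 1 + Matrix.single i j c at h2
    rw [map_add, map_add, tauM_one, tauM_one] at h2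
    exact add_left_cancel h2
  have h2 : Matrix.single i j c = c • Matrix.single i j (1 : F) := by
    rw [Matrix.smul_single, smul_eq_mul, mul_one]
  have h3 := h1 c
  rw [h2, tauM_smul, tauM_smul, h1 1] at h3
  have h4 := congrFun (congrFun h3 i) j
  rw [Matrix.smul_apply, Matrix.smul_apply, Matrix.single_apply_same, smul_eq_mul, smul_eq_mul, mul_one, mul_one] at h4
  exact h4

end sl

section main

variable {G : Type u} [Group G] {N A : Subgroup G} {F : Type} [Field F] [Fintype F] {n : ℕ}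

local notation "R" => Matrix (Fin n) (Fin n) F

theorem two_ne (hp : ¬ 2 ∣ Fintype.card F) : (2 : F) ≠ 0 := by
  obtain ⟨p, hc⟩ := CharP.exists F
  have hpp : p.Prime := CharP.char_is_prime F p
  intro h
  have h1 : ((2 : ℕ) : F) = 0 := by exact_mod_cast h
  rw [CharP.cast_eq_zero_iff F p] at h1
  have h2 : p = 2 := (Nat.prime_dvd_prime_iff_eq hpp Nat.prime_two).1 h1
  subst h2
  obtain ⟨k, -, hk⟩ := FiniteField.card F 2
  rw [hk] at hp
  exact hp (dvd_pow_self 2 (PNat.ne_zero k))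

theorem graph_q_sl {π : Matrix.SpecialLinearGroup (Fin n) F →* G} (h : Loc N A 2) (hn : 3 ≤ n) (hp : ¬ 2 ∣ Fintype.card F)
    (hM : Model N (iSL n F) π) (hX : Extra (iSL n F) π N A 2) {x : G} (hx2 : x ^ 2 = 1)
    (hcen : ∀ y ∈ A ⊓ N, x * y = y * x) (hle : ∀ y ∈ N, x * y = y * x → y ∈ A)
    {B : Matrix.GeneralLinearGroup (Fin n) F} {σ : F ≃+* F} (hτ : Ind (iSL n F) π x (tauM B σ)) : Nat.card F ≤ 81 := by
  have h2 := two_ne hp
  have hn2 : 2 ≤ n := by omega
  have hlift := ind_tauM hn2 hτ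
  have hxx : x⁻¹ = x := by
    rw [inv_eq_iff_mul_eq_one, ← pow_two, hx2]
  -- `τ² = 1`
  have htt : ∀ s, tauM B σ (tauM B σ (_root_.Cfsg.Agent.H607.TW.mt (iSL n F) s)) = _root_.Cfsg.Agent.H607.TW.mt (iSL n F) s := by
    refine tt_fix hM (fun y => tauM B σ (tauM B σ y)) (fun a b => ?_) fun s => ?_
    · rw [tauM_mul, tauM_mul]
    · obtain ⟨s1, h1, h1'⟩ := hlift s
      obtain ⟨s2, h3, h3'⟩ := hlift s1
      refine ⟨s2, by rw [h3, h1], ?_⟩
      have h4 : π s1 = x * (π s)⁻¹ * x⁻¹ := by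
        rw [← inv_inv (π s1), h1']
        group
      rw [h4] at h3'
      rw [← inv_inv (π s2), h3', hxx]
      have : x * (x * (π s)⁻¹ * x) * x = (π s)⁻¹ := by
        have hxx' : x * x = 1 := by rw [← pow_two, hx2]
        calc x * (x * (π s)⁻¹ * x) * x = (x * x) * (π s)⁻¹ * (x * x) := by group
          _ = _ := by rw [hxx', one_mul, mul_one]
      rw [this, inv_inv]
  have hσσ := sigma_sq_sl hn2 htt
  -- elements of the preimage of `E`
  have hEA : OO 2 A ⊓ N ≤ A ⊓ N := inf_le_inf_right _ (OO_le 2 A)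
  have hE : ∀ s, π s ∈ OO 2 A ⊓ N → ∃ c : F, tauM B σ (_root_.Cfsg.Agent.H607.TW.mt (iSL n F) s) = c • _root_.Cfsg.Agent.H607.TW.mt (iSL n F) s ∧ σ c * c = 1 := by
    intro s hs
    obtain ⟨s1, h1, h1'⟩ := hlift s
    have h3 : π s1 = π s := by
      have h4 : x * π s * x⁻¹ = π s := by
        rw [hcen _ (hEA hs)]
        group
      rw [h4] at h1'
      have h5 : (π s)⁻¹ = π s := by
        rw [inv_eq_iff_mul_eq_one, ← pow_two]
        exact hX.exp _ hs
      rw [← inv_inv (π s1), h1', h5]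
    obtain ⟨c, hc⟩ := eigen hM h3 (T := tauM B σ) h1
    refine ⟨c, hc, ?_⟩
    have h4 := htt s
    rw [hc, tauM_smul, hc, smul_smul] at h4
    exact scal_inj hn2 s (by rw [h4, one_smul])
  -- an element with `τ g = - g`
  obtain ⟨s, t, hs, ht, hst⟩ := hX.nonab
  have hanti : _root_.Cfsg.Agent.H607.TW.mt (iSL n F) s * _root_.Cfsg.Agent.H607.TW.mt (iSL n F) t = -(_root_.Cfsg.Agent.H607.TW.mt (iSL n F) t * _root_.Cfsg.Agent.H607.TW.mt (iSL n F) s) :=
    anti hM (hX.exp _ hs) (hX.comm _ hs _ ht.1) hst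
  obtain ⟨s₁, l, t₁, hs₁, hl, ht₁, hτg, hgh⟩ : ∃ (s₁ : Matrix.SpecialLinearGroup (Fin n) F) (l : F)
      (t₁ : Matrix.SpecialLinearGroup (Fin n) F), π s₁ ∈ OO 2 A ⊓ N ∧ l ≠ 0 ∧ π t₁ ∈ OO 2 A ⊓ N ∧
      tauM B σ (l • _root_.Cfsg.Agent.H607.TW.mt (iSL n F) s₁) = -(l • _root_.Cfsg.Agent.H607.TW.mt (iSL n F) s₁) ∧
      _root_.Cfsg.Agent.H607.TW.mt (iSL n F) s₁ * _root_.Cfsg.Agent.H607.TW.mt (iSL n F) t₁ = -(_root_.Cfsg.Agent.H607.TW.mt (iSL n F) t₁ * _root_.Cfsg.Agent.H607.TW.mt (iSL n F) s₁) := by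
    have key : ∀ s : Matrix.SpecialLinearGroup (Fin n) F, ∀ c : F, tauM B σ (_root_.Cfsg.Agent.H607.TW.mt (iSL n F) s) = c • _root_.Cfsg.Agent.H607.TW.mt (iSL n F) s →
        σ c * c = 1 → (c ≠ 1 ∨ σ ≠ 1) → ∃ l : F, l ≠ 0 ∧
        tauM B σ (l • _root_.Cfsg.Agent.H607.TW.mt (iSL n F) s) = -(l • _root_.Cfsg.Agent.H607.TW.mt (iSL n F) s) := by
      intro s c hc hcc hor
      obtain ⟨l, hl, hl'⟩ := hilbert hcc hor
      refine ⟨l, hl, ?_⟩
      rw [tauM_smul, hc, smul_smul, hl' hσσ, neg_smul]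
    obtain ⟨c, hc, hcc⟩ := hE s hs
    obtain ⟨d, hd, hdd⟩ := hE t ht
    by_cases h3 : c ≠ 1 ∨ σ ≠ 1
    · obtain ⟨l, hl, hl'⟩ := key s c hc hcc h3
      exact ⟨s, l, t, hs, hl, ht, hl', hanti⟩
    · push Not at h3
      by_cases h4 : d ≠ 1
      · obtain ⟨l, hl, hl'⟩ := key t d hd hdd (Or.inl h4)
        exact ⟨t, l, s, ht, hl, hs, hl', by rw [hanti, neg_neg]⟩
      · push Not at h4
        refine ⟨s * t, 1, s, by rw [map_mul]; exact mul_mem hs ht, one_ne_zero, hs, ?_, ?_⟩
        · rw [one_smul, mt_mul, tauM_mul, hc, hd, h3.1, h4, one_smul, one_smul, hanti, neg_neg]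
        · rw [mt_mul, mul_assoc, ← neg_eq_iff_eq_neg.2 hanti, mul_neg]
  obtain ⟨e, he⟩ := sq_scal hM (hX.exp _ hs₁)
  have he0 : e ≠ 0 := by
    rintro rfl
    rw [zero_smul, ← mt_mul] at he
    exact mt_ne_zero hn2 _ he
  set g : R := l • _root_.Cfsg.Agent.H607.TW.mt (iSL n F) s₁ with hgdef
  have hg : g * g = (l * l * e) • (1 : R) := by
    rw [hgdef, smul_mul_smul_comm, he, smul_smul]
  have hδ0 : l * l * e ≠ 0 := mul_ne_zero (mul_ne_zero hl hl) he0
  set δ := l * l * e with hδ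
  have hgh' : g * _root_.Cfsg.Agent.H607.TW.mt (iSL n F) t₁ = -(_root_.Cfsg.Agent.H607.TW.mt (iSL n F) t₁ * g) := by
    rw [hgdef, smul_mul_assoc, hgh, mul_smul_comm, smul_neg]
  have hσδ : σ δ = δ := by
    have h3 := congrArg (tauM B σ) hg
    rw [tauM_mul, hτg, neg_mul_neg, hg, tauM_smul, tauM_one] at h3
    have h4 := smul_left_injective F (one_ne_zero_mat (F := F) hn2) h3
    exact h4.symm
  have hfix : Nat.card {t : F // σ t = t} ≤ 9 := by
    refine card_fix_le δ fun t ht ht0 => ?_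
    have hσc : σ (1 - δ * t ^ 2)⁻¹ = (1 - δ * t ^ 2)⁻¹ := by
      rw [map_inv₀, map_sub, map_one, map_mul, map_pow, hσδ, ht]
    have hdet := det_uu hg hgh' (mt_mul_inv (ι := iSL n F) t₁) ht0
    let u : Matrix.SpecialLinearGroup (Fin n) F := ⟨uu g (1 - δ * t ^ 2) t, hdet⟩
    have hu : _root_.Cfsg.Agent.H607.TW.mt (iSL n F) u = uu g (1 - δ * t ^ 2) t := rfl
    have hτu : tauM B σ (_root_.Cfsg.Agent.H607.TW.mt (iSL n F) u) = uu g (1 - δ * t ^ 2) (-t) := by
      rw [hu]
      unfold uu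
      have h3 : tauM B σ (1 + t • g) = 1 + (-t) • g := by
        rw [map_add, tauM_one, tauM_smul, hτg, ht, smul_neg, neg_smul]
      rw [tauM_smul, tauM_mul, h3, hσc]
    obtain ⟨u', hu', hu''⟩ := hlift u
    have h3 : u' = u⁻¹ := by
      apply mt_inj hM
      rw [hu', hτu]
      exact (mt_inv_eq (by rw [hu]; exact uu_mul_neg hg ht0)).symm
    rw [h3, map_inv, inv_inv] at hu''
    have hN : π u ∈ N := by rw [← hM.range]; exact ⟨u, rfl⟩
    have hA : π u ∈ A := hle _ hN (by
      conv_rhs => rw [hu'']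
      group)
    exact core h2 h.normal hM hX.comm hg hδ0 hgh' ht₁ rfl ht0 hA hu
  calc Nat.card F ≤ Nat.card {t : F // σ t = t} * Nat.card {t : F // σ t = t} := card_le_sq h2 hσσ
    _ ≤ 9 * 9 := Nat.mul_le_mul hfix hfix
    _ = 81 := by norm_num

end main

end Cfsg.Agent.H588.TWG
end

-- part: H588/TWG/Su
section
/-!
# S3694, T10, the unitary case (helper588)

`graph_q_su` : `x` an involutory automorphism of `PSU_n(q)` of graph type centralizing `A ∩ N`, `A ∩ N` of extraspecial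
type: `|F| ≤ 81`.
-/

set_option autoImplicit false
set_option linter.unusedSectionVars false

namespace Cfsg.Agent.H588.TWG

open Matrix Subgroup Cfsg.Agent.H607.TW

universe u

section su

variable {F : Type} [Field F] [Fintype F] {n q : ℕ}

local notation "R" => Matrix (Fin n) (Fin n) F

theorem mem_SU_iff (hq : q ≠ 0) {J : F ≃+* F} (hJ : ∀ a, J a = a ^ q) (g : Matrix.SpecialLinearGroup (Fin n) F) :
    g ∈ Cfsg.SU n F q ↔ (g : R)ᵀ * (g : R).map J = 1 :=
  Cfsg.Agent.H199.PslGraphField.mem_GU_iff' hq hJ (Matrix.SpecialLinearGroup.toGL g)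

/-- the adjoint -/
theorem star_apply (J : F ≃+* F) (x : R) : tauM 1 J x = (x.map J)ᵀ := by
  rw [tauM_apply, inv_one, Units.val_one, one_mul, mul_one]
  rfl

theorem star_star {J : F ≃+* F} (hJJ : ∀ a, J (J a) = a) (x : R) : tauM 1 J (tauM 1 J x) = x := by
  rw [star_apply, star_apply]
  ext i j
  simp [hJJ]

theorem mem_SU_star (hq : q ≠ 0) {J : F ≃+* F} (hJ : ∀ a, J a = a ^ q) (g : Matrix.SpecialLinearGroup (Fin n) F) :
    g ∈ Cfsg.SU n F q ↔ tauM 1 J (g : R) * (g : R) = 1 := by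
  rw [mem_SU_iff hq hJ, star_apply]
  constructor
  · intro h
    have h1 := congrArg Matrix.transpose h
    rwa [Matrix.transpose_mul, Matrix.transpose_transpose, Matrix.transpose_one] at h1
  · intro h
    have h1 := congrArg Matrix.transpose h
    rwa [Matrix.transpose_mul, Matrix.transpose_transpose, Matrix.transpose_one] at h1

theorem star_mt (hq : q ≠ 0) {J : F ≃+* F} (hJ : ∀ a, J a = a ^ q) (s : ↥(Cfsg.SU n F q)) :
    tauM 1 J (_root_.Cfsg.Agent.H607.TW.mt (iSU n F q) s) * _root_.Cfsg.Agent.H607.TW.mt (iSU n F q) s = 1 :=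
  (mem_SU_star hq hJ _).1 s.2

theorem star_mt' (hq : q ≠ 0) {J : F ≃+* F} (hJ : ∀ a, J a = a ^ q) (s : ↥(Cfsg.SU n F q)) :
    tauM 1 J (_root_.Cfsg.Agent.H607.TW.mt (iSU n F q) s) = _root_.Cfsg.Agent.H607.TW.mt (iSU n F q) s⁻¹ := by
  calc tauM 1 J (_root_.Cfsg.Agent.H607.TW.mt (iSU n F q) s) = tauM 1 J (_root_.Cfsg.Agent.H607.TW.mt (iSU n F q) s) * (_root_.Cfsg.Agent.H607.TW.mt (iSU n F q) s * _root_.Cfsg.Agent.H607.TW.mt (iSU n F q) s⁻¹) := by
        rw [mt_mul_inv, mul_one]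
    _ = _ := by rw [← mul_assoc, star_mt hq hJ, one_mul]

theorem exists_J (hF : Fintype.card F = q ^ 2) : ∃ J : F ≃+* F, (∀ a, J a = a ^ q) ∧ (∀ a, J (J a) = a) ∧ q ≠ 0 ∧ J ≠ 1 := by
  obtain ⟨τ, hτ⟩ := Cfsg.Agent.ClassicalGeometry.GUBasic.exists_powHom hF
  have hq := Cfsg.Agent.ClassicalGeometry.GUBasic.two_le hF
  have hbij : Function.Bijective τ := Finite.injective_iff_bijective.1 τ.injective
  refine ⟨RingEquiv.ofBijective τ hbij, hτ, fun a => ?_, by omega, fun h => ?_⟩
  · change τ (τ a) = a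
    rw [hτ, hτ, ← pow_mul, ← pow_two, ← hF, FiniteField.pow_card]
  · have h3 : ∀ x : F, x ^ q = x := by
      intro x
      rw [← hτ]
      exact DFunLike.congr_fun h x
    have h4 : Fintype.card F ≤ q := by
      classical
      have h5 : (Polynomial.X ^ q - Polynomial.X : Polynomial F) ≠ 0 :=
        FiniteField.X_pow_card_sub_X_ne_zero F hq
      have h6 : (Finset.univ : Finset F) ⊆ (Polynomial.X ^ q - Polynomial.X : Polynomial F).roots.toFinset := by
        intro x _
        rw [Multiset.mem_toFinset, Polynomial.mem_roots h5, Polynomial.IsRoot.def]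
        simp [h3 x]
      calc Fintype.card F = (Finset.univ : Finset F).card := rfl
        _ ≤ _ := Finset.card_le_card h6
        _ ≤ _ := Multiset.toFinset_card_le _
        _ ≤ _ := Polynomial.card_roots' _
        _ = q := FiniteField.X_pow_card_sub_X_natDegree_eq F hq
    rw [hF] at h4
    nlinarith only [hq, h4]

/-- a diagonal matrix in `SU` -/
theorem diag_mem (hq : q ≠ 0) {J : F ≃+* F} (hJ : ∀ a, J a = a ^ q) {v : Fin n → F} (hv : ∀ i, v i * J (v i) = 1)
    (hd : ∏ i, v i = 1) : ∃ s : ↥(Cfsg.SU n F q), _root_.Cfsg.Agent.H607.TW.mt (iSU n F q) s = diagonal v := by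
  let g : Matrix.SpecialLinearGroup (Fin n) F := ⟨diagonal v, by rw [Matrix.det_diagonal, hd]⟩
  have hg : g ∈ Cfsg.SU n F q := by
    rw [mem_SU_iff hq hJ]
    change (diagonal v)ᵀ * (diagonal v).map J = 1
    rw [Matrix.diagonal_transpose, Matrix.diagonal_map (map_zero J), Matrix.diagonal_mul_diagonal]
    rw [← Matrix.diagonal_one]
    congr 1
    funext i
    exact hv i
  exact ⟨⟨g, hg⟩, rfl⟩

/-- the vectors `(a, .., a⁻¹, ..)` -/
theorem diag_mem' (hq : q ≠ 0) {J : F ≃+* F} (hJ : ∀ a, J a = a ^ q) {i j : Fin n} (hij : i ≠ j) {a : F}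
    (ha : a * J a = 1) : ∃ s : ↥(Cfsg.SU n F q),
      _root_.Cfsg.Agent.H607.TW.mt (iSU n F q) s = 1 + Matrix.single i i (a - 1) + Matrix.single j j (a⁻¹ - 1) := by
  have ha0 : a ≠ 0 := by
    rintro rfl
    rw [zero_mul] at ha
    exact zero_ne_one ha
  let v : Fin n → F := fun k => if k = i then a else if k = j then a⁻¹ else 1
  have hvi : v i = a := if_pos rfl
  have hvj : v j = a⁻¹ := by
    change (if j = i then a else if j = j then a⁻¹ else 1) = _
    rw [if_neg hij.symm, if_pos rfl]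
  have hvk : ∀ k, k ≠ i → k ≠ j → v k = 1 := fun k h1 h2 => by
    change (if k = i then a else if k = j then a⁻¹ else 1) = _
    rw [if_neg h1, if_neg h2]
  obtain ⟨s, hs⟩ := diag_mem (v := v) hq hJ (fun k => by
    by_cases h1 : k = i
    · rw [h1, hvi, ha]
    · by_cases h2 : k = j
      · rw [h2, hvj, map_inv₀, ← mul_inv, ha, inv_one]
      · rw [hvk k h1 h2, map_one, mul_one]) (by
    rw [Finset.prod_eq_mul i j hij (fun k _ hk => hvk k hk.1 hk.2) (by simp only [_root_.Finset.mem_univ, _root_.not_true_eq_false, _root_.IsEmpty.forall_iff]) (by simp only [_root_.Finset.mem_univ, _root_.not_true_eq_false, _root_.IsEmpty.forall_iff]), hvi, hvj, mul_inv_cancel₀ ha0])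
  refine ⟨s, ?_⟩
  rw [hs]
  ext k l
  by_cases hkl : k = l
  · subst hkl
    rw [Matrix.diagonal_apply_eq, Matrix.add_apply, Matrix.add_apply, Matrix.one_apply_eq]
    by_cases h1 : k = i
    · subst h1
      rw [hvi, Matrix.single_apply_same]
      simp [hij.symm]
    · by_cases h2 : k = j
      · subst h2
        rw [hvj, Matrix.single_apply_same]
        simp [hij]
      · rw [hvk k h1 h2]
        simp [Ne.symm h1, Ne.symm h2]
  · rw [Matrix.diagonal_apply_ne _ hkl, Matrix.add_apply, Matrix.add_apply, Matrix.one_apply_ne hkl]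
    have e1 : ∀ (m : Fin n) (c : F), Matrix.single m m c k l = 0 := by
      intro m c
      rw [Matrix.single_apply]
      apply if_neg
      rintro ⟨h1, h2⟩
      exact hkl (h1.symm.trans h2)
    rw [e1, e1]
    simp

/-- the square of the field automorphism -/
theorem sigma_sq_su (hn : 3 ≤ n) (h2 : (2 : F) ≠ 0) (hF : Fintype.card F = q ^ 2)
    {B : Matrix.GeneralLinearGroup (Fin n) F} {σ : F ≃+* F}
    (h : ∀ s : ↥(Cfsg.SU n F q), tauP B σ (tauP B σ (_root_.Cfsg.Agent.H607.TW.mt (iSU n F q) s)) = _root_.Cfsg.Agent.H607.TW.mt (iSU n F q) s) (c : F) :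
    σ (σ c) = c := by
  obtain ⟨J, hJ, hJJ, hq, hJ1⟩ := exists_J hF
  let i : Fin n := ⟨0, by omega⟩
  let j : Fin n := ⟨1, by omega⟩
  let k : Fin n := ⟨2, by omega⟩
  have hij : i ≠ j := by simp [i, j]
  have hik : i ≠ k := by simp [i, k]
  have hjk : j ≠ k := by simp [j, k]
  -- `T = τ²`
  have h1 : ∀ a : F, a * J a = 1 → ∀ b : F, b * J b = 1 →
      tauP B σ (tauP B σ (Matrix.single i i ((a - 1) * (b - 1)))) = Matrix.single i i ((a - 1) * (b - 1)) := by
    intro a ha b hb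
    obtain ⟨s, hs⟩ := diag_mem' (n := n) hq hJ hij ha
    obtain ⟨t, ht⟩ := diag_mem' (n := n) hq hJ hik hb
    have h3 := h s
    have h4 := h t
    rw [hs, add_assoc, map_add, map_add, tauP_one, tauP_one] at h3
    rw [ht, add_assoc, map_add, map_add, tauP_one, tauP_one] at h4
    have h5 := add_left_cancel h3
    have h6 := add_left_cancel h4
    have h7 : (Matrix.single i i (a - 1) + Matrix.single j j (a⁻¹ - 1)) *
        (Matrix.single i i (b - 1) + Matrix.single k k (b⁻¹ - 1)) = Matrix.single i i ((a - 1) * (b - 1)) := by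
      rw [add_mul, mul_add, mul_add, Matrix.single_mul_single_same, Matrix.single_mul_single_of_ne _ _ _ _ hik,
        Matrix.single_mul_single_of_ne _ _ _ _ hij.symm, Matrix.single_mul_single_of_ne _ _ _ _ hjk]
      simp
    rw [← h7, tauP_mul, tauP_mul, h5, h6]
  have hm1 : (-1 : F) * J (-1) = 1 := by rw [map_neg, map_one]; ring
  have h4 : (4 : F) ≠ 0 := by
    have : (4 : F) = 2 * 2 := by norm_num
    rw [this]
    exact mul_ne_zero h2 h2
  have hs : ∀ c : F, Matrix.single i i c = c • Matrix.single i i (1 : F) := by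
    intro c
    rw [Matrix.smul_single, smul_eq_mul, mul_one]
  have hρ : ∀ m : ℕ, σ (σ (m : F)) = m := by
    intro m
    rw [map_natCast, map_natCast]
  have h5 : tauP B σ (tauP B σ (Matrix.single i i (1 : F))) = Matrix.single i i 1 := by
    have h6 := h1 (-1) hm1 (-1) hm1
    have h7 : ((-1 : F) - 1) * (-1 - 1) = ((4 : ℕ) : F) := by push_cast; ring
    rw [h7, hs, tauP_smul, tauP_smul, hρ] at h6
    have h8 : ((4 : ℕ) : F) ≠ 0 := by exact_mod_cast h4
    exact smul_right_injective R h8 h6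
  have hne : Matrix.single i i (1 : F) ≠ 0 := by
    intro h6
    have h7 := congrFun (congrFun h6 i) i
    rw [Matrix.single_apply_same] at h7
    exact one_ne_zero h7
  -- `ρ = σ²` fixes the elements of norm one
  have h6 : ∀ a : F, a * J a = 1 → σ (σ a) = a := by
    intro a ha
    have h7 := h1 (-1) hm1 a ha
    rw [hs, tauP_smul, tauP_smul, h5] at h7
    have h8 := smul_left_injective F hne h7
    simp only [map_mul, map_sub, map_neg, map_one] at h8
    have h9 : (-2 : F) * (σ (σ a) - 1) = (-2) * (a - 1) := by linear_combination h8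
    have h10 := mul_left_cancel₀ (neg_ne_zero.2 h2) h9
    linear_combination h10
  obtain ⟨z, hz⟩ : ∃ z, J z ≠ z := by
    by_contra hcon
    push Not at hcon
    exact hJ1 (RingEquiv.ext hcon)
  obtain ⟨θ, hθ, hθ0⟩ : ∃ θ : F, J θ = -θ ∧ θ ≠ 0 := by
    refine ⟨z - J z, ?_, fun h7 => hz (sub_eq_zero.1 h7).symm⟩
    rw [map_sub, hJJ]
    ring
  have hkey : ∀ c : F, J c = c → σ (σ c) * θ = c * σ (σ θ) := by
    intro c hc
    have h7 : c + θ ≠ 0 := by
      intro h8
      have h9 : J (c + θ) = 0 := by rw [h8, map_zero]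
      rw [map_add, hc, hθ] at h9
      have h10 : (2 : F) * θ = 0 := by linear_combination h8 - h9
      exact hθ0 ((mul_eq_zero.1 h10).resolve_left h2)
    have h8 : c - θ ≠ 0 := by
      intro h8
      have h9 : J (c - θ) = 0 := by rw [h8, map_zero]
      rw [map_sub, hc, hθ] at h9
      have h10 : (2 : F) * θ = 0 := by linear_combination h9 - h8
      exact hθ0 ((mul_eq_zero.1 h10).resolve_left h2)
    have h9 : ((c + θ) / (c - θ)) * J ((c + θ) / (c - θ)) = 1 := by
      rw [map_div₀, map_add, map_sub, hc, hθ, sub_neg_eq_add, ← sub_eq_add_neg]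
      field_simp
    have h10 := h6 _ h9
    rw [map_div₀, map_div₀, map_add, map_sub, map_add, map_sub] at h10
    have h11 : σ (σ c) - σ (σ θ) ≠ 0 := by
      rw [← map_sub, ← map_sub]
      intro h12
      exact h8 (σ.injective (σ.injective (by rw [h12, map_zero, map_zero])))
    rw [div_eq_div_iff h11 h8] at h10
    have h12 : (2 : F) * (σ (σ c) * θ) = 2 * (c * σ (σ θ)) := by linear_combination -h10
    exact mul_left_cancel₀ h2 h12
  have hθθ : σ (σ θ) = θ := by
    have h7 := hkey 1 (map_one J)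
    rw [map_one, map_one, one_mul, one_mul] at h7
    exact h7.symm
  have hfix : ∀ c : F, J c = c → σ (σ c) = c := by
    intro c hc
    have h7 := hkey c hc
    rw [hθθ] at h7
    exact mul_right_cancel₀ hθ0 h7
  have h7 : (2 : F) * c = (c + J c) + θ * ((c - J c) / θ) := by
    field_simp
    ring
  have h8 : σ (σ (2 * c)) = 2 * c := by
    rw [h7, map_add, map_add, map_mul, map_mul, hθθ, hfix (c + J c) (by rw [map_add, hJJ, add_comm]),
      hfix ((c - J c) / θ) (by
        rw [map_div₀, map_sub, hJJ, hθ, div_neg, ← neg_div, neg_sub])]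
  rw [map_mul, map_mul] at h8
  have h9 : σ (σ (2 : F)) = 2 := by
    have := hρ 2
    exact_mod_cast this
  rw [h9] at h8
  exact mul_left_cancel₀ h2 h8

end su

section main

variable {G : Type u} [Group G] {N A : Subgroup G} {F : Type} [Field F] [Fintype F] {n q : ℕ}

local notation "R" => Matrix (Fin n) (Fin n) F

theorem graph_q_su' (hF : Fintype.card F = q ^ 2) {π : ↥(Cfsg.SU n F q) →* G} (h : Loc N A 2) (hn : 3 ≤ n)
    (hp : ¬ 2 ∣ Fintype.card F) (hM : Model N (iSU n F q) π) (hX : Extra (iSU n F q) π N A 2) {x : G} (hx2 : x ^ 2 = 1)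
    (hcen : ∀ y ∈ A ⊓ N, x * y = y * x) (hle : ∀ y ∈ N, x * y = y * x → y ∈ A)
    {B : Matrix.GeneralLinearGroup (Fin n) F} {σ : F ≃+* F} (hσ : σ ≠ 1) (hτ : Ind (iSU n F q) π x (tauP B σ)) :
    Nat.card F ≤ 81 := by
  have h2 := two_ne hp
  have hn2 : 2 ≤ n := by omega
  have hlift := ind_tauP hn2 hτ
  have hxx : x⁻¹ = x := by
    rw [inv_eq_iff_mul_eq_one, ← pow_two, hx2]
  -- `τ² = 1`
  have htt : ∀ s, tauP B σ (tauP B σ (_root_.Cfsg.Agent.H607.TW.mt (iSU n F q) s)) = _root_.Cfsg.Agent.H607.TW.mt (iSU n F q) s := by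
    refine tt_fix hM (fun y => tauP B σ (tauP B σ y)) (fun a b => ?_) fun s => ?_
    · rw [tauP_mul, tauP_mul]
    · obtain ⟨s1, h1, h1'⟩ := hlift s
      obtain ⟨s2, h3, h3'⟩ := hlift s1
      refine ⟨s2, by rw [h3, h1], ?_⟩
      rw [h3', h1', hxx]
      have hxx' : x * x = 1 := by rw [← pow_two, hx2]
      calc x * (x * π s * x) * x = (x * x) * π s * (x * x) := by group
        _ = _ := by rw [hxx', one_mul, mul_one]
  have hσσ := sigma_sq_su hn h2 hF htt
  have hord : orderOf σ = 2 := orderOf_eq_prime (by ext a; exact hσσ a) hσ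
  have hJ : ∀ a, σ a = a ^ q := Cfsg.Agent.H199.PslGraphField.eq_pow hF hord
  have hq : q ≠ 0 := by
    have := Cfsg.Agent.ClassicalGeometry.GUBasic.two_le hF
    omega
  -- elements of the preimage of `E`
  have hEA : OO 2 A ⊓ N ≤ A ⊓ N := inf_le_inf_right _ (OO_le 2 A)
  have hE : ∀ s, π s ∈ OO 2 A ⊓ N → ∃ (l c : F), l ≠ 0 ∧ tauM 1 σ (l • _root_.Cfsg.Agent.H607.TW.mt (iSU n F q) s) = -(l • _root_.Cfsg.Agent.H607.TW.mt (iSU n F q) s) ∧
      tauP B σ (l • _root_.Cfsg.Agent.H607.TW.mt (iSU n F q) s) = c • (l • _root_.Cfsg.Agent.H607.TW.mt (iSU n F q) s) ∧ (c = 1 ∨ c = -1) := by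
    intro s hs
    -- the adjoint
    obtain ⟨δ, hδ⟩ := sq_scal hM (hX.exp _ hs)
    have hδ0 : δ ≠ 0 := by
      rintro rfl
      rw [zero_smul, ← mt_mul] at hδ
      exact mt_ne_zero hn2 _ hδ
    have hst : tauM 1 σ (_root_.Cfsg.Agent.H607.TW.mt (iSU n F q) s) = δ⁻¹ • _root_.Cfsg.Agent.H607.TW.mt (iSU n F q) s := by
      rw [star_mt' hq hJ]
      apply mt_inv_eq
      rw [mul_smul_comm, hδ, smul_smul, inv_mul_cancel₀ hδ0, one_smul]
    have hst2 : σ δ⁻¹ * δ⁻¹ = 1 := by
      have h3 := star_star hσσ (_root_.Cfsg.Agent.H607.TW.mt (iSU n F q) s)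
      rw [hst, tauM_smul, hst, smul_smul] at h3
      exact scal_inj hn2 s (by rw [h3, one_smul])
    obtain ⟨l, hl, hl'⟩ := hilbert hst2 (Or.inr hσ)
    have hk : tauM 1 σ (l • _root_.Cfsg.Agent.H607.TW.mt (iSU n F q) s) = -(l • _root_.Cfsg.Agent.H607.TW.mt (iSU n F q) s) := by
      rw [tauM_smul, hst, smul_smul, hl' hσσ, neg_smul]
    -- `τ`
    obtain ⟨s1, h1, h1'⟩ := hlift s
    have h3 : π s1 = π s := by
      rw [h1', hcen _ (hEA hs)]
      group
    obtain ⟨c, hc⟩ := eigen hM h3 (T := tauP B σ) h1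
    have hc' : tauP B σ (l • _root_.Cfsg.Agent.H607.TW.mt (iSU n F q) s) = (σ l * c * l⁻¹) • (l • _root_.Cfsg.Agent.H607.TW.mt (iSU n F q) s) := by
      rw [tauP_smul, hc, smul_smul, smul_smul, mul_assoc, inv_mul_cancel₀ hl, mul_one]
    set c' := σ l * c * l⁻¹ with hcdef
    have hlm : ∀ a b : F, a • (l • _root_.Cfsg.Agent.H607.TW.mt (iSU n F q) s) = b • (l • _root_.Cfsg.Agent.H607.TW.mt (iSU n F q) s) → a = b := by
      intro a b hab
      rw [smul_smul, smul_smul] at hab
      exact mul_right_cancel₀ hl (scal_inj hn2 s hab)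
    -- the adjoint commutes with `τ`
    have hcomm : tauP B σ (tauM 1 σ (_root_.Cfsg.Agent.H607.TW.mt (iSU n F q) s)) = tauM 1 σ (tauP B σ (_root_.Cfsg.Agent.H607.TW.mt (iSU n F q) s)) := by
      rw [star_mt' hq hJ, ← h1, star_mt' hq hJ]
      symm
      apply mt_inv_eq
      rw [h1, ← tauP_mul, mt_mul_inv, tauP_one]
    have hcomm' : tauP B σ (tauM 1 σ (l • _root_.Cfsg.Agent.H607.TW.mt (iSU n F q) s)) = tauM 1 σ (tauP B σ (l • _root_.Cfsg.Agent.H607.TW.mt (iSU n F q) s)) := by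
      rw [tauM_smul, tauP_smul, tauP_smul, tauM_smul, hcomm]
    have hσc : σ c' = c' := by
      rw [hk, map_neg, hc', tauM_smul, hk, smul_neg] at hcomm'
      exact (hlm _ _ (neg_injective hcomm')).symm
    have hcc : c' * c' = 1 := by
      have h4 : tauP B σ (tauP B σ (l • _root_.Cfsg.Agent.H607.TW.mt (iSU n F q) s)) = l • _root_.Cfsg.Agent.H607.TW.mt (iSU n F q) s := by
        rw [tauP_smul, tauP_smul, htt, hσσ]
      rw [hc', tauP_smul, hc', smul_smul, hσc] at h4
      exact hlm _ _ (by rw [h4, one_smul])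
    refine ⟨l, c', hl, hk, hc', ?_⟩
    have h5 : (c' - 1) * (c' + 1) = 0 := by linear_combination hcc
    rcases mul_eq_zero.1 h5 with h6 | h6
    · exact Or.inl (by linear_combination h6)
    · exact Or.inr (by linear_combination h6)
  obtain ⟨s, t, hs, ht, hst⟩ := hX.nonab
  have hanti : _root_.Cfsg.Agent.H607.TW.mt (iSU n F q) s * _root_.Cfsg.Agent.H607.TW.mt (iSU n F q) t = -(_root_.Cfsg.Agent.H607.TW.mt (iSU n F q) t * _root_.Cfsg.Agent.H607.TW.mt (iSU n F q) s) :=
    anti hM (hX.exp _ hs) (hX.comm _ hs _ ht.1) hst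
  obtain ⟨s₁, l, t₁, hs₁, hl, ht₁, hsg, hτg, hgh⟩ : ∃ (s₁ : ↥(Cfsg.SU n F q)) (l : F)
      (t₁ : ↥(Cfsg.SU n F q)), π s₁ ∈ OO 2 A ⊓ N ∧ l ≠ 0 ∧ π t₁ ∈ OO 2 A ⊓ N ∧
      tauM 1 σ (l • _root_.Cfsg.Agent.H607.TW.mt (iSU n F q) s₁) = -(l • _root_.Cfsg.Agent.H607.TW.mt (iSU n F q) s₁) ∧
      tauP B σ (l • _root_.Cfsg.Agent.H607.TW.mt (iSU n F q) s₁) = l • _root_.Cfsg.Agent.H607.TW.mt (iSU n F q) s₁ ∧
      _root_.Cfsg.Agent.H607.TW.mt (iSU n F q) s₁ * _root_.Cfsg.Agent.H607.TW.mt (iSU n F q) t₁ = -(_root_.Cfsg.Agent.H607.TW.mt (iSU n F q) t₁ * _root_.Cfsg.Agent.H607.TW.mt (iSU n F q) s₁) := by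
    obtain ⟨l, c, hl, hk, hc, hcc⟩ := hE s hs
    obtain ⟨m, d, hm, hk', hd, hdd⟩ := hE t ht
    rcases hcc with rfl | rfl
    · exact ⟨s, l, t, hs, hl, ht, hk, by rw [hc, one_smul], hanti⟩
    · rcases hdd with rfl | rfl
      · exact ⟨t, m, s, ht, hm, hs, hk', by rw [hd, one_smul], by rw [hanti, neg_neg]⟩
      · have hprod : (l * m) • _root_.Cfsg.Agent.H607.TW.mt (iSU n F q) (s * t) = (l • _root_.Cfsg.Agent.H607.TW.mt (iSU n F q) s) * (m • _root_.Cfsg.Agent.H607.TW.mt (iSU n F q) t) := by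
          rw [smul_mul_smul_comm, mt_mul]
        refine ⟨s * t, l * m, s, by rw [map_mul]; exact mul_mem hs ht, mul_ne_zero hl hm, hs, ?_, ?_, ?_⟩
        · rw [hprod, tauM_mul, hk, hk', neg_mul_neg, smul_mul_smul_comm, smul_mul_smul_comm, hanti, smul_neg, neg_neg,
            mul_comm m l]
        · rw [hprod, tauP_mul, hc, hd, neg_one_smul, neg_one_smul, neg_mul_neg]
        · rw [mt_mul, mul_assoc, ← neg_eq_iff_eq_neg.2 hanti, mul_neg]
  obtain ⟨e, he⟩ := sq_scal hM (hX.exp _ hs₁)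
  have he0 : e ≠ 0 := by
    rintro rfl
    rw [zero_smul, ← mt_mul] at he
    exact mt_ne_zero hn2 _ he
  set g : R := l • _root_.Cfsg.Agent.H607.TW.mt (iSU n F q) s₁ with hgdef
  have hg : g * g = (l * l * e) • (1 : R) := by
    rw [hgdef, smul_mul_smul_comm, he, smul_smul]
  have hδ0 : l * l * e ≠ 0 := mul_ne_zero (mul_ne_zero hl hl) he0
  set δ := l * l * e with hδ
  have hgh' : g * _root_.Cfsg.Agent.H607.TW.mt (iSU n F q) t₁ = -(_root_.Cfsg.Agent.H607.TW.mt (iSU n F q) t₁ * g) := by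
    rw [hgdef, smul_mul_assoc, hgh, mul_smul_comm, smul_neg]
  have hσδ : σ δ = δ := by
    have h3 := congrArg (tauP B σ) hg
    rw [tauP_mul, hτg, hg, tauP_smul, tauP_one] at h3
    have h4 := smul_left_injective F (one_ne_zero_mat (F := F) hn2) h3
    exact h4.symm
  have hfix : Nat.card {t : F // σ t = t} ≤ 9 := by
    refine card_fix_le δ fun t ht ht0 => ?_
    have hσc : σ (1 - δ * t ^ 2)⁻¹ = (1 - δ * t ^ 2)⁻¹ := by
      rw [map_inv₀, map_sub, map_one, map_mul, map_pow, hσδ, ht]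
    have hdet := det_uu hg hgh' (mt_mul_inv (ι := iSU n F q) t₁) ht0
    let u₀ : Matrix.SpecialLinearGroup (Fin n) F := ⟨uu g (1 - δ * t ^ 2) t, hdet⟩
    have hstar : tauM 1 σ (uu g (1 - δ * t ^ 2) t) = uu g (1 - δ * t ^ 2) (-t) := by
      unfold uu
      have h3 : tauM 1 σ (1 + t • g) = 1 + (-t) • g := by
        rw [map_add, tauM_one, tauM_smul, hsg, ht, smul_neg, neg_smul]
      rw [tauM_smul, tauM_mul, h3, hσc]
    have hmem : u₀ ∈ Cfsg.SU n F q := by
      rw [mem_SU_star hq hJ]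
      change tauM 1 σ (uu g (1 - δ * t ^ 2) t) * uu g (1 - δ * t ^ 2) t = 1
      rw [hstar]
      exact uu_neg_mul hg ht0
    let u : ↥(Cfsg.SU n F q) := ⟨u₀, hmem⟩
    have hu : _root_.Cfsg.Agent.H607.TW.mt (iSU n F q) u = uu g (1 - δ * t ^ 2) t := rfl
    have hτu : tauP B σ (_root_.Cfsg.Agent.H607.TW.mt (iSU n F q) u) = uu g (1 - δ * t ^ 2) t := by
      rw [hu]
      unfold uu
      have h3 : tauP B σ (1 + t • g) = 1 + t • g := by
        rw [map_add, tauP_one, tauP_smul, hτg, ht]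
      rw [tauP_smul, tauP_mul, h3, hσc]
    obtain ⟨u', hu', hu''⟩ := hlift u
    have h3 : u' = u := by
      apply mt_inj hM
      rw [hu', hτu, hu]
    rw [h3] at hu''
    have hN : π u ∈ N := by rw [← hM.range]; exact ⟨u, rfl⟩
    have hA : π u ∈ A := hle _ hN (by
      conv_rhs => rw [hu'']
      group)
    exact core h2 h.normal hM hX.comm hg hδ0 hgh' ht₁ rfl ht0 hA hu
  calc Nat.card F ≤ Nat.card {t : F // σ t = t} * Nat.card {t : F // σ t = t} := card_le_sq h2 hσσ
    _ ≤ 9 * 9 := Nat.mul_le_mul hfix hfix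
    _ = 81 := by norm_num

theorem graph_q_su (hF : Fintype.card F = q ^ 2) {π : ↥(Cfsg.SU n F q) →* G} (h : Loc N A 2) (hn : 3 ≤ n)
    (hp : ¬ 2 ∣ Fintype.card F) (hM : Model N (iSU n F q) π) (hX : Extra (iSU n F q) π N A 2) {x : G} (hx2 : x ^ 2 = 1)
    (hcen : ∀ y ∈ A ⊓ N, x * y = y * x) (hle : ∀ y ∈ N, x * y = y * x → y ∈ A)
    {B : Matrix.GeneralLinearGroup (Fin n) F} {σ : F ≃+* F} (hσ : σ ≠ 1) (hτ : Ind (iSU n F q) π x (tauP B σ)) :
    Nat.card F ≤ 10 ^ 4 :=
  (graph_q_su' hF h hn hp hM hX hx2 hcen hle hσ hτ).trans (by norm_num)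

end main

end Cfsg.Agent.H588.TWG
end

private theorem dce_8e8b8bc2c858 : _root_.True := by
  try have : _root_.True := by simp only [_root_.Cfsg.Agent.H607.TW.Dg.congr_simp]
  exact _root_.True.intro
end
end
end
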